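import Mathlib.LinearAlgebra.Eigenspace.Triangularizable
import Mathlib.LinearAlgebra.Dimension.Constructions
import Mathlib.GroupTheory.PGroup
import Mathlib.GroupTheory.QuotientGroup.Basic

/-!
# Irreducible representations of a `q`-group have `q`-power dimension

Any algebraically closed coefficient field.
* `exists_scalar_of_commute`, `finrank_eq_one_of_scalar`, `finrank_eq_pow_of_isPGroup`
-/

set_option autoImplicit false
set_option linter.all false

namespace CfsgLib.Core.HHCritical

open Module

universe u v

/-- No proper nonzero invariant subspace. -/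
def IrrHom {K : Type*} [Field K] {H : Type*} [Group H] {W : Type*} [AddCommGroup W] [Module K W]
    (σ : H →* Module.End K W) : Prop :=
  ∀ U : Submodule K W, (∀ h, ∀ u ∈ U, σ h u ∈ U) → U = ⊥ ∨ U = ⊤

variable {K : Type*} [Field K] [IsAlgClosed K]
variable {H : Type*} [Group H] {W : Type*} [AddCommGroup W] [Module K W] [FiniteDimensional K W]

/-- Schur's lemma. -/
theorem exists_scalar_of_commute {σ : H →* Module.End K W} (hσ : IrrHom σ) [Nontrivial W]
    (f : Module.End K W) (hf : ∀ h, f * σ h = σ h * f) :
    ∃ c : K, f = c • (1 : Module.End K W) := by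
  obtain ⟨c, hc⟩ := Module.End.exists_eigenvalue f
  refine ⟨c, ?_⟩
  have hU : ∀ h, ∀ u ∈ Module.End.eigenspace f c, σ h u ∈ Module.End.eigenspace f c := by
    intro h u hu
    rw [Module.End.mem_eigenspace_iff] at hu ⊢
    rw [← Module.End.mul_apply, hf, Module.End.mul_apply, hu, map_smul]
  rcases hσ _ hU with h | h
  · exact absurd h hc
  · refine LinearMap.ext fun w => ?_
    have hw : w ∈ Module.End.eigenspace f c := h ▸ Submodule.mem_top
    rw [Module.End.mem_eigenspace_iff] at hw
    rw [hw, LinearMap.smul_apply, Module.End.one_apply]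

theorem finrank_eq_one_of_scalar {σ : H →* Module.End K W} (hσ : IrrHom σ) [Nontrivial W]
    (hs : ∀ h, ∃ c : K, σ h = c • (1 : Module.End K W)) : finrank K W = 1 := by
  obtain ⟨w, hw⟩ := exists_ne (0 : W)
  have hU : ∀ h, ∀ u ∈ Submodule.span K ({w} : Set W), σ h u ∈ Submodule.span K ({w} : Set W) := by
    intro h u hu
    obtain ⟨c, hc⟩ := hs h
    rw [hc, LinearMap.smul_apply, Module.End.one_apply]
    exact Submodule.smul_mem _ _ hu
  rcases hσ _ hU with h | h
  · exact absurd (Submodule.span_singleton_eq_bot.1 h) hw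
  · rw [← finrank_top K W, ← h, finrank_span_singleton hw]

theorem finrank_finset_sup_of_indep {ι : Type*} (f : ι → Submodule K W) (hf : iSupIndep f)
    (S : Finset ι) : finrank K (S.sup f : Submodule K W) = ∑ i ∈ S, finrank K (f i) := by
  classical
  induction S using Finset.induction_on with
  | empty => simp
  | @insert a S ha ih =>
    rw [Finset.sup_insert, Finset.sum_insert ha, ← ih, ← Submodule.finrank_sup_add_finrank_inf_eq]
    have hd : Disjoint (f a) (S.sup f) := by
      refine (hf a).mono_right (Finset.sup_le fun i hi => ?_)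
      exact le_iSup₂ (f := fun i (_ : i ≠ a) => f i) i fun h => ha (h ▸ hi)
    rw [disjoint_iff.1 hd, finrank_bot, add_zero]

theorem finrank_pow_aux (q : ℕ) [Fact q.Prime] (d : ℕ) :
    ∀ (H : Type u) [Group H] [Finite H], IsPGroup q H →
      ∀ (W : Type v) [AddCommGroup W] [Module K W] [FiniteDimensional K W] [Nontrivial W]
        (σ : H →* Module.End K W), IrrHom σ → finrank K W = d → ∃ b, d = q ^ b := by
  induction d using Nat.strongRecOn with
  | ind d ih =>
    intro H _ _ hH W _ _ _ _ σ hσ hd
    subst hd
    classical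
    by_cases hall : ∀ h, ∃ c : K, σ h = c • (1 : Module.End K W)
    · exact ⟨0, by rw [finrank_eq_one_of_scalar hσ hall, pow_zero]⟩
    push Not at hall
    have hunit : ∀ h, σ h * σ h⁻¹ = 1 := fun h => by rw [← map_mul, mul_inv_cancel, map_one]
    have hunit' : ∀ h, σ h⁻¹ * σ h = 1 := fun h => by rw [← map_mul, inv_mul_cancel, map_one]
    have hne : ∀ h, σ h ≠ 0 := fun h e => by
      have h1 := hunit h
      rw [e, zero_mul] at h1
      exact zero_ne_one h1
    -- the scalar subgroup
    let S : Subgroup H :=
      { carrier := {h | ∃ c : K, σ h = c • (1 : Module.End K W)}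
        one_mem' := ⟨1, by rw [map_one, one_smul]⟩
        mul_mem' := by
          rintro a b ⟨c, hc⟩ ⟨e, he⟩
          exact ⟨c * e, by rw [map_mul, hc, he, smul_mul_smul_comm, mul_one]⟩
        inv_mem' := by
          rintro a ⟨c, hc⟩
          refine ⟨c⁻¹, ?_⟩
          have hc0 : c ≠ 0 := fun e => hne a (by rw [hc, e, zero_smul])
          have h1 := hunit a
          rw [hc, smul_mul_assoc, one_mul] at h1
          rw [← h1, smul_smul, inv_mul_cancel₀ hc0, one_smul] }
    have hS : S.Normal := by
      refine ⟨?_⟩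
      rintro a ⟨c, hc⟩ g
      exact ⟨c, by rw [map_mul, map_mul, hc, mul_smul_comm, mul_one, smul_mul_assoc, hunit]⟩
    obtain ⟨h₀, hh₀⟩ := hall
    haveI : Nontrivial (H ⧸ S) := by
      refine QuotientGroup.nontrivial_iff.2 fun h => ?_
      obtain ⟨c, hc⟩ : h₀ ∈ S := h ▸ Subgroup.mem_top h₀
      exact hh₀ c hc
    have hcen := (hH.to_quotient S).center_nontrivial
    obtain ⟨⟨z, hz⟩, hz1⟩ := exists_ne (1 : Subgroup.center (H ⧸ S))
    obtain ⟨a, rfl⟩ := QuotientGroup.mk_surjective z
    have haS : a ∉ S := fun h => hz1 (Subtype.ext ((QuotientGroup.eq_one_iff a).2 h))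
    have hcomm : ∀ h, ∃ c : K, c ≠ 0 ∧ σ (h⁻¹ * a * h) = c • σ a := fun h => by
      have : ((h⁻¹ * a * h : H) : H ⧸ S) = (a : H ⧸ S) := by
        rw [QuotientGroup.mk_mul, QuotientGroup.mk_mul, mul_assoc,
          ← Subgroup.mem_center_iff.1 hz, QuotientGroup.mk_inv, inv_mul_cancel_left]
      obtain ⟨c, hc⟩ := QuotientGroup.eq.1 this.symm
      refine ⟨c, fun e => hne _ (hc.trans (by rw [e, zero_smul])), ?_⟩
      rw [show h⁻¹ * a * h = a * (a⁻¹ * (h⁻¹ * a * h)) by group, map_mul, hc, mul_smul_comm, mul_one]
    choose χ hχ0 hχ using hcomm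
    obtain ⟨lam, hlam⟩ := Module.End.exists_eigenvalue (σ a)
    set E := Module.End.eigenspace (σ a) lam with hE
    have hlam0 : lam ≠ 0 := by
      intro e
      obtain ⟨u, hu, hu0⟩ := Submodule.exists_mem_ne_zero_of_ne_bot hlam
      change u ∈ Module.End.eigenspace (σ a) lam at hu
      rw [Module.End.mem_eigenspace_iff, e, zero_smul] at hu
      apply hu0
      rw [← Module.End.one_apply (R := K) u, ← hunit' a, Module.End.mul_apply, hu, map_zero]
    have hmove : ∀ h, ∀ u ∈ E, σ a (σ h u) = (χ h * lam) • σ h u := by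
      intro h u hu
      rw [hE, Module.End.mem_eigenspace_iff] at hu
      have e : σ a * σ h = χ h • (σ h * σ a) := by
        rw [← mul_smul_comm, ← hχ h, ← map_mul, ← map_mul, mul_assoc, mul_inv_cancel_left]
      rw [← Module.End.mul_apply, e, LinearMap.smul_apply, Module.End.mul_apply, hu, map_smul,
        smul_smul]
    have hχmul : ∀ g h, χ (g * h) = χ g * χ h := fun g h => by
      have e : σ ((g * h)⁻¹ * a * (g * h)) = (χ g * χ h) • σ a := by
        rw [show (g * h)⁻¹ * a * (g * h) = h⁻¹ * (g⁻¹ * a * g) * h by group, map_mul, map_mul, hχ g,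
          mul_smul_comm, smul_mul_assoc, ← map_mul, ← map_mul, hχ h, smul_smul]
      rw [hχ] at e
      exact smul_left_injective K (hne a) e
    let χh : H →* K :=
      { toFun := χ
        map_one' := by
          have h := hχmul 1 1
          rw [mul_one] at h
          exact mul_left_cancel₀ (hχ0 1) (h.symm.trans (mul_one _).symm)
        map_mul' := hχmul }
    set T := χh.toHomUnits.ker with hT
    have hTmem : ∀ t, t ∈ T ↔ χ t = 1 := fun t => by
      rw [hT, MonoidHom.mem_ker, Units.ext_iff]; rfl
    have hTE : ∀ t : T, ∀ u ∈ E, σ (t : H) u ∈ E := fun t u hu => by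
      rw [hE, Module.End.mem_eigenspace_iff, hmove _ u hu, (hTmem _).1 t.2, one_mul]
    let σ' : T →* Module.End K E :=
      { toFun := fun t => (σ (t : H)).restrict (hTE t)
        map_one' := LinearMap.ext fun u => Subtype.ext (by simp [LinearMap.restrict_apply])
        map_mul' := fun s t => LinearMap.ext fun u => Subtype.ext (by
          simp [LinearMap.restrict_apply]) }
    -- translates of a `T`-invariant subspace
    haveI : Fintype (H ⧸ T) := Fintype.ofFinite _
    let tr : Submodule K W → H ⧸ T → Submodule K W := fun U c => U.map (σ c.out)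
    have hall : ∀ U : Submodule K W, U ≤ E → U ≠ ⊥ → (∀ t : T, ∀ u ∈ U, σ (t : H) u ∈ U) →
        Finset.univ.sup (tr U) = ⊤ := by
      intro U hUE hU0 hUT
      refine (hσ _ ?_).resolve_left ?_
      · intro h u hu
        rw [← Submodule.mem_comap]
        revert u
        show (Finset.univ.sup (tr U) : Submodule K W) ≤ _
        refine Finset.sup_le fun c _ => ?_
        rintro _ ⟨w, hw, rfl⟩
        rw [Submodule.mem_comap]
        have ht : ((h * c.out : H) : H ⧸ T).out⁻¹ * (h * c.out) ∈ T :=
          QuotientGroup.eq.1 (QuotientGroup.out_eq' _)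
        refine (Finset.le_sup (f := tr U) (Finset.mem_univ ((h * c.out : H) : H ⧸ T))) ?_
        refine ⟨σ (((h * c.out : H) : H ⧸ T).out⁻¹ * (h * c.out)) w, hUT ⟨_, ht⟩ w hw, ?_⟩
        rw [← Module.End.mul_apply, ← map_mul, mul_inv_cancel_left, map_mul, Module.End.mul_apply]
      · intro e
        obtain ⟨u, hu, hu0⟩ := Submodule.exists_mem_ne_zero_of_ne_bot hU0
        have : σ ((1 : H) : H ⧸ T).out u ∈ (⊥ : Submodule K W) :=
          e ▸ (Finset.le_sup (f := tr U) (Finset.mem_univ _)) ⟨u, hu, rfl⟩
        apply hu0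
        rw [← Module.End.one_apply (R := K) u, ← hunit' ((1 : H) : H ⧸ T).out, Module.End.mul_apply,
          (Submodule.mem_bot K).1 this, map_zero]
    have hfr : ∀ (h : H) (U : Submodule K W), finrank K (U.map (σ h)) = finrank K U := fun h U => by
      refine LinearEquiv.finrank_eq (Submodule.equivMapOfInjective (σ h) ?_ U).symm
      intro x y e
      rw [← Module.End.one_apply (R := K) x, ← Module.End.one_apply (R := K) y, ← hunit' h,
        Module.End.mul_apply, Module.End.mul_apply, e]
    have hupper : ∀ U : Submodule K W, U ≤ E → U ≠ ⊥ → (∀ t : T, ∀ u ∈ U, σ (t : H) u ∈ U) →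
        finrank K W ≤ T.index * finrank K U := by
      intro U h1 h2 h3
      have key : ∀ S : Finset (H ⧸ T),
          finrank K (S.sup (tr U) : Submodule K W) ≤ S.card * finrank K U := by
        intro S
        induction S using Finset.induction_on with
        | empty => simp
        | @insert c S hc ih' =>
          rw [Finset.sup_insert, Finset.card_insert_of_notMem hc, add_mul, one_mul, add_comm]
          refine le_trans (Submodule.finrank_add_le_finrank_add_finrank _ _) ?_
          exact Nat.add_le_add (hfr _ U).le ih'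
      have := key Finset.univ
      rwa [hall U h1 h2 h3, finrank_top, Finset.card_univ, ← Nat.card_eq_fintype_card,
        ← Subgroup.index_eq_card] at this
    have hind : iSupIndep (tr E) := by
      have hi : iSupIndep fun c : H ⧸ T =>
          Module.End.eigenspace (σ a) (χ c.out * lam) := by
        refine (Module.End.eigenspaces_iSupIndep (σ a)).comp (f := fun c : H ⧸ T => χ c.out * lam) ?_
        intro c c' e
        have e' : χ c.out = χ c'.out := mul_right_cancel₀ hlam0 e
        rw [← c.out_eq', ← c'.out_eq', QuotientGroup.eq, hTmem]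
        have h1 := hχmul c.out (c.out⁻¹ * c'.out)
        rw [mul_inv_cancel_left, ← e'] at h1
        exact mul_left_cancel₀ (hχ0 c.out) (h1.symm.trans (mul_one _).symm)
      refine hi.mono fun c => ?_
      rintro _ ⟨u, hu, rfl⟩
      rw [Module.End.mem_eigenspace_iff]
      exact hmove _ u hu
    have hE0 : E ≠ ⊥ := hlam
    have hdim : finrank K W = T.index * finrank K E := by
      have h1 := finrank_finset_sup_of_indep (tr E) hind Finset.univ
      rw [hall E le_rfl hE0 hTE, finrank_top] at h1
      rw [h1, Finset.sum_congr rfl fun c _ => hfr _ E, Finset.sum_const, Finset.card_univ,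
        smul_eq_mul, ← Nat.card_eq_fintype_card, ← Subgroup.index_eq_card]
    haveI : Nontrivial E := Submodule.nontrivial_iff_ne_bot.2 hE0
    have hirr : IrrHom σ' := by
      intro U hU
      by_cases hU0 : U = ⊥
      · exact Or.inl hU0
      right
      refine Submodule.eq_top_of_finrank_eq (le_antisymm (Submodule.finrank_le U) ?_)
      have h := hupper (U.map E.subtype) (Submodule.map_subtype_le E U)
        (fun e => hU0 (Submodule.map_injective_of_injective E.subtype_injective
          (e.trans (Submodule.map_bot _).symm))) ?_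
      · rw [Submodule.finrank_map_subtype_eq, hdim] at h
        exact Nat.le_of_mul_le_mul_left h (Nat.pos_of_ne_zero Subgroup.index_ne_zero_of_finite)
      · rintro t _ ⟨u, hu, rfl⟩
        exact ⟨σ' t u, hU t u hu, rfl⟩
    have hTne : T ≠ ⊤ := fun e => by
      apply haS
      refine exists_scalar_of_commute hσ (σ a) fun h => ?_
      have h1 : σ (h⁻¹ * a * h) = σ a := by
        rw [hχ h, (hTmem h).1 (e ▸ Subgroup.mem_top h), one_smul]
      rw [map_mul, map_mul] at h1
      conv_rhs => rw [← h1]
      rw [← mul_assoc, ← mul_assoc, hunit, one_mul]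
    obtain ⟨i, hi⟩ := hH.index T
    have hi1 : 1 < T.index :=
      Nat.one_lt_iff_ne_zero_and_ne_one.2 ⟨Subgroup.index_ne_zero_of_finite,
        fun e => hTne (Subgroup.index_eq_one.1 e)⟩
    have hlt : finrank K E < finrank K W := by
      rw [hdim]
      exact lt_mul_of_one_lt_left Module.finrank_pos hi1
    obtain ⟨j, hj⟩ := ih _ hlt T (hH.to_subgroup T) E σ' hirr rfl
    exact ⟨i + j, by rw [hdim, hi, hj, pow_add]⟩

theorem finrank_eq_pow_of_isPGroup {q : ℕ} [Fact q.Prime] {H : Type*} [Group H] [Finite H]
    (hH : IsPGroup q H) {W : Type*} [AddCommGroup W] [Module K W] [FiniteDimensional K W]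
    [Nontrivial W] (σ : H →* Module.End K W) (hσ : IrrHom σ) : ∃ b, finrank K W = q ^ b :=
  finrank_pow_aux q _ H hH W σ hσ rfl

end CfsgLib.Core.HHCritical
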