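import Cfsg.Agent.Lib.Core.HHCritical.Centralizer
import Cfsg.Agent.Lib.Core.HHCritical.DimPower
import Mathlib.LinearAlgebra.Trace
import Mathlib.LinearAlgebra.Eigenspace.Zero
import Mathlib.Algebra.CharP.Lemmas
import Mathlib.Algebra.CharP.Algebra
import Mathlib.Algebra.Ring.GeomSum
import Mathlib.GroupTheory.Perm.Basic
import Mathlib.RepresentationTheory.Basic

/-!
# The critical case of Hall–Higman's Theorem B

* `hall_higman_critical`
-/

set_option autoImplicit false
set_option linter.all false

namespace CfsgLib.Core.HHCritical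

open Module Polynomial

/-! ### Linear algebra -/

section Rank

variable {K E : Type*} [Field K] [AddCommGroup E] [Module K E] [FiniteDimensional K E]

theorem ker_add_rank_le (D : Module.End K E) (n : ℕ) (hD : D ^ (n + 1) = 0) :
    finrank K (LinearMap.ker D) + n * finrank K (LinearMap.range (D ^ n)) ≤ finrank K E := by
  have key : ∀ j, j ≤ n → (n + 1 - j) * finrank K (LinearMap.range (D ^ n)) ≤
      finrank K (LinearMap.range (D ^ j)) := by
    intro j
    induction hk : n - j generalizing j with
    | zero =>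
      intro hj
      obtain rfl : j = n := by omega
      simp
    | succ k ih =>
      intro hj
      have h1 := ih (j + 1) (by omega) (by omega)
      -- the kernel of `D` on `range (D ^ j)`
      set P := LinearMap.range (D ^ j)
      have h2 := LinearMap.finrank_range_add_finrank_ker (D.comp P.subtype)
      have hr : LinearMap.range (D.comp P.subtype) = LinearMap.range (D ^ (j + 1)) := by
        rw [LinearMap.range_comp, Submodule.range_subtype, pow_succ']
        exact (LinearMap.range_comp (D ^ j) D).symm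
      rw [hr] at h2
      have hle : finrank K (LinearMap.range (D ^ n)) ≤
          finrank K (LinearMap.ker (D.comp P.subtype)) := by
        have hsub : LinearMap.range (D ^ n) ≤ (LinearMap.ker (D.comp P.subtype)).map P.subtype := by
          rintro _ ⟨u, rfl⟩
          have hP : (D ^ n) u ∈ P := ⟨(D ^ (n - j)) u, by
            rw [← Module.End.mul_apply, ← pow_add]; congr 2; omega⟩
          refine ⟨⟨_, hP⟩, ?_, rfl⟩
          rw [SetLike.mem_coe, LinearMap.mem_ker, LinearMap.comp_apply, Submodule.subtype_apply,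
            ← Module.End.mul_apply, ← pow_succ', hD, LinearMap.zero_apply]
        exact (Submodule.finrank_mono hsub).trans (Submodule.finrank_map_subtype_eq _ _).le
      have e : n + 1 - j = (n + 1 - (j + 1)) + 1 := by omega
      rw [e, add_mul, one_mul]
      omega
  rcases Nat.eq_zero_or_pos n with rfl | hn
  · rw [zero_mul, add_zero]; exact Submodule.finrank_le _
  have h1 := key 1 hn
  rw [pow_one, Nat.add_sub_cancel] at h1
  have h2 := LinearMap.finrank_range_add_finrank_ker D
  omega

theorem poly_sub_one_pow (p a : ℕ) [Fact p.Prime] [CharP K p] :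
    ((X : K[X]) - 1) ^ (p ^ a - 1) = ∑ i ∈ Finset.range (p ^ a), (X : K[X]) ^ i := by
  haveI : CharP K[X] p := inferInstance
  refine mul_right_cancel₀ (b := (X : K[X]) - 1) ?_ ?_
  · rw [← map_one C]; exact X_sub_C_ne_zero 1
  · rw [geom_sum_mul, ← pow_succ, Nat.sub_add_cancel (Nat.one_le_pow _ _ (Fact.out : p.Prime).pos),
      sub_pow_char_pow, one_pow]

end Rank

/-- Representatives of the orbits of a permutation of order dividing `m`, free on a stable set. -/
theorem exists_orbit_reps {α : Type*} [Fintype α] (σ : Equiv.Perm α) (m : ℕ) (hm : 0 < m)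
    (hσ : σ ^ m = 1) (free : α → Prop)
    (hfree : ∀ a, free a → ∀ i, 0 < i → i < m → (σ ^ i) a ≠ a) :
    ∃ R : Finset α, ∀ a, free a → ∃! i, i < m ∧ (σ ^ i) a ∈ R := by
  classical
  let rel : Setoid α :=
    { r := fun a b => ∃ i, (σ ^ i) a = b
      iseqv :=
        { refl := fun a => ⟨0, by simp⟩
          symm := by
            rintro a b ⟨i, rfl⟩
            refine ⟨(m - i % m), ?_⟩
            rw [← Equiv.Perm.mul_apply, ← pow_add]
            have : (m - i % m) + i = m * (i / m + 1) := by
              have h1 := Nat.mod_add_div i m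
              have h2 := Nat.mod_lt i hm
              rw [mul_add, mul_one]
              omega
            rw [this, pow_mul, hσ, one_pow, Equiv.Perm.one_apply]
          trans := by
            rintro a b c ⟨i, rfl⟩ ⟨j, rfl⟩
            exact ⟨j + i, by rw [pow_add, Equiv.Perm.mul_apply]⟩ } }
  refine ⟨Finset.univ.filter fun a => (Quotient.mk rel a).out = a, fun a ha => ?_⟩
  obtain ⟨i, hi⟩ : ∃ i, (σ ^ i) a = (Quotient.mk rel a).out :=
    Quotient.exact (Quotient.out_eq (Quotient.mk rel a)).symm
  have hmod : ∀ k, (σ ^ (k % m)) a = (σ ^ k) a := fun k => by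
    conv_rhs => rw [← Nat.mod_add_div k m, pow_add, pow_mul, hσ, one_pow, mul_one]
  refine ⟨i % m, ⟨Nat.mod_lt i hm, ?_⟩, fun j hj => ?_⟩
  · rw [Finset.mem_filter]
    refine ⟨Finset.mem_univ _, ?_⟩
    rw [hmod, hi, Quotient.out_eq]
  · obtain ⟨hjm, hjR⟩ := hj
    rw [Finset.mem_filter] at hjR
    have e : Quotient.mk rel ((σ ^ j) a) = Quotient.mk rel a :=
      Quotient.sound (Setoid.symm (⟨j, rfl⟩ : rel.r a ((σ ^ j) a)))
    rw [e, ← hi, ← hmod i] at hjR
    by_contra hne
    have him := Nat.mod_lt i hm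
    rcases lt_or_gt_of_ne hne with h | h
    · refine hfree a ha (i % m - j) (by omega) (by omega) ?_
      have := hjR.2
      rw [show i % m = j + (i % m - j) by omega, pow_add, Equiv.Perm.mul_apply] at this
      exact (σ ^ j).injective this
    · refine hfree a ha (j - i % m) (by omega) (by omega) ?_
      have := hjR.2
      rw [show j = i % m + (j - i % m) by omega, pow_add, Equiv.Perm.mul_apply] at this
      exact ((σ ^ (i % m)).injective this).symm

/-! ### The theorem -/

section Main

variable {G : Type*} [Group G] [Finite G] {p q : ℕ} [Fact p.Prime] [Fact q.Prime]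

theorem mem_center_of_commute_pow (hpq : p ≠ q) {Q : Subgroup G} (hQ : IsPGroup q Q) {x : G}
    (hx : IsPGroup p (Subgroup.zpowers x))
    (hC : ∀ y ∈ Subgroup.zpowers x, y ≠ 1 →
      Subgroup.centralizer ({y} : Set G) = Subgroup.zpowers x ⊔ Subgroup.center G)
    {g : G} (hg : g ∈ Q) {y : G} (hy : y ∈ Subgroup.zpowers x) (hy1 : y ≠ 1)
    (hcomm : g * y = y * g) : g ∈ Subgroup.center G := by
  have h : g ∈ Subgroup.centralizer ({y} : Set G) :=
    Subgroup.mem_centralizer_singleton_iff.2 hcomm
  rw [hC y hy hy1, Subgroup.mem_sup_of_normal_right] at h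
  obtain ⟨u, hu, z, hz, rfl⟩ := h
  obtain ⟨k, hk⟩ := hx ⟨u, hu⟩
  have hk' : u ^ p ^ k = 1 := congrArg Subtype.val hk
  obtain ⟨j, hj⟩ := hQ ⟨u * z, hg⟩
  have hj' : (u * z) ^ q ^ j = 1 := congrArg Subtype.val hj
  have hcomm' : Commute u z := (Subgroup.mem_center_iff.1 hz u)
  have hpz : (u * z) ^ p ^ k ∈ Subgroup.center G := by
    rw [hcomm'.mul_pow, hk', one_mul]
    exact pow_mem hz _
  have hcop : (p ^ k).Coprime (q ^ j) :=
    Nat.Coprime.pow _ _ ((Nat.coprime_primes Fact.out Fact.out).2 hpq)
  have hord : (orderOf (u * z)).Coprime (p ^ k) :=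
    (hcop.symm).coprime_dvd_left (orderOf_dvd_of_pow_eq_one hj')
  obtain ⟨n, hn⟩ := exists_pow_eq_self_of_coprime hord.symm
  rw [← hn]
  exact pow_mem hpz n

variable {K : Type*} [Field K] [IsAlgClosed K] [CharP K p]
variable {V : Type*} [AddCommGroup V] [Module K V] [FiniteDimensional K V] [Nontrivial V]

theorem hall_higman_critical (hpq : p ≠ q) (Q : Subgroup G) [Q.Normal] (hQ : IsPGroup q Q) (x : G)
    (hx : IsPGroup p (Subgroup.zpowers x))
    (hC : ∀ y ∈ Subgroup.zpowers x, y ≠ 1 →
      Subgroup.centralizer ({y} : Set G) = Subgroup.zpowers x ⊔ Subgroup.center G)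
    (ρ : Representation K G V) (hfaith : Function.Injective ρ)
    (hirr : ∀ W : Submodule K V, (∀ g ∈ Q, Submodule.map (ρ g) W ≤ W) → W = ⊥ ∨ W = ⊤)
    (s : ℕ) (hs : (ρ x - 1) ^ s = 0) (hmin : ∀ k < s, (ρ x - 1) ^ k ≠ 0) :
    Nat.card (Subgroup.zpowers x) - 1 ≤ s ∧ s ≤ Nat.card (Subgroup.zpowers x) ∧
      (s = Nat.card (Subgroup.zpowers x) - 1 →
        (∃ b : ℕ, Nat.card (Subgroup.zpowers x) - 1 = q ^ b) ∧ ¬ IsMulCommutative Q) := by
  classical
  obtain ⟨a, ha⟩ := IsPGroup.iff_card.1 hx
  set m := Nat.card (Subgroup.zpowers x) with hm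
  have hmx : orderOf x = m := (Nat.card_zpowers x).symm
  have hm0 : 0 < m := Nat.card_pos
  haveI : CharP (Module.End K V) p := charP_of_injective_algebraMap
    (RingHom.injective (algebraMap K (Module.End K V))) p
  have hs0 : s ≠ 0 := fun e => by
    rw [e, pow_zero] at hs
    exact one_ne_zero hs
  -- upper bound
  have hupper : (ρ x - 1) ^ m = 0 := by
    rw [ha, sub_pow_char_pow_of_commute p a (Commute.one_right _), one_pow, ← map_pow, ← ha, ← hmx,
      pow_orderOf_eq_one, map_one, sub_self]
  have hsm : s ≤ m := by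
    by_contra h
    exact hmin m (not_le.1 h) hupper
  by_cases hx1 : x = 1
  · have hm1 : m = 1 := by rw [← hmx, hx1, orderOf_one]
    exact ⟨by omega, hsm, fun e => by omega⟩
  have hm2 : 2 ≤ m := by
    rcases Nat.lt_or_ge m 2 with h | h
    · exfalso; apply hx1; rw [← orderOf_eq_one_iff, hmx]; omega
    · exact h
  have hs2 : 2 ≤ s := by
    rcases Nat.lt_or_ge s 2 with h | h
    · exfalso
      obtain rfl : s = 1 := by omega
      rw [pow_one, sub_eq_zero, ← map_one ρ] at hs
      exact hx1 (hfaith hs)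
    · exact h
  set d := finrank K V with hd
  have hsd : s ≤ d := by
    have hnil : IsNilpotent (ρ x - 1) := ⟨s, hs⟩
    have h0 : (ρ x - 1) ^ d = 0 := by
      have h := IsNilpotent.charpoly_eq_X_pow_finrank hnil
      have h' := LinearMap.aeval_self_charpoly (ρ x - 1)
      rwa [h, aeval_X_pow] at h'
    by_contra h
    exact hmin d (not_le.1 h) h0
  -- restriction to `Q`
  let σ : Q →* Module.End K V := ρ.comp Q.subtype
  have hσ : IrrHom σ := fun U hU => hirr U fun g hg => by
    rintro _ ⟨u, hu, rfl⟩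
    exact hU ⟨g, hg⟩ u hu
  haveI : Fintype Q := Fintype.ofFinite _
  have hQK : (Fintype.card Q : K) ≠ 0 := by
    rw [Ne, CharP.cast_eq_zero_iff K p]
    obtain ⟨j, hj⟩ := IsPGroup.iff_card.1 hQ
    rw [← Nat.card_eq_fintype_card, hj]
    intro h
    exact hpq ((Nat.prime_dvd_prime_iff_eq Fact.out Fact.out).1
      ((Fact.out : p.Prime).dvd_of_dvd_pow h))
  -- averages are scalars
  have havg : ∀ g : Module.End K V, ∃ c : K, ∑ h : Q, σ h * g * σ h⁻¹ = c • (1 : Module.End K V) ∧
      c * (d : K) = (Fintype.card Q : K) * LinearMap.trace K V g := by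
    intro g
    obtain ⟨c, hc⟩ := exists_scalar_of_commute hσ (∑ h : Q, σ h * g * σ h⁻¹) fun k => by
      rw [Finset.sum_mul, Finset.mul_sum]
      refine Finset.sum_equiv (Equiv.mulLeft k⁻¹) (fun _ => by simp) fun h _ => ?_
      rw [Equiv.coe_mulLeft, _root_.mul_inv_rev, inv_inv, map_mul, map_mul, mul_assoc (σ k⁻¹),
        ← mul_assoc (σ k), ← mul_assoc (σ k), ← map_mul σ k k⁻¹, mul_inv_cancel, map_one, one_mul]
      simp only [mul_assoc]
    refine ⟨c, hc, ?_⟩
    have h1 := congrArg (LinearMap.trace K V) hc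
    rw [map_sum, map_smul, LinearMap.trace_one, smul_eq_mul] at h1
    have h2 : ∀ h : Q, LinearMap.trace K V (σ h * g * σ h⁻¹) = LinearMap.trace K V g := fun h => by
      rw [LinearMap.trace_mul_comm, ← mul_assoc, ← map_mul, inv_mul_cancel, map_one, one_mul]
    rw [← h1, Finset.sum_congr rfl fun h _ => h2 h, Finset.sum_const, Finset.card_univ,
      nsmul_eq_mul]
  have hdK : (d : K) ≠ 0 := by
    obtain ⟨v, hv⟩ := exists_ne (0 : V)
    obtain ⟨φ, hφ⟩ : ∃ φ : V →ₗ[K] K, φ v = 1 := by
      obtain ⟨φ, hφ⟩ := LinearMap.exists_leftInverse_of_injective (LinearMap.toSpanSingleton K V v)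
        (LinearMap.ker_toSpanSingleton K hv)
      exact ⟨φ, by simpa using LinearMap.congr_fun hφ 1⟩
    obtain ⟨c, -, hc⟩ := havg (φ.smulRight v)
    intro e
    rw [LinearMap.trace_smulRight, hφ, mul_one, e, mul_zero] at hc
    exact hQK hc.symm
  set lam : K := (Fintype.card Q : K) / d with hlam
  have hlam0 : lam ≠ 0 := div_ne_zero hQK hdK
  -- the projection formula
  have hproj : ∀ f : Module.End K V,
      ∑ h : Q, LinearMap.trace K V (f * σ h⁻¹) • σ h = lam • f := by
    intro f
    refine LinearMap.ext fun v => ?_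
    let b := Module.finBasis K V
    have htr : ∀ g : Module.End K V, LinearMap.trace K V g = ∑ i, b.coord i (g (b i)) := by
      intro g
      rw [LinearMap.trace_eq_matrix_trace K b, Matrix.trace]
      exact Finset.sum_congr rfl fun i _ => by
        rw [Matrix.diag_apply, LinearMap.toMatrix_apply]; rfl
    have hone : ∀ i, ∑ h : Q, b.coord i (f (σ h⁻¹ (b i))) • σ h v =
        (lam * b.coord i (f v)) • b i := by
      intro i
      obtain ⟨c, hc, hc'⟩ := havg ((b.coord i ∘ₗ f).smulRight v)
      have h1 := LinearMap.congr_fun hc (b i)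
      rw [LinearMap.sum_apply, LinearMap.smul_apply, Module.End.one_apply] at h1
      rw [LinearMap.trace_smulRight, LinearMap.comp_apply] at hc'
      have hcv : c = lam * b.coord i (f v) := by
        rw [hlam, div_mul_eq_mul_div, eq_div_iff hdK, hc']
      rw [← hcv, ← h1]
      exact Finset.sum_congr rfl fun h _ => by
        simp only [Module.End.mul_apply, LinearMap.smulRight_apply, LinearMap.comp_apply, map_smul]
    rw [LinearMap.sum_apply, LinearMap.smul_apply]
    calc ∑ h : Q, (LinearMap.trace K V (f * σ h⁻¹) • σ h) v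
        = ∑ h : Q, ∑ i, b.coord i (f (σ h⁻¹ (b i))) • σ h v := by
          refine Finset.sum_congr rfl fun h _ => ?_
          rw [LinearMap.smul_apply, htr, Finset.sum_smul]
          rfl
      _ = ∑ i, (lam * b.coord i (f v)) • b i := by
          rw [Finset.sum_comm]; exact Finset.sum_congr rfl fun i _ => hone i
      _ = lam • f v := by
          simp only [mul_smul, ← Finset.smul_sum, Basis.coord_apply, b.sum_repr]
  -- conjugation by `x`
  let T : Module.End K (Module.End K V) := LinearMap.mulLeftRight K (ρ x, ρ x⁻¹)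
  have hT : ∀ (i : ℕ) (f : Module.End K V), (T ^ i) f = ρ (x ^ i) * f * ρ (x ^ i)⁻¹ := by
    intro i
    induction i with
    | zero => intro f; simp
    | succ i ih =>
      intro f
      rw [pow_succ', Module.End.mul_apply, ih,
        show T (ρ (x ^ i) * f * ρ (x ^ i)⁻¹) = ρ x * (ρ (x ^ i) * f * ρ (x ^ i)⁻¹) * ρ x⁻¹ from
          LinearMap.mulLeftRight_apply _ _ _,
        pow_succ', _root_.mul_inv_rev, map_mul, map_mul]
      simp only [mul_assoc]
  set D := T - 1 with hD
  haveI : CharP (Module.End K (Module.End K V)) p := charP_of_injective_algebraMap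
    (RingHom.injective (algebraMap K (Module.End K (Module.End K V)))) p
  have hTm : T ^ m = 1 := LinearMap.ext fun f => by
    rw [hT, ← hmx, pow_orderOf_eq_one, inv_one, map_one, one_mul, mul_one, Module.End.one_apply]
  have hDm : D ^ (m - 1 + 1) = 0 := by
    rw [Nat.sub_add_cancel hm0, hD, ha, sub_pow_char_pow_of_commute p a (Commute.one_right _),
      one_pow, ← ha, hTm, sub_self]
  have hnorm : D ^ (m - 1) = ∑ i ∈ Finset.range m, T ^ i := by
    have h := congrArg (aeval T) (poly_sub_one_pow (K := K) p a)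
    simp only [map_pow, map_sub, aeval_X, map_one, map_sum] at h
    rw [ha]; exact h
  have hker : LinearMap.ker D = commutant (ρ x - 1) := by
    ext f
    rw [LinearMap.mem_ker, mem_commutant, sub_mul, mul_sub, one_mul, mul_one, sub_left_inj, hD,
      LinearMap.sub_apply, Module.End.one_apply, sub_eq_zero,
      show T f = ρ x * f * ρ x⁻¹ from LinearMap.mulLeftRight_apply _ _ _]
    constructor
    · intro h
      conv_rhs => rw [← h]
      rw [mul_assoc, ← map_mul, inv_mul_cancel, map_one, mul_one]
    · intro h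
      rw [h, mul_assoc, ← map_mul, mul_inv_cancel, map_one, mul_one]
  -- the orbits on `Q`
  let c : Equiv.Perm Q :=
    { toFun := fun h => ⟨x * h * x⁻¹, Subgroup.Normal.conj_mem inferInstance _ h.2 x⟩
      invFun := fun h => ⟨x⁻¹ * h * x, by
        simpa using Subgroup.Normal.conj_mem inferInstance (h : G) h.2 x⁻¹⟩
      left_inv := fun h => Subtype.ext (by simp [mul_assoc])
      right_inv := fun h => Subtype.ext (by simp [mul_assoc]) }
  have hc : ∀ (i : ℕ) (h : Q), (((c ^ i) h : Q) : G) = x ^ i * h * (x ^ i)⁻¹ := by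
    intro i
    induction i with
    | zero => intro h; simp
    | succ i ih =>
      intro h
      rw [pow_succ', Equiv.Perm.mul_apply]
      show x * (((c ^ i) h : Q) : G) * x⁻¹ = _
      rw [ih, pow_succ', _root_.mul_inv_rev]
      simp only [mul_assoc]
  have hcm : c ^ m = 1 := Equiv.ext fun h => Subtype.ext (by
    rw [hc, ← hmx, pow_orderOf_eq_one]; simp)
  obtain ⟨R, hR⟩ := exists_orbit_reps c m hm0 hcm (fun h : Q => (h : G) ∉ Subgroup.center G)
    (fun h hh i hi him e => hh (mem_center_of_commute_pow hpq hQ hx hC h.2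
      (Subgroup.pow_mem _ (Subgroup.mem_zpowers x) i)
      (pow_ne_one_of_lt_orderOf hi.ne' (hmx.symm ▸ him))
      (by
        have h1 := congrArg Subtype.val e
        rw [hc] at h1
        exact (mul_inv_eq_iff_eq_mul.1 h1).symm)))
  have hfix : LinearMap.ker D ≤
      Submodule.span K ({1} : Set (Module.End K V)) ⊔ LinearMap.range (D ^ (m - 1)) := by
    intro f hf
    have hTf : T f = f := by
      rwa [LinearMap.mem_ker, hD, LinearMap.sub_apply, Module.End.one_apply, sub_eq_zero] at hf
    have hTfi : ∀ i : ℕ, (T ^ i) f = f := fun i => by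
      induction i with
      | zero => rw [pow_zero]; rfl
      | succ i ih => rw [pow_succ', Module.End.mul_apply, ih, hTf]
    let A : Q → K := fun h => LinearMap.trace K V (f * σ h⁻¹)
    have hA : ∀ (i : ℕ) (h : Q), A ((c ^ i) h) = A h := by
      intro i h
      have e : σ ((c ^ i) h)⁻¹ = ρ (x ^ i) * σ h⁻¹ * ρ (x ^ i)⁻¹ := by
        show ρ ((((c ^ i) h)⁻¹ : Q) : G) = ρ (x ^ i) * ρ ((h⁻¹ : Q) : G) * ρ (x ^ i)⁻¹
        rw [← map_mul, ← map_mul]
        congr 1
        rw [Subgroup.coe_inv, hc, Subgroup.coe_inv]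
        group
      show LinearMap.trace K V (f * σ ((c ^ i) h)⁻¹) = LinearMap.trace K V (f * σ h⁻¹)
      conv_lhs => rw [e, ← hTfi i, hT]
      rw [show ρ (x ^ i) * f * ρ (x ^ i)⁻¹ * (ρ (x ^ i) * σ h⁻¹ * ρ (x ^ i)⁻¹) =
        ρ (x ^ i) * (f * σ h⁻¹) * ρ (x ^ i)⁻¹ by
          simp only [mul_assoc]
          rw [← mul_assoc (ρ (x ^ i)⁻¹) (ρ (x ^ i)), ← map_mul, inv_mul_cancel, map_one, one_mul],
        LinearMap.trace_mul_comm, ← mul_assoc, ← map_mul, inv_mul_cancel, map_one, one_mul]
    have hTσ : ∀ (i : ℕ) (h : Q), (T ^ i) (σ h) = σ ((c ^ i) h) := fun i h => by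
      rw [hT]
      show ρ (x ^ i) * ρ (h : G) * ρ (x ^ i)⁻¹ = ρ (((c ^ i) h : Q) : G)
      rw [← map_mul, ← map_mul, hc]
    have hsplit := Finset.sum_filter_add_sum_filter_not (Finset.univ : Finset Q)
      (fun h : Q => (h : G) ∈ Subgroup.center G) (fun h => A h • σ h)
    rw [hproj f] at hsplit
    have hf' : f = lam⁻¹ • (lam • f) := (inv_smul_smul₀ hlam0 f).symm
    rw [hf', ← hsplit]
    refine Submodule.smul_mem _ _ (Submodule.add_mem_sup (Submodule.sum_mem _ fun h hh => ?_) ?_)
    · rw [Finset.mem_filter] at hh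
      obtain ⟨e, he⟩ := exists_scalar_of_commute hσ (σ h) fun k => by
        rw [← map_mul, ← map_mul]
        exact congrArg σ (Subtype.ext (Subgroup.mem_center_iff.1 hh.2 k).symm)
      rw [he, smul_smul]
      exact Submodule.smul_mem _ _ (Submodule.mem_span_singleton_self _)
    · set S := (Finset.univ : Finset Q).filter fun h : Q => ¬ (h : G) ∈ Subgroup.center G with hS
      have hSc : ∀ (i : ℕ) (h : Q), h ∈ S → (c ^ i) h ∈ S := by
        intro i h hh
        simp only [hS, Finset.mem_filter, Finset.mem_univ, true_and, hc] at hh ⊢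
        intro h'
        apply hh
        simpa [mul_assoc] using (inferInstance : (Subgroup.center G).Normal).conj_mem _ h' (x ^ i)⁻¹
      have key : ∑ h ∈ S, A h • σ h = (D ^ (m - 1)) (∑ h ∈ S.filter (· ∈ R), A h • σ h) := by
        rw [hnorm, LinearMap.sum_apply]
        simp only [map_sum, map_smul, hTσ]
        simp only [Finset.sum_filter]
        symm
        rw [Finset.sum_comm]
        have e1 : ∀ h ∈ S, ∀ i ∈ Finset.range m,
            (if h ∈ R then A h • σ ((c ^ i) h) else 0) =
              (fun k : Q => if (c⁻¹ ^ i) k ∈ R then A k • σ k else 0) ((c ^ i) h) := by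
          intro h _ i _
          have e : (c⁻¹ ^ i) ((c ^ i) h) = h := by
            rw [inv_pow, ← Equiv.Perm.mul_apply, inv_mul_cancel, Equiv.Perm.one_apply]
          simp only [e, hA]
        rw [Finset.sum_congr rfl fun h hh => Finset.sum_congr rfl (e1 h hh), Finset.sum_comm]
        have e2 : ∀ i ∈ Finset.range m,
            ∑ h ∈ S, (fun k : Q => if (c⁻¹ ^ i) k ∈ R then A k • σ k else 0) ((c ^ i) h) =
              ∑ k ∈ S, if (c⁻¹ ^ i) k ∈ R then A k • σ k else 0 := by
          intro i _
          refine Finset.sum_equiv (c ^ i) (fun h => ⟨hSc i h, fun hh => ?_⟩) (fun h _ => rfl)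
          have := hSc (m * i - i) _ hh
          rwa [← Equiv.Perm.mul_apply, ← pow_add, Nat.sub_add_cancel (Nat.le_mul_of_pos_left i hm0),
            pow_mul, hcm, one_pow, Equiv.Perm.one_apply] at this
        rw [Finset.sum_congr rfl e2, Finset.sum_comm]
        refine Finset.sum_congr rfl fun k hk => ?_
        obtain ⟨i₀, ⟨hi₀, hiR⟩, huniq⟩ := hR k (by simpa [hS] using hk)
        have hinv : ∀ i, i ≤ m → (c⁻¹ ^ i) = c ^ (m - i) := fun i hi => by
          rw [inv_pow, inv_eq_iff_mul_eq_one, ← pow_add, Nat.add_sub_cancel' hi, hcm]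
        set j₀ := (m - i₀) % m with hj₀
        have hj₀m : j₀ < m := Nat.mod_lt _ hm0
        have hj₀R : (c⁻¹ ^ j₀) k ∈ R := by
          by_cases hi0 : i₀ = 0
          · subst hi0
            rw [hj₀, Nat.sub_zero, Nat.mod_self]
            simpa using hiR
          · rw [hj₀, Nat.mod_eq_of_lt (by omega), hinv _ (by omega),
              show m - (m - i₀) = i₀ by omega]
            exact hiR
        rw [Finset.sum_eq_single j₀, if_pos hj₀R]
        · intro i hi hne
          rw [Finset.mem_range] at hi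
          refine if_neg fun hR' => hne ?_
          rw [hinv i hi.le] at hR'
          have hmod : (c ^ ((m - i) % m)) k ∈ R := by
            rw [← Nat.mod_add_div (m - i) m, pow_add, pow_mul, hcm, one_pow, mul_one] at hR'
            exact hR'
          have := huniq _ ⟨Nat.mod_lt _ hm0, hmod⟩
          rw [hj₀, ← this]
          by_cases hi0 : i = 0
          · subst hi0; simp
          · rw [Nat.mod_eq_of_lt (show m - i < m by omega), show m - (m - i) = i by omega,
              Nat.mod_eq_of_lt hi]
        · intro h; exact absurd (Finset.mem_range.2 hj₀m) h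
      rw [key]
      exact LinearMap.mem_range_self _ _
  have hc1 : finrank K (LinearMap.ker D) ≤ 1 + finrank K (LinearMap.range (D ^ (m - 1))) := by
    refine le_trans (Submodule.finrank_mono hfix) (le_trans
      (Submodule.finrank_add_le_finrank_add_finrank _ _) ?_)
    rw [finrank_span_singleton (one_ne_zero : (1 : Module.End K V) ≠ 0)]
  have hrank := ker_add_rank_le D (m - 1) hDm
  rw [Module.finrank_linearMap K K V V, ← hd] at hrank
  have hcent : d ^ 2 ≤ s * finrank K (LinearMap.ker D) := by
    rw [hker]; exact sq_finrank_le_mul_commutant hs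
  generalize finrank K (LinearMap.ker D) = cc at hc1 hrank hcent
  generalize finrank K (LinearMap.range (D ^ (m - 1))) = r at hc1 hrank
  obtain ⟨n, hn⟩ : ∃ n, m = n + 1 := ⟨m - 1, by omega⟩
  rw [hn] at hsm ⊢
  rw [hn, Nat.add_sub_cancel] at hrank
  rw [Nat.add_sub_cancel]
  have hkey : (n + 1) * d ^ 2 ≤ s * d ^ 2 + s * n := by
    have : (n + 1) * cc ≤ d ^ 2 + n := by
      nlinarith [Nat.mul_le_mul_left n hc1]
    calc (n + 1) * d ^ 2 ≤ (n + 1) * (s * cc) := Nat.mul_le_mul_left _ hcent
      _ = s * ((n + 1) * cc) := by ring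
      _ ≤ s * (d ^ 2 + n) := Nat.mul_le_mul_left _ this
      _ = s * d ^ 2 + s * n := by ring
  have hlow : n ≤ s := by
    by_contra h
    obtain ⟨e, rfl⟩ : ∃ e, n = s + 1 + e := ⟨n - s - 1, by omega⟩
    have h1 : (2 + e) * s ^ 2 ≤ (2 + e) * d ^ 2 :=
      Nat.mul_le_mul_left _ (Nat.pow_le_pow_left hsd 2)
    nlinarith [Nat.mul_le_mul_left ((1 + e) * s) hs2]
  refine ⟨hlow, hsm, fun e => ?_⟩
  subst e
  have hd' : d = s := by
    refine le_antisymm ?_ hsd
    refine (Nat.pow_le_pow_iff_left two_ne_zero).1 ?_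
    nlinarith
  constructor
  · obtain ⟨b, hb⟩ := finrank_eq_pow_of_isPGroup hQ σ hσ
    exact ⟨b, by rw [← hd', hd, hb]⟩
  · intro hcomm
    have h1 : d = 1 := finrank_eq_one_of_scalar hσ fun h =>
      exists_scalar_of_commute hσ (σ h) fun k => by
        rw [← map_mul, ← map_mul]
        exact congrArg σ (hcomm.is_comm.comm h k)
    omega

end Main

end CfsgLib.Core.HHCritical
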