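import Cfsg.Agent.Lib.Core.HHCritical.Clifford
import Cfsg.Agent.Lib.PGroups.FrattiniModule
import Cfsg.Agent.Lib.Core.Coprime
import Mathlib.FieldTheory.IsAlgClosed.AlgebraicClosure
import Mathlib.LinearAlgebra.Matrix.ToLin
import Mathlib.FieldTheory.Minpoly.Field
import Mathlib.GroupTheory.Nilpotent

/-!
# Hall–Higman's Theorem B

* `exists_minimal_moved`, `theorem_b_closed`, `theorem_b`
-/

set_option autoImplicit false

namespace CfsgLib.Core.HHCritical.LinB

open Module Subgroup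
open scoped commutatorElement

section Group

variable {H : Type*} [Group H] [Finite H] {p : ℕ} [Fact p.Prime]

/-- a minimal invariant `q`-subgroup moved by the element of order `p` in `⟨x⟩` -/
theorem exists_minimal_moved (R : Subgroup H) (hR : (Nat.card R).Coprime p) {x : H}
    (hxR : x ∈ normalizer (R : Set H)) {n : ℕ} (hn : orderOf x = p ^ (n + 1))
    (hy : ¬ R ≤ centralizer ({x ^ p ^ n} : Set H)) :
    ∃ (q : ℕ) (_ : Fact q.Prime) (Q : Subgroup H), p ≠ q ∧ IsPGroup q Q ∧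
      x ∈ normalizer (Q : Set H) ∧ ¬ Q ≤ centralizer ({x ^ p ^ n} : Set H) ∧
      ⁅Q, zpowers (x ^ p ^ n)⁆ = Q ∧
      ∀ c ∈ Q, c * x ^ p ^ n = x ^ p ^ n * c → ∀ g ∈ Q, g * c = c * g := by
  classical
  have hpp := (Fact.out : p.Prime)
  set y := x ^ p ^ n with hydef
  set A := zpowers x with hA
  have hAR : A ≤ normalizer (R : Set H) := zpowers_le.2 hxR
  have hAc : (Nat.card A).Coprime (Nat.card R) := by
    rw [hA, Nat.card_zpowers, hn]; exact hR.symm.pow_left _
  have hAs : Group.IsSolvable A :=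
    haveI := (IsPGroup.of_card (n := n + 1) (by rw [hA, Nat.card_zpowers, hn]) :
      IsPGroup p A).isNilpotent
    inferInstance
  obtain ⟨q, hq, P, hP, hPn, hPy⟩ : ∃ (q : ℕ) (_ : Fact q.Prime) (P : Subgroup H),
      IsPGroup q P ∧ (P ≤ R ∧ A ≤ normalizer (P : Set H)) ∧
      ¬ P ≤ centralizer ({y} : Set H) := by
    by_contra hall
    push Not at hall
    refine hy ?_
    have h1 : (Nat.card R) ∣ Nat.card ↥(R ⊓ centralizer ({y} : Set H)) := by
      rw [← Nat.factorization_prime_le_iff_dvd Nat.card_pos.ne' Nat.card_pos.ne']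
      intro q hq
      haveI := Fact.mk hq
      obtain ⟨P, hP⟩ := exists_invariant_sylow hAR hAc (Or.inl hAs) q
      have hle : (P : Subgroup R).map R.subtype ≤ R ⊓ centralizer ({y} : Set H) :=
        le_inf (map_subtype_le _)
          (hall q inferInstance _ (P.isPGroup'.map _) ⟨map_subtype_le _, hP⟩)
      have h2 := card_dvd_of_le hle
      rw [Subgroup.card_map_of_injective R.subtype_injective, P.card_eq_multiplicity] at h2
      exact (hq.pow_dvd_iff_le_factorization Nat.card_pos.ne').1 h2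
    exact inf_eq_left.1 (eq_of_le_of_card_ge inf_le_left (Nat.le_of_dvd Nat.card_pos h1))
  have hqp : p ≠ q := by
    rintro rfl
    obtain ⟨a, ha⟩ := IsPGroup.iff_card.1 hP
    have hd := (card_dvd_of_le hPn.1)
    rw [ha] at hd
    rcases Nat.eq_zero_or_pos a with rfl | hapos
    · refine hPy fun z hz => ?_
      rw [card_eq_one.1 (ha.trans (pow_zero _)), mem_bot] at hz
      rw [hz]; exact one_mem _
    · exact hpp.ne_one (Nat.eq_one_of_dvd_coprimes hR ((dvd_pow_self p hapos.ne').trans hd) dvd_rfl)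
  obtain ⟨Q, ⟨hQ, hQR, hAQ, hQy⟩, hmin⟩ := Set.exists_min_image
    {Q : Subgroup H | IsPGroup q Q ∧ Q ≤ R ∧ A ≤ normalizer (Q : Set H) ∧
      ¬ Q ≤ centralizer ({y} : Set H)}
    (fun Q => Nat.card Q) (Set.toFinite _) ⟨P, hP, hPn.1, hPn.2, hPy⟩
  have hprop : ∀ L ≤ Q, A ≤ normalizer (L : Set H) → L ≠ Q → L ≤ centralizer ({y} : Set H) := by
    intro L hL hLA hne
    by_contra hc
    exact hne (eq_of_le_of_card_ge hL (hmin L ⟨hQ.to_le hL, hL.trans hQR, hLA, hc⟩))
  set Y := zpowers y with hY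
  have hYA : Y ≤ A := zpowers_le.2 (pow_mem (mem_zpowers x) _)
  have hAY : A ≤ normalizer (Y : Set H) :=
    (le_centralizer_iff.2 fun a ha => mem_centralizer_iff.2 fun b hb => by
      obtain ⟨i, rfl⟩ := mem_zpowers_iff.1 (hYA ha)
      obtain ⟨k, rfl⟩ := mem_zpowers_iff.1 hb
      exact (Commute.refl x).zpow_zpow k i).trans (centralizer_le_normalizer _)
  have hQY : Y ≤ normalizer (Q : Set H) := hYA.trans hAQ
  have hcQ : (Nat.card Y).Coprime (Nat.card Q) :=
    (hAc.coprime_dvd_right (card_dvd_of_le hQR)).coprime_dvd_left (card_dvd_of_le hYA)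
  have hYs : Group.IsSolvable Y := isSolvable_of_le hAs hYA
  have hcent : ∀ L : Subgroup H, L ≤ centralizer ({y} : Set H) → ⁅L, Y⁆ = ⊥ := fun L hL => by
    rw [commutator_eq_bot_iff_le_centralizer, hY, zpowers_eq_closure, centralizer_closure]
    exact hL
  have hcomm : ⁅Q, Y⁆ = Q := by
    by_contra hne
    have hAn : A ≤ normalizer ((⁅Q, Y⁆ : Subgroup H) : Set H) := by
      refine le_normalizer_iff.2 fun a ha z hz => ?_
      have h1 : (⁅Q, Y⁆ : Subgroup H).map (MulAut.conj a).toMonoidHom = ⁅Q, Y⁆ := by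
        rw [map_commutator]
        have e1 := mem_normalizer_iff_map_conj_eq.1 (hAQ ha)
        have e2 := mem_normalizer_iff_map_conj_eq.1 (hAY ha)
        exact congrArg₂ (fun X Z : Subgroup H => ⁅X, Z⁆) e1 e2
      exact h1.le ⟨z, hz, rfl⟩
    have h1 := hcent _ (hprop _ (commutator_le_of_normalizes hQY) hAn hne)
    rw [commutator_commutator_eq hQY hcQ (Or.inl hYs), commutator_eq_bot_iff_le_centralizer] at h1
    refine hQy (h1.trans ?_)
    exact centralizer_le (Set.singleton_subset_iff.2 (mem_zpowers y))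
  refine ⟨q, hq, Q, hqp, hQ, hAQ (mem_zpowers x), hQy, hcomm, ?_⟩
  set L := Q ⊓ centralizer ({y} : Set H) with hL
  have hAL : A ≤ normalizer (L : Set H) := by
    refine le_normalizer_iff.2 fun a ha z hz => ⟨le_normalizer_iff.1 hAQ a ha z hz.1, ?_⟩
    obtain ⟨i, rfl⟩ := mem_zpowers_iff.1 ha
    have h1 : Commute (x ^ i) y := (Commute.refl x).zpow_left i |>.pow_right _
    have h2 : Commute z y := mem_centralizer_singleton_iff.1 hz.2
    exact mem_centralizer_singleton_iff.2 ((h1.mul_left h2).mul_left h1.inv_left).eq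
  have hLN : Q ≤ normalizer (L : Set H) := by
    by_contra hne
    have hN : (Q ⊓ normalizer (L : Set H)) ≤ centralizer ({y} : Set H) := by
      refine hprop _ inf_le_left ?_ fun he => hne (he ▸ inf_le_right)
      refine le_normalizer_iff.2 fun a ha z hz => ⟨le_normalizer_iff.1 hAQ a ha z hz.1, ?_⟩
      exact (normalizer (L : Set H)).mul_mem ((normalizer (L : Set H)).mul_mem (hAL ha) hz.2)
        ((normalizer (L : Set H)).inv_mem (hAL ha))
    haveI := hQ.isNilpotent
    have hlt : L.subgroupOf Q < ⊤ := lt_top_iff_ne_top.2 fun h =>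
      hQy ((subgroupOf_eq_top.1 h).trans inf_le_right)
    obtain ⟨g, hg, hgL⟩ := SetLike.exists_of_lt ((Group.normalizerCondition_of_isNilpotent (G := Q)) _ hlt)
    refine hgL (mem_subgroupOf.2 ⟨g.2, hN ⟨g.2, ?_⟩⟩)
    refine mem_normalizer_iff.2 fun z => ?_
    constructor
    · intro hz
      exact (mem_normalizer_iff.1 hg ⟨z, hz.1⟩).1 hz
    · intro hz
      have hzQ : z ∈ Q := by
        have := Q.mul_mem (Q.mul_mem (Q.inv_mem g.2) hz.1) g.2
        simpa [mul_assoc] using this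
      exact (mem_normalizer_iff.1 hg ⟨z, hzQ⟩).2 hz
  intro c hc hcy g hg
  have h1 : ⁅L, Y⁆ = ⊥ := hcent L inf_le_right
  have h2 : ⁅⁅L, Y⁆, Q⁆ = ⊥ := by rw [h1, commutator_bot_left]
  have h3 : ⁅⁅Q, L⁆, Y⁆ = ⊥ := by
    refine le_bot_iff.1 ((commutator_mono ?_ le_rfl).trans h1.le)
    rw [commutator_comm]
    exact le_normalizer_iff_commutator_le_left.1 hLN
  have h4 : ⁅⁅Y, Q⁆, L⁆ = ⊥ := commutator_commutator_eq_bot_of_rotate h3 h2
  rw [commutator_comm Y Q, hcomm, commutator_eq_bot_iff_le_centralizer] at h4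
  exact (mem_centralizer_iff.1 (h4 hg) c ⟨hc, mem_centralizer_singleton_iff.2 hcy⟩).symm

theorem mem_zpowers_of_ne_one {x : H} {n : ℕ} (hn : orderOf x = p ^ (n + 1)) {z : H}
    (hz : z ∈ zpowers x) (hz1 : z ≠ 1) : x ^ p ^ n ∈ zpowers z := by
  have hpp := (Fact.out : p.Prime)
  obtain ⟨k, rfl⟩ := mem_powers_iff_mem_zpowers.2 hz
  obtain ⟨a, ha, hga⟩ := (Nat.dvd_prime_pow hpp).1 (Nat.gcd_dvd_right k (p ^ (n + 1)))
  have hlt : Nat.gcd k (p ^ (n + 1)) < p ^ (n + 1) := by
    refine lt_of_le_of_ne (Nat.gcd_le_right k (pow_pos hpp.pos _)) fun he => hz1 ?_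
    show x ^ k = 1
    rw [← orderOf_dvd_iff_pow_eq_one, hn, ← he]
    exact Nat.gcd_dvd_left _ _
  obtain ⟨c, -, hc⟩ := Nat.exists_mul_mod_eq_gcd hlt
  have han : a ≤ n := by
    rw [hga] at hlt
    have := (Nat.pow_lt_pow_iff_right hpp.one_lt).1 hlt
    omega
  have e : x ^ p ^ a = (x ^ k) ^ c := by rw [← pow_mul, ← pow_mod_orderOf x (k * c), hn, hc, hga]
  rw [show p ^ n = p ^ a * p ^ (n - a) by rw [← pow_add]; congr 1; omega, pow_mul, e]
  exact pow_mem (pow_mem (mem_zpowers _) _) _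

end Group

section Closed

variable {K : Type*} [Field K] [IsAlgClosed K] {p : ℕ} [Fact p.Prime] [CharP K p]
variable {V : Type*} [AddCommGroup V] [Module K V] [FiniteDimensional K V]
variable {H : Type*} [Group H] [Finite H]

theorem theorem_b_closed (ρ : H →* Module.End K V) (hfaith : Function.Injective ρ)
    (hsol : Cfsg.IsPSolvable p H) (hOp : Cfsg.pCore p H = ⊥) {x : H} {n : ℕ}
    (hn : orderOf x = p ^ (n + 1)) {r : ℕ} (hr : (ρ x - 1) ^ r = 0) (hrle : r ≤ p ^ (n + 1)) :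
    r = p ^ (n + 1) ∨ ∃ n₀ q m : ℕ, 1 ≤ n₀ ∧ n₀ ≤ n + 1 ∧ q.Prime ∧ 1 ≤ m ∧ p ^ n₀ - 1 = q ^ m ∧
      (∀ Q : Sylow q H, ¬ IsMulCommutative Q) ∧ p ^ (n + 1 - n₀) * (p ^ n₀ - 1) ≤ r := by
  classical
  have hpp := (Fact.out : p.Prime)
  set R := Cfsg.pPrimeCore p H with hRdef
  have hRc : (Nat.card R).Coprime p := CfsgLib.Core.coprime_card_pPrimeCore p H
  have hy1 : x ^ p ^ n ≠ 1 := fun h => by
    have := orderOf_dvd_of_pow_eq_one h
    rw [hn, Nat.pow_dvd_pow_iff_le_right hpp.one_lt] at this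
    omega
  have hyR : ¬ R ≤ centralizer ({x ^ p ^ n} : Set H) := fun h => by
    have hm : x ^ p ^ n ∈ centralizer (R : Set H) := mem_centralizer_iff.2 fun g hg =>
      mem_centralizer_singleton_iff.1 (h hg)
    have hmR := CfsgLib.PGroups.centralizer_pPrimeCore_le hsol hOp hm
    refine hy1 (orderOf_eq_one_iff.1 (Nat.eq_one_of_dvd_coprimes (hRc.pow_right (n + 1))
      ?_ ?_))
    · rw [← Subgroup.orderOf_mk _ hmR]; exact orderOf_dvd_natCard _
    · rw [← hn]; exact orderOf_pow_dvd _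
  haveI : R.Normal := CfsgLib.Core.normal_pPrimeCore p H
  obtain ⟨q, hq, Q, hpq, hQ, hxQ, hQy, hQcomm, hQcent⟩ :=
    exists_minimal_moved R hRc (le_normalizer_of_normal ⊤ R (mem_top x)) hn hyR
  have hQK : (Nat.card Q : K) ≠ 0 := by
    rw [Ne, CharP.cast_eq_zero_iff K p]
    obtain ⟨k, hk⟩ := IsPGroup.iff_card.1 hQ
    rw [hk]
    exact fun h => hpq ((Nat.prime_dvd_prime_iff_eq hpp hq.out).1 (hpp.dvd_of_dvd_pow h))
  have hne : ∃ g ∈ Q, ρ g ≠ 1 := by
    by_contra hall
    push Not at hall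
    refine hQy fun g hg => ?_
    rw [hfaith ((hall g hg).trans (map_one ρ).symm)]
    exact one_mem _
  obtain ⟨U, hU, hUne⟩ := exists_nontrivial_irrSubspace hQK hne
  obtain ⟨j, hj, hjU, hjmin⟩ := exists_stab_power hxQ hn hU
  obtain ⟨W, hW, hWx, hUW⟩ := exists_invariant_constituent (pow_mem hxQ (p ^ j)) hU hjU
  have hjW : ∀ i : ℕ, Intw ρ Q (x ^ i) W W → p ^ j ∣ i := fun i hi => hjmin i (by
    have h1 := Intw.comp (one_mem _) hW hUW hi
    have h2 := Intw.comp (mul_mem (pow_mem hxQ i) (one_mem _)) hW h1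
      (Intw.symm (one_mem _) hU hW hUW)
    simpa using h2)
  rcases hj.lt_or_eq with hlt | rfl
  swap
  · left
    obtain ⟨w, hw, hw0⟩ := (Submodule.ne_bot_iff W).1 hW.ne
    have h1 := le_of_induced hxQ hn hW hWx hjW (s := 0) ⟨w, hw, by simpa using hw0⟩ hr
    exact le_antisymm hrle (by simpa using h1)
  set x' := x ^ p ^ j with hx'def
  let Q₀ : Subgroup H := Q ⊔ zpowers x'
  have hpres : ∀ g ∈ Q₀, ∀ w ∈ W, ρ g w ∈ W := by
    let S : Submonoid H :=
      { carrier := {g | ∀ w ∈ W, ρ g w ∈ W}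
        one_mem' := fun w hw => by simpa using hw
        mul_mem' := fun ha hb w hw => by rw [rho_mul_apply]; exact ha _ (hb w hw) }
    have key : Q₀ ≤ Subgroup.closure (S : Set H) := sup_le
      (fun g hg => subset_closure (hW.inv g hg))
      (zpowers_le.2 (subset_closure hWx))
    intro g hg
    have h1 : g ∈ (Subgroup.closure (S : Set H)).toSubmonoid := key hg
    rw [Subgroup.closure_toSubmonoid_of_finite, Submonoid.closure_eq] at h1
    exact h1
  let π₀ : ↥Q₀ →* Module.End K ↥W :=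
    { toFun := fun g => (ρ g).restrict (hpres g g.2)
      map_one' := LinearMap.ext fun w => Subtype.ext (by simp)
      map_mul' := fun a b => LinearMap.ext fun w => Subtype.ext (by simp) }
  let π := π₀.toHomUnits
  let G := π.range
  haveI : Finite G := Finite.of_surjective π.rangeRestrict π.rangeRestrict_surjective
  let ρG : Representation K G ↥W := (Units.coeHom _).comp G.subtype
  have hρG : Function.Injective ρG := Units.val_injective.comp Subtype.val_injective
  have hπ : ∀ (g : ↥Q₀) (w : W), ((π g : Module.End K ↥W) w : V) = ρ g w := fun g w => rfl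
  let θ : ↥Q₀ →* G := π.rangeRestrict
  let QG : Subgroup G := (Q.subgroupOf Q₀).map θ
  have hQn : Q ⊔ zpowers x' ≤ normalizer (Q : Set H) :=
    sup_le le_normalizer (zpowers_le.2 (pow_mem hxQ _))
  haveI : (Q.subgroupOf Q₀).Normal := normal_subgroupOf_of_le_normalizer hQn
  haveI : QG.Normal := Subgroup.Normal.map inferInstance θ π.rangeRestrict_surjective
  have hQG : IsPGroup q QG := (hQ.comap_subtype).map θ
  have hx'Q₀ : x' ∈ Q₀ := mem_sup_right (mem_zpowers _)
  set X : G := θ ⟨x', hx'Q₀⟩ with hX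
  set e := n - j with he
  have hje : j + e = n := by omega
  have hyX : (⟨x ^ p ^ n, by rw [← hje, pow_add, pow_mul]; exact pow_mem hx'Q₀ _⟩ : ↥Q₀) =
      ⟨x', hx'Q₀⟩ ^ p ^ e := Subtype.ext (by
    show x ^ p ^ n = x' ^ p ^ e
    rw [hx'def, ← pow_mul, ← pow_add, hje])
  -- `Q` acts non-trivially
  have hWne : ∃ g, ∃ hg : g ∈ Q, θ ⟨g, mem_sup_left hg⟩ ≠ 1 := by
    obtain ⟨g, hg, u, hu, hgu⟩ := hUne
    refine ⟨g, hg, fun h => hgu ?_⟩
    obtain ⟨f, hfUW, hfne, hf⟩ := hUW
    have h1 : ∀ w : W, ρ g (w : V) = w := fun w => by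
      have := congrArg (fun z : G => (((z : (Module.End K ↥W)ˣ) : Module.End K ↥W) w : V)) h
      exact this
    rw [← sub_eq_zero]
    refine Intw.injOn (B := W) hU hfne hf (U.sub_mem (hU.inv g hg u hu) hu) ?_
    rw [map_sub, hf g hg u hu, one_mul, inv_one, mul_one, h1 ⟨f u, hfUW u hu⟩, sub_self]
  have hypow : X ^ p ^ e ≠ 1 := by
    intro h
    obtain ⟨g, hg, hgne⟩ := hWne
    refine hgne ?_
    have hle : Q ≤ (θ.ker).map Q₀.subtype := by
      conv_lhs => rw [← hQcomm]
      rw [commutator_le]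
      intro a ha b hb
      obtain ⟨i, rfl⟩ := mem_zpowers_iff.1 hb
      have hbQ : x ^ p ^ n ∈ Q₀ := by rw [← hje, pow_add, pow_mul]; exact pow_mem hx'Q₀ _
      refine ⟨⁅(⟨a, mem_sup_left ha⟩ : ↥Q₀), (⟨x ^ p ^ n, hbQ⟩ : ↥Q₀) ^ i⁆, ?_, rfl⟩
      rw [SetLike.mem_coe, MonoidHom.mem_ker, map_commutatorElement, map_zpow, hyX, map_pow, ← hX, h,
        one_zpow, commutatorElement_one_right]
    obtain ⟨g', hg', hgg⟩ := hle hg
    rw [show (⟨g, mem_sup_left hg⟩ : ↥Q₀) = g' from Subtype.ext hgg.symm]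
    exact hg'
  have hXord : orderOf X = p ^ (e + 1) := by
    refine orderOf_eq_prime_pow hypow ?_
    rw [hX, ← map_pow]
    refine (congrArg θ (Subtype.ext ?_)).trans (map_one θ)
    show x' ^ p ^ (e + 1) = 1
    rw [hx'def, ← pow_mul, ← pow_add, show j + (e + 1) = n + 1 by omega, ← hn, pow_orderOf_eq_one]
  have hXp : IsPGroup p (zpowers X) :=
    IsPGroup.of_card (n := e + 1) (by rw [Nat.card_zpowers, hXord])
  have hirrG : ∀ B : Submodule K ↥W, (∀ g ∈ QG, Submodule.map (ρG g) B ≤ B) → B = ⊥ ∨ B = ⊤ := by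
    intro B hB
    have hinv : InvUnder ρ Q (B.map W.subtype) := by
      rintro g hg _ ⟨b, hb, rfl⟩
      exact ⟨ρG (θ ⟨g, mem_sup_left hg⟩) b, hB _ ⟨⟨g, mem_sup_left hg⟩, hg, rfl⟩ ⟨b, hb, rfl⟩, rfl⟩
    rcases hW.min _ (Submodule.map_subtype_le _ _) hinv with h | h
    · exact Or.inl ((Submodule.eq_bot_iff B).2 fun b hb =>
        Subtype.ext ((Submodule.mem_bot K).1 (h.le ⟨b, hb, rfl⟩)))
    · refine Or.inr (eq_top_iff.2 fun b _ => ?_)
      obtain ⟨b', hb', he'⟩ := h.ge b.2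
      rwa [← show b' = b from Subtype.ext he']
  have hWnt : Nontrivial ↥W := Submodule.nontrivial_iff_ne_bot.2 hW.ne
  have hσ : IrrHom (ρG.comp QG.subtype) := fun B hB => hirrG B fun g hg => by
    rintro _ ⟨b, hb, rfl⟩
    exact hB ⟨g, hg⟩ b hb
  have hcenter : ∀ c ∈ QG, (∀ g ∈ QG, g * c = c * g) → c ∈ center G := by
    intro c hc hcQ
    obtain ⟨a, ha⟩ := exists_scalar_of_commute hσ (ρG c) fun g => by
      show ρG c * ρG (g : G) = ρG (g : G) * ρG c
      rw [← map_mul, ← map_mul, hcQ g g.2]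
    refine mem_center_iff.2 fun g => hρG ?_
    rw [map_mul, map_mul, ha, mul_smul_one, smul_one_mul]
  have hC : ∀ z ∈ zpowers X, z ≠ 1 → centralizer ({z} : Set G) = zpowers X ⊔ center G := by
    intro z hz hz1
    refine le_antisymm ?_ (sup_le (fun a ha => mem_centralizer_singleton_iff.2 ?_) fun a ha => ?_)
    · intro g hg
      obtain ⟨g₀, rfl⟩ := π.rangeRestrict_surjective g
      obtain ⟨a, ha, b, hb, hab⟩ : ∃ a ∈ Q, ∃ b ∈ zpowers x', (g₀ : H) = a * b := by
        have h1 : (g₀ : H) ∈ ((Q ⊔ zpowers x' : Subgroup H) : Set H) := g₀.2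
        rw [coe_mul_of_right_le_normalizer_left Q (zpowers x')
          (zpowers_le.2 (pow_mem hxQ _))] at h1
        obtain ⟨a, ha, b, hb, hab⟩ := h1
        exact ⟨a, ha, b, hb, hab.symm⟩
      have hg₀ : g₀ = ⟨a, mem_sup_left ha⟩ * ⟨b, mem_sup_right hb⟩ := Subtype.ext hab
      have hbX : θ ⟨b, mem_sup_right hb⟩ ∈ zpowers X := by
        obtain ⟨i, rfl⟩ := mem_zpowers_iff.1 hb
        exact ⟨i, ((map_zpow θ ⟨x', hx'Q₀⟩ i).symm.trans (congrArg θ (Subtype.ext rfl)) : _)⟩
      set A := θ ⟨a, mem_sup_left ha⟩ with hA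
      have hgA : π.rangeRestrict g₀ = A * θ ⟨b, mem_sup_right hb⟩ :=
        (congrArg θ hg₀).trans (map_mul θ _ _)
      rw [hgA] at hg ⊢
      have hAz : Commute A z := by
        obtain ⟨i, hi⟩ := mem_zpowers_iff.1 hbX
        obtain ⟨k, hk⟩ := mem_zpowers_iff.1 hz
        have h1 : Commute (A * θ ⟨b, mem_sup_right hb⟩) z := mem_centralizer_singleton_iff.1 hg
        have h2 : Commute (θ ⟨b, mem_sup_right hb⟩) z := by
          rw [← hi, ← hk]; exact (Commute.refl X).zpow_zpow i k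
        simpa using h1.mul_left h2.inv_left
      refine (zpowers X ⊔ center G).mul_mem (mem_sup_right (hcenter A ⟨_, ha, rfl⟩ ?_))
        (mem_sup_left hbX)
      -- lift `A` to an element of `Q` commuting with `y`
      obtain ⟨k, rfl⟩ := mem_powers_iff_mem_zpowers.2 hz
      have hbase : ∀ i : ℕ, (⟨x', hx'Q₀⟩ : ↥Q₀) ^ i ∈ (Q.subgroupOf Q₀ ⊔ ⊤ : Subgroup ↥Q₀) :=
        fun i => mem_sup_right (mem_top _)
      set z₀ : ↥Q₀ := ⟨x', hx'Q₀⟩ ^ k with hz₀
      have hθz : θ z₀ = X ^ k := map_pow θ _ _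
      have hzne : (z₀ : H) ≠ 1 := fun h => hz1 (by
        show X ^ k = 1
        rw [← hθz, show z₀ = 1 from Subtype.ext h, map_one])
      have hyz : x ^ p ^ n ∈ zpowers (z₀ : H) := by
        refine mem_zpowers_of_ne_one hn ?_ hzne
        show (x ^ p ^ j) ^ k ∈ zpowers x
        exact pow_mem (pow_mem (mem_zpowers x) _) _
      let N : Subgroup ↥Q₀ := Q.subgroupOf Q₀ ⊓ θ.ker
      have hN : N.Normal := inferInstance
      have hcop : (Nat.card (zpowers z₀)).Coprime (Nat.card N) := by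
        have h1 : Nat.card (zpowers z₀) ∣ p ^ (n + 1) := by
          rw [Nat.card_zpowers]
          refine orderOf_dvd_of_pow_eq_one (Subtype.ext ?_)
          show ((x ^ p ^ j) ^ k) ^ p ^ (n + 1) = 1
          have h0 : x ^ p ^ (n + 1) = 1 := by rw [← hn]; exact pow_orderOf_eq_one x
          rw [pow_right_comm _ k, pow_right_comm _ (p ^ j), h0, one_pow, one_pow]
        obtain ⟨l, hl⟩ := IsPGroup.iff_card.1
          ((hQ.comap_subtype (K := Q₀)).to_le (inf_le_left : N ≤ Q.subgroupOf Q₀))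
        rw [hl]
        exact (Nat.Coprime.pow _ _ ((Nat.coprime_primes hpp hq.out).2 hpq)).coprime_dvd_left h1
      have hsolv : Group.IsSolvable (zpowers z₀) ∨ Group.IsSolvable N := by
        refine Or.inr ?_
        haveI := ((hQ.comap_subtype (K := Q₀)).to_le (inf_le_left : N ≤ Q.subgroupOf Q₀)).isNilpotent
        infer_instance
      obtain ⟨c, hc, hfix⟩ := exists_centralizing_in_coset (A := zpowers z₀) (N := N)
        (le_normalizer_of_normal _ _) hcop hsolv (k := ⟨a, mem_sup_left ha⟩) fun t ht => by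
          obtain ⟨i, rfl⟩ := mem_zpowers_iff.1 ht
          refine ⟨(Q.subgroupOf Q₀).mul_mem ((Q.subgroupOf Q₀).inv_mem ha)
            (‹(Q.subgroupOf Q₀).Normal›.conj_mem _ ha _), ?_⟩
          show θ _ = 1
          rw [map_mul, map_inv, map_mul, map_mul, map_inv,
            map_zpow, hθz, ← hA]
          rw [((hAz.symm).zpow_left i).eq, mul_inv_cancel_right, inv_mul_cancel]
      have hcQ : (a * (c : H)) ∈ Q := Q.mul_mem ha hc.1
      have hAc : A = θ ⟨a * c, mem_sup_left hcQ⟩ := by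
        rw [show (⟨a * (c : H), mem_sup_left hcQ⟩ : ↥Q₀) = ⟨a, mem_sup_left ha⟩ * c from rfl, map_mul,
          MonoidHom.mem_ker.1 hc.2, mul_one]
      have hcy : (a * (c : H)) * x ^ p ^ n = x ^ p ^ n * (a * c) := by
        obtain ⟨i, hi⟩ := mem_zpowers_iff.1 hyz
        have h1 := congrArg Subtype.val (mem_centralizer_iff.1 hfix _ (zpow_mem (mem_zpowers z₀) i))
        rw [← hi]
        simpa using h1.symm
      rintro _ ⟨g₁, hg₁, rfl⟩
      rw [hAc, ← map_mul, ← map_mul]
      exact congrArg θ (Subtype.ext (hQcent _ hcQ hcy _ hg₁))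
    · obtain ⟨i, rfl⟩ := mem_zpowers_iff.1 ha
      obtain ⟨k, rfl⟩ := mem_zpowers_iff.1 hz
      exact ((Commute.refl X).zpow_zpow i k).eq
    · exact mem_centralizer_singleton_iff.2 (mem_center_iff.1 ha z).symm
  -- nilpotency index on `W`
  haveI : CharP (Module.End K ↥W) p := charP_of_injective_algebraMap
    (RingHom.injective (algebraMap K (Module.End K ↥W))) p
  have hex : ∃ s, (ρG X - 1) ^ s = 0 := ⟨p ^ (e + 1), by
    rw [sub_pow_char_pow_of_commute p (e + 1) (Commute.one_right _), one_pow, ← map_pow, ← hXord,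
      pow_orderOf_eq_one, map_one, sub_self]⟩
  obtain ⟨h1, h2, h3⟩ := hall_higman_critical hpq QG hQG X hXp hC ρG hρG hirrG (Nat.find hex)
    (Nat.find_spec hex) fun k hk => Nat.find_min hex hk
  rw [Nat.card_zpowers, hXord] at h1 h2 h3
  set s := Nat.find hex with hs
  have hp2 : 2 ≤ p ^ (e + 1) := hpp.two_le.trans (Nat.le_self_pow (by omega) p)
  have hbound : p ^ j * s ≤ r := by
    obtain ⟨t, ht⟩ : ∃ t, s = t + 1 := ⟨s - 1, by omega⟩
    have hne0 := Nat.find_min hex (show t < Nat.find hex by omega)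
    obtain ⟨w, hw⟩ : ∃ w : W, ((ρG X - 1) ^ t) w ≠ 0 := by
      by_contra hall
      push Not at hall
      exact hne0 (LinearMap.ext hall)
    have key : ∀ (k : ℕ) (v : W), ((((ρG X - 1) ^ k) v : W) : V) =
        ((ρ x' - 1 : Module.End K V) ^ k) (v : V) := by
      intro k
      induction k with
      | zero => intro v; rfl
      | succ k ih =>
        intro v
        rw [pow_succ', pow_succ', Module.End.mul_apply, Module.End.mul_apply, ← ih]
        rfl
    rw [ht]
    exact le_of_induced hxQ hn hW hWx hjW ⟨w, w.2, by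
      rw [← key]; exact fun h => hw (Subtype.ext h)⟩ hr
  by_cases hsm : s = p ^ (e + 1)
  · left
    refine le_antisymm hrle ?_
    rw [hsm, ← pow_add, show j + (e + 1) = n + 1 by omega] at hbound
    exact hbound
  · right
    obtain ⟨⟨b, hb⟩, hQab⟩ := h3 (by omega)
    refine ⟨e + 1, q, b, by omega, by omega, hq.out, ?_, hb, fun S hS => hQab ?_, ?_⟩
    · by_contra hb0
      obtain rfl : b = 0 := by omega
      rw [pow_zero] at hb
      have hs1 : s = 1 := by omega
      have h0 := Nat.find_spec hex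
      rw [← hs, hs1, pow_one, sub_eq_zero, ← map_one ρG] at h0
      exact hypow (by rw [hρG h0, one_pow])
    · obtain ⟨S₀, hS₀⟩ := hQ.exists_le_sylow
      obtain ⟨g, rfl⟩ := MulAction.exists_smul_eq H S₀ S
      refine ⟨⟨fun u v => Subtype.ext ?_⟩⟩
      obtain ⟨⟨_, a, ha, rfl⟩, ⟨_, c, hc, rfl⟩⟩ := u, v
      show θ a * θ c = θ c * θ a
      rw [← map_mul, ← map_mul]
      refine congrArg θ (Subtype.ext ?_)
      have hm : ∀ t ∈ Q, g * t * g⁻¹ ∈ ((g • S₀ : Sylow q H) : Subgroup H) := fun t ht => by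
        rw [Sylow.coe_subgroup_smul]
        exact Subgroup.smul_mem_pointwise_smul t (MulAut.conj g) _ (hS₀ ht)
      have h := congrArg Subtype.val (hS.is_comm.comm ⟨_, hm _ ha⟩ ⟨_, hm _ hc⟩)
      change g * (a : H) * g⁻¹ * (g * (c : H) * g⁻¹) = g * (c : H) * g⁻¹ * (g * (a : H) * g⁻¹) at h
      refine (MulAut.conj g).injective ?_
      simpa [mul_assoc] using h
    · rw [show n + 1 - (e + 1) = j by omega]
      exact le_trans (Nat.mul_le_mul_left _ h1) hbound

end Closed

section General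

variable {F : Type*} [Field F] {p : ℕ} [Fact p.Prime] [CharP F p]
variable {V : Type*} [AddCommGroup V] [Module F V] [FiniteDimensional F V] [Nontrivial V]

/-- **Hall–Higman, Theorem B** -/
theorem theorem_b (H : Subgroup (V ≃ₗ[F] V)) [Finite H] (hsol : Cfsg.IsPSolvable p H)
    (hOp : Cfsg.pCore p H = ⊥) (x : V ≃ₗ[F] V) (hx : x ∈ H) (n : ℕ) (hn : orderOf x = p ^ n)
    (r : ℕ) (hr : minpoly F (x : Module.End F V) = (Polynomial.X - 1) ^ r) :
    r = p ^ n ∨ ∃ n₀ q m : ℕ, 1 ≤ n₀ ∧ n₀ ≤ n ∧ q.Prime ∧ 1 ≤ m ∧ p ^ n₀ - 1 = q ^ m ∧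
      (∀ Q : Sylow q H, ¬ IsMulCommutative Q) ∧ p ^ (n - n₀) * (p ^ n₀ - 1) ≤ r := by
  haveI : CharP (Module.End F V) p := charP_of_injective_algebraMap
    (RingHom.injective (algebraMap F (Module.End F V))) p
  let ι : H →* Module.End F V :=
    { toFun := fun h => ((h : V ≃ₗ[F] V) : Module.End F V)
      map_one' := rfl
      map_mul' := fun _ _ => rfl }
  have hι : Function.Injective ι := fun a b h =>
    Subtype.ext (LinearEquiv.toLinearMap_injective h)
  have hpow : orderOf (⟨x, hx⟩ : H) = p ^ n := by rw [Subgroup.orderOf_mk, hn]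
  have hX1 : (Polynomial.X - 1 : Polynomial F) = Polynomial.X - Polynomial.C 1 := by rw [map_one]
  have hr0 : (ι ⟨x, hx⟩ - 1) ^ r = 0 := by
    have h := minpoly.aeval F (x : Module.End F V)
    rw [hr, map_pow, map_sub, Polynomial.aeval_X, map_one] at h
    exact h
  have hdeg : ∀ k, (ι ⟨x, hx⟩ - 1) ^ k = 0 → r ≤ k := fun k hk => by
    have hd := minpoly.dvd F (x : Module.End F V) (p := (Polynomial.X - 1) ^ k)
      (by rw [map_pow, map_sub, Polynomial.aeval_X, map_one]; exact hk)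
    rw [hr] at hd
    have h := Polynomial.natDegree_le_of_dvd hd
      (pow_ne_zero _ (hX1 ▸ Polynomial.X_sub_C_ne_zero (1 : F)))
    rwa [hX1, Polynomial.natDegree_pow, Polynomial.natDegree_pow, Polynomial.natDegree_X_sub_C,
      mul_one, mul_one] at h
  have hle : r ≤ p ^ n := hdeg _ (by
    rw [sub_pow_char_pow_of_commute p n (Commute.one_right _), one_pow, ← map_pow, ← hpow,
      pow_orderOf_eq_one, map_one, sub_self])
  cases n with
  | zero =>
    left
    rw [pow_zero] at hle ⊢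
    refine le_antisymm hle (Nat.one_le_iff_ne_zero.2 fun h0 => ?_)
    rw [h0, pow_zero] at hr0
    exact one_ne_zero hr0
  | succ n =>
    let K := AlgebraicClosure F
    haveI : CharP K p := charP_of_injective_algebraMap (algebraMap F K).injective p
    let b := Module.finBasis F V
    let φ : Module.End F V →+* Module.End K (Fin (Module.finrank F V) → K) :=
      ((Matrix.toLinAlgEquiv' (R := K)).toRingEquiv.toRingHom.comp (algebraMap F K).mapMatrix).comp
        (LinearMap.toMatrixAlgEquiv b).toRingEquiv.toRingHom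
    have hφ : Function.Injective φ := ((Matrix.toLinAlgEquiv' (R := K)).injective.comp
      (Matrix.map_injective (algebraMap F K).injective)).comp (LinearMap.toMatrixAlgEquiv b).injective
    refine theorem_b_closed (φ.toMonoidHom.comp ι) (hφ.comp hι) hsol hOp hpow ?_ hle
    show (φ (ι ⟨x, hx⟩) - 1) ^ r = 0
    rw [← map_one φ, ← map_sub, ← map_pow, hr0, map_zero]

end General

end CfsgLib.Core.HHCritical.LinB
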