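import Mathlib.Algebra.Module.PID
import Mathlib.Algebra.Polynomial.Module.AEval
import Mathlib.LinearAlgebra.Dimension.Finite
import Mathlib.LinearAlgebra.FiniteDimensional.Lemmas

/-!
# The commutant of a nilpotent endomorphism is large

* `exists_jordan_basis`
* `sq_finrank_le_mul_commutant`: if `N ^ s = 0` on a space of dimension `d` then
  `d ^ 2 ≤ s * dim {f | f N = N f}`
-/

set_option autoImplicit false
set_option linter.all false

namespace CfsgLib.Core.HHCritical

open Module Polynomial

variable {K V : Type*} [Field K] [AddCommGroup V] [Module K V] [FiniteDimensional K V]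

/-- A nilpotent endomorphism has a basis made of strings `N ^ a v i`. -/
theorem exists_jordan_basis {N : Module.End K V} {s : ℕ} (hN : N ^ s = 0) :
    ∃ (d : ℕ) (k : Fin d → ℕ) (v : Fin d → V), (∀ i, (N ^ k i) (v i) = 0) ∧
      LinearIndependent K (fun x : Σ i, Fin (k i) => (N ^ (x.2 : ℕ)) (v x.1)) ∧
      ⊤ ≤ Submodule.span K (Set.range fun x : Σ i, Fin (k i) => (N ^ (x.2 : ℕ)) (v x.1)) := by
  classical
  have htor : Module.IsTorsion' (Module.AEval' N) (Submonoid.powers (X : K[X])) := fun {m} =>
    ⟨⟨(X : K[X]) ^ s, s, rfl⟩, by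
      show ((X : K[X]) ^ s) • m = 0
      apply (AEval.of K V N).symm.injective
      rw [AEval.of_symm_smul, aeval_X_pow, hN, map_zero, zero_smul]⟩
  obtain ⟨d, k, ⟨e⟩⟩ := torsion_by_prime_power_decomposition
    (R := K[X]) (Polynomial.irreducible_X (R := K)) htor
  let w : Fin d → Module.AEval' N := fun i =>
    e.symm (DirectSum.lof K[X] (Fin d) (fun i => K[X] ⧸ K[X] ∙ (X : K[X]) ^ k i) i
      (Submodule.Quotient.mk 1))
  let v : Fin d → V := fun i => (AEval.of K V N).symm (w i)
  have hpow : ∀ (i : Fin d) (P : K[X]), (aeval N P) (v i) = (AEval.of K V N).symm (P • w i) :=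
    fun i P => by rw [AEval.of_symm_smul]; rfl
  have hlof : ∀ (i : Fin d) (P : K[X]), P • w i =
      e.symm (DirectSum.lof K[X] (Fin d) (fun i => K[X] ⧸ K[X] ∙ (X : K[X]) ^ k i) i
        (Submodule.Quotient.mk P)) := fun i P => by
    rw [← map_smul e.symm, ← map_smul, ← Submodule.Quotient.mk_smul, smul_eq_mul, mul_one]
  have hkill : ∀ i, (N ^ k i) (v i) = 0 := fun i => by
    have h := hpow i (X ^ k i)
    rw [aeval_X_pow] at h
    rw [h, hlof, (Submodule.Quotient.mk_eq_zero _).2 (Submodule.mem_span_singleton_self _),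
      map_zero, map_zero, map_zero]
  have hbig : ∀ i a, k i ≤ a → (N ^ a) (v i) = 0 := fun i a ha => by
    obtain ⟨c, rfl⟩ := Nat.exists_eq_add_of_le ha
    rw [add_comm, pow_add, Module.End.mul_apply, hkill, map_zero]
  refine ⟨d, k, v, hkill, ?_, ?_⟩
  · rw [Fintype.linearIndependent_iff]
    rintro g hg ⟨i, a⟩
    let P : Fin d → K[X] := fun j => ∑ b : Fin (k j), C (g ⟨j, b⟩) * X ^ (b : ℕ)
    have h0 : ∑ j, P j • w j = 0 := by
      apply (AEval.of K V N).symm.injective
      rw [map_sum, map_zero, ← hg, Fintype.sum_sigma]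
      refine Finset.sum_congr rfl fun j _ => ?_
      rw [← hpow, map_sum, LinearMap.sum_apply]
      refine Finset.sum_congr rfl fun b _ => ?_
      rw [map_mul, aeval_C, aeval_X_pow]
      simp [Algebra.smul_def]
    have h1 := congrArg
      (fun z => DirectSum.component K[X] (Fin d) (fun i => K[X] ⧸ K[X] ∙ (X : K[X]) ^ k i) i (e z)) h0
    simp only [map_sum, map_zero] at h1
    rw [Finset.sum_eq_single i] at h1
    · rw [hlof, e.apply_symm_apply, DirectSum.component.lof_self,
        Submodule.Quotient.mk_eq_zero, Ideal.mem_span_singleton, X_pow_dvd_iff] at h1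
      have h2 := h1 a a.2
      rw [finsetSum_coeff, Finset.sum_eq_single a] at h2
      · simpa using h2
      · intro b _ hb
        rw [coeff_C_mul_X_pow, if_neg fun h => hb (Fin.ext h.symm)]
      · simp
    · intro j _ hj
      rw [hlof, e.apply_symm_apply, DirectSum.component.of, dif_neg hj]
    · simp
  · intro x _
    have hx : x = (AEval.of K V N).symm (AEval.of K V N x) := (LinearEquiv.symm_apply_apply _ _).symm
    obtain ⟨P, hP⟩ : ∃ P : Fin d → K[X], AEval.of K V N x = ∑ i, P i • w i := by
      have hsurj : ∀ i, ∃ P : K[X],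
          DirectSum.component K[X] (Fin d) (fun i => K[X] ⧸ K[X] ∙ (X : K[X]) ^ k i) i
            (e (AEval.of K V N x)) = Submodule.Quotient.mk P := fun i =>
        ⟨_, (Quotient.out_eq' _).symm⟩
      choose P hP using hsurj
      refine ⟨P, e.injective (DirectSum.ext_component K[X] fun i => ?_)⟩
      rw [hP, map_sum, map_sum, Finset.sum_eq_single i]
      · rw [hlof, e.apply_symm_apply, DirectSum.component.lof_self]
      · intro j _ hj
        rw [hlof, e.apply_symm_apply, DirectSum.component.of, dif_neg hj]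
      · simp
    rw [hx, hP, map_sum]
    refine Submodule.sum_mem _ fun i _ => ?_
    rw [← hpow, aeval_eq_sum_range, LinearMap.sum_apply]
    refine Submodule.sum_mem _ fun a _ => ?_
    rw [LinearMap.smul_apply]
    refine Submodule.smul_mem _ _ ?_
    by_cases ha : a < k i
    · exact Submodule.subset_span ⟨⟨i, a, ha⟩, rfl⟩
    · rw [hbig i a (not_lt.1 ha)]
      exact Submodule.zero_mem _

/-- The endomorphisms commuting with `N`. -/
def commutant (N : Module.End K V) : Submodule K (Module.End K V) :=
  LinearMap.ker (LinearMap.mulLeft K N - LinearMap.mulRight K N)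

theorem mem_commutant {N f : Module.End K V} : f ∈ commutant N ↔ N * f = f * N := by
  rw [commutant, LinearMap.mem_ker, LinearMap.sub_apply, LinearMap.mulLeft_apply,
    LinearMap.mulRight_apply, sub_eq_zero]

theorem sq_finrank_le_mul_commutant {N : Module.End K V} {s : ℕ} (hN : N ^ s = 0) :
    finrank K V ^ 2 ≤ s * finrank K (commutant N) := by
  classical
  obtain ⟨d, k, v, hkill, hli, hsp⟩ := exists_jordan_basis hN
  let b := Basis.mk hli hsp
  have hb : ∀ i a, b ⟨i, a⟩ = (N ^ (a : ℕ)) (v i) := fun i a => Basis.mk_apply hli hsp _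
  have hbig : ∀ i a, k i ≤ a → (N ^ a) (v i) = 0 := fun i a ha => by
    obtain ⟨c, rfl⟩ := Nat.exists_eq_add_of_le ha
    rw [add_comm, pow_add, Module.End.mul_apply, hkill, map_zero]
  have hks : ∀ i, k i ≤ s := fun i => by
    by_contra h
    push Not at h
    have h0 := b.ne_zero ⟨i, ⟨s, h⟩⟩
    rw [hb, hN] at h0
    exact h0 rfl
  -- the maps `v i ↦ N ^ shift v j`
  let ι := Σ x : Fin d × Fin d, Fin (min (k x.1) (k x.2))
  let shift : ι → ℕ := fun z => k z.1.2 - min (k z.1.1) (k z.1.2) + z.2
  let f : ι → Module.End K V := fun z =>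
    b.constr K fun y => if y.1 = z.1.1 then (N ^ ((y.2 : ℕ) + shift z)) (v z.1.2) else 0
  have hfmem : ∀ z, f z ∈ commutant N := by
    intro z
    rw [mem_commutant]
    refine b.ext fun y => ?_
    obtain ⟨i, a⟩ := y
    rw [Module.End.mul_apply, Module.End.mul_apply]
    have e1 : N (b ⟨i, a⟩) = (N ^ ((a : ℕ) + 1)) (v i) := by
      rw [hb, pow_succ', Module.End.mul_apply]
    rw [show f z (b ⟨i, a⟩) = if i = z.1.1 then (N ^ ((a : ℕ) + shift z)) (v z.1.2) else 0 from
      b.constr_basis K _ _, e1]
    by_cases hlast : (a : ℕ) + 1 < k i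
    · rw [← hb i ⟨(a : ℕ) + 1, hlast⟩, show f z (b ⟨i, ⟨(a : ℕ) + 1, hlast⟩⟩) =
        if i = z.1.1 then (N ^ ((a : ℕ) + 1 + shift z)) (v z.1.2) else 0 from b.constr_basis K _ _]
      split_ifs
      · rw [add_right_comm, pow_succ', Module.End.mul_apply]
      · rw [map_zero]
    · rw [hbig i _ (not_lt.1 hlast), map_zero]
      split_ifs with hi
      · rw [← Module.End.mul_apply, ← pow_succ']
        refine hbig _ _ ?_
        have := z.2.2
        have h1 : (a : ℕ) + 1 ≥ k z.1.1 := hi ▸ not_lt.1 hlast
        simp only [shift]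
        omega
      · rw [map_zero]
  have hind : LinearIndependent K f := by
    rw [Fintype.linearIndependent_iff]
    rintro g hg ⟨⟨i, j⟩, c⟩
    have hpos : 0 < k i := lt_of_lt_of_le (Nat.zero_lt_of_lt c.2) (min_le_left _ _)
    have hev := congrArg (fun φ : Module.End K V => φ (b ⟨i, ⟨0, hpos⟩⟩)) hg
    simp only [LinearMap.sum_apply, LinearMap.smul_apply, LinearMap.zero_apply, f,
      b.constr_basis, zero_add] at hev
    have hlt : ∀ z : ι, shift z < k z.1.2 := fun z => by
      have := z.2.2
      simp only [shift]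
      omega
    have h2 : ∑ z : ι, (if i = z.1.1 then g z else 0) • b ⟨z.1.2, ⟨shift z, hlt z⟩⟩ = 0 := by
      rw [← hev]
      refine Finset.sum_congr rfl fun z _ => ?_
      rw [hb]
      split_ifs <;> simp
    have h3 := congrArg (fun u => b.repr u ⟨j, ⟨shift ⟨(i, j), c⟩, hlt ⟨(i, j), c⟩⟩⟩) h2
    simp only [map_sum, map_smul, map_zero, Finsupp.coe_finset_sum, Finset.sum_apply,
      Finsupp.smul_apply, b.repr_self, Finsupp.single_apply, smul_eq_mul, Finsupp.coe_zero,
      Pi.zero_apply] at h3
    rw [Finset.sum_eq_single ⟨(i, j), c⟩] at h3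
    · simpa using h3
    · rintro ⟨⟨i', j'⟩, c'⟩ _ hne
      by_cases hi : i = i'
      · subst hi
        rw [if_pos rfl, if_neg, mul_zero]
        intro he
        obtain ⟨hj, hs⟩ := Sigma.mk.inj_iff.1 he
        subst hj
        apply hne
        have hs' := congrArg Fin.val (eq_of_heq hs)
        simp only [shift] at hs'
        have : c' = c := Fin.ext (by omega)
        rw [this]
      · rw [if_neg (fun h => hi h), zero_mul]
    · simp
  have hcard : Fintype.card ι ≤ finrank K (commutant N) := by
    have hli' : LinearIndependent K (fun z : ι => (⟨f z, hfmem z⟩ : commutant N)) :=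
      LinearIndependent.of_comp (commutant N).subtype hind
    exact hli'.fintype_card_le_finrank
  have hd : finrank K V = ∑ i, k i := by
    rw [finrank_eq_card_basis b, Fintype.card_sigma]
    simp
  rw [hd, sq, Finset.sum_mul_sum]
  refine le_trans ?_ (Nat.mul_le_mul_left s hcard)
  rw [Fintype.card_sigma, Finset.mul_sum, Fintype.sum_prod_type]
  refine Finset.sum_le_sum fun i _ => Finset.sum_le_sum fun j _ => ?_
  rw [Fintype.card_fin, mul_comm s]
  rcases le_total (k i) (k j) with h | h
  · rw [min_eq_left h]; exact Nat.mul_le_mul_left _ (hks j)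
  · rw [min_eq_right h, mul_comm (k i)]; exact Nat.mul_le_mul_left _ (hks i)

end CfsgLib.Core.HHCritical
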