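import Cfsg.Agent.Lib.Core.HHCritical.Main
import Mathlib.FieldTheory.IsAlgClosed.Basic
import Mathlib.LinearAlgebra.Eigenspace.Triangularizable

/-!
# Clifford reduction for Hall–Higman's Theorem B

* `order_bound_of_clifford`: the bound for a `p`-element normalising a `p'`-subgroup, in terms of a
  stabilised irreducible constituent
-/

set_option autoImplicit false

namespace CfsgLib.Core.HHCritical.LinB

open Module Subgroup

variable {K : Type*} [Field K] {V : Type*} [AddCommGroup V] [Module K V]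
variable {H : Type*} [Group H] (ρ : H →* Module.End K V) (Q : Subgroup H)

/-- a `Q`-invariant subspace -/
def InvUnder (A : Submodule K V) : Prop := ∀ q ∈ Q, ∀ a ∈ A, ρ q a ∈ A

/-- an irreducible `Q`-invariant subspace -/
structure IrrSubspace (A : Submodule K V) : Prop where
  inv : InvUnder ρ Q A
  ne : A ≠ ⊥
  min : ∀ B : Submodule K V, B ≤ A → InvUnder ρ Q B → B = ⊥ ∨ B = A

/-- a non-zero `g`-twisted intertwiner from `A` to `B` -/
def Intw (g : H) (A B : Submodule K V) : Prop :=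
  ∃ f : Module.End K V, (∀ a ∈ A, f a ∈ B) ∧ (∃ a ∈ A, f a ≠ 0) ∧
    ∀ q ∈ Q, ∀ a ∈ A, f (ρ q a) = ρ (g * q * g⁻¹) (f a)

variable {ρ Q}

theorem rho_mul_apply (a b : H) (v : V) : ρ (a * b) v = ρ a (ρ b v) := by
  rw [map_mul, Module.End.mul_apply]

theorem rho_inv_apply (a : H) (v : V) : ρ a⁻¹ (ρ a v) = v := by
  rw [← rho_mul_apply, inv_mul_cancel, map_one, Module.End.one_apply]

theorem Intw.one {A : Submodule K V} (hA : IrrSubspace ρ Q A) : Intw ρ Q 1 A A := by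
  obtain ⟨a, ha, ha0⟩ := (Submodule.ne_bot_iff A).1 hA.ne
  exact ⟨1, fun a ha => ha, ⟨a, ha, ha0⟩, fun q _ a _ => by simp⟩

theorem Intw.injOn {g : H} {A B : Submodule K V} (hA : IrrSubspace ρ Q A) {f : Module.End K V}
    (hne : ∃ a ∈ A, f a ≠ 0) (hf : ∀ q ∈ Q, ∀ a ∈ A, f (ρ q a) = ρ (g * q * g⁻¹) (f a))
    {a : V} (ha : a ∈ A) (h0 : f a = 0) : a = 0 := by
  have hinv : InvUnder ρ Q (A ⊓ LinearMap.ker f) := fun q hq b hb => by
    refine ⟨hA.inv q hq b hb.1, ?_⟩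
    rw [SetLike.mem_coe, LinearMap.mem_ker, hf q hq b hb.1, LinearMap.mem_ker.1 hb.2, map_zero]
  rcases hA.min _ inf_le_left hinv with h | h
  · exact (Submodule.mem_bot K).1 (h ▸ ⟨ha, h0⟩)
  · obtain ⟨b, hb, hb0⟩ := hne
    exact absurd (LinearMap.mem_ker.1 (h.ge hb).2) hb0

theorem Intw.surjOn {g : H} (hg : g ∈ normalizer (Q : Set H)) {A B : Submodule K V}
    (hA : IrrSubspace ρ Q A) (hB : IrrSubspace ρ Q B) {f : Module.End K V}
    (hAB : ∀ a ∈ A, f a ∈ B) (hne : ∃ a ∈ A, f a ≠ 0)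
    (hf : ∀ q ∈ Q, ∀ a ∈ A, f (ρ q a) = ρ (g * q * g⁻¹) (f a)) : A.map f = B := by
  have hle : A.map f ≤ B := Submodule.map_le_iff_le_comap.2 hAB
  refine (hB.min _ hle fun q hq b hb => ?_).resolve_left fun h => ?_
  · obtain ⟨a, ha, rfl⟩ := hb
    have hq' : g⁻¹ * q * g ∈ Q := by
      have := (mem_normalizer_iff.1 (inv_mem hg) q).1 hq
      rwa [inv_inv] at this
    refine ⟨ρ (g⁻¹ * q * g) a, hA.inv _ hq' a ha, ?_⟩
    rw [hf _ hq' a ha, show g * (g⁻¹ * q * g) * g⁻¹ = q by group]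
  · obtain ⟨a, ha, ha0⟩ := hne
    exact ha0 ((Submodule.mem_bot K).1 (h.le ⟨a, ha, rfl⟩))

theorem Intw.comp {g h : H} (hg : g ∈ normalizer (Q : Set H)) {A B C : Submodule K V}
    (hB : IrrSubspace ρ Q B) (h1 : Intw ρ Q g A B) (h2 : Intw ρ Q h B C) :
    Intw ρ Q (h * g) A C := by
  obtain ⟨f₁, h1AB, ⟨a, ha, ha0⟩, h1f⟩ := h1
  obtain ⟨f₂, h2BC, h2ne, h2f⟩ := h2
  refine ⟨f₂ * f₁, fun a ha => h2BC _ (h1AB a ha), ⟨a, ha, fun h0 => ha0 ?_⟩, fun q hq b hb => ?_⟩
  · exact Intw.injOn (B := C) hB h2ne h2f (h1AB a ha) h0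
  · rw [Module.End.mul_apply, h1f q hq b hb, h2f _ ((mem_normalizer_iff.1 hg q).1 hq) _ (h1AB b hb),
      Module.End.mul_apply]
    congr 2
    group

theorem Intw.symm {g : H} (hg : g ∈ normalizer (Q : Set H)) {A B : Submodule K V}
    (hA : IrrSubspace ρ Q A) (hB : IrrSubspace ρ Q B) (h : Intw ρ Q g A B) :
    Intw ρ Q g⁻¹ B A := by
  obtain ⟨f, hAB, hne, hf⟩ := h
  have hker : LinearMap.ker (f ∘ₗ A.subtype) = ⊥ := by
    rw [eq_bot_iff]
    intro a ha
    exact (Submodule.mem_bot K).2 (Subtype.ext (Intw.injOn (B := B) hA hne hf a.2 ha))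
  obtain ⟨l, hl⟩ := LinearMap.exists_leftInverse_of_injective _ hker
  have hla : ∀ a ∈ A, A.subtype (l (f a)) = a := fun a ha => by
    have := LinearMap.congr_fun hl ⟨a, ha⟩
    exact congrArg Subtype.val this
  have hsurj := Intw.surjOn hg hA hB hAB hne hf
  obtain ⟨a, ha, ha0⟩ := hne
  refine ⟨A.subtype ∘ₗ l, fun b _ => (l b).2, ⟨f a, hAB a ha, ?_⟩, fun q hq b hb => ?_⟩
  · rw [LinearMap.comp_apply, hla a ha]
    exact fun h => ha0 (by rw [h, map_zero])
  · obtain ⟨c, hc, rfl⟩ := hsurj.ge hb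
    have hq' : g⁻¹ * q * g ∈ Q := by
      have := (mem_normalizer_iff.1 (inv_mem hg) q).1 hq
      rwa [inv_inv] at this
    have e : ρ q (f c) = f (ρ (g⁻¹ * q * g) c) := by
      rw [hf _ hq' c hc, show g * (g⁻¹ * q * g) * g⁻¹ = q by group]
    rw [e, LinearMap.comp_apply, hla _ (hA.inv _ hq' c hc), LinearMap.comp_apply, hla c hc, inv_inv]

theorem irrSubspace_map {g : H} (hg : g ∈ normalizer (Q : Set H)) {A : Submodule K V}
    (hA : IrrSubspace ρ Q A) : IrrSubspace ρ Q (A.map (ρ g)) := by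
  have hconj : ∀ q ∈ Q, g⁻¹ * q * g ∈ Q := fun q hq => by
    have := (mem_normalizer_iff.1 (inv_mem hg) q).1 hq
    rwa [inv_inv] at this
  refine ⟨?_, fun h => hA.ne ?_, fun B hB hinv => ?_⟩
  · rintro q hq _ ⟨a, ha, rfl⟩
    refine ⟨ρ (g⁻¹ * q * g) a, hA.inv _ (hconj q hq) a ha, ?_⟩
    rw [← rho_mul_apply, ← rho_mul_apply]
    congr 2
    group
  · refine (Submodule.eq_bot_iff _).2 fun a ha => ?_
    have h0 : ρ g a = 0 := (Submodule.mem_bot K).1 (h.le ⟨a, ha, rfl⟩)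
    rw [← rho_inv_apply (ρ := ρ) g a, h0, map_zero]
  · have h1 : B.map (ρ g⁻¹) ≤ A := by
      rintro _ ⟨b, hb, rfl⟩
      obtain ⟨a, ha, rfl⟩ := hB hb
      rwa [rho_inv_apply]
    have h2 : InvUnder ρ Q (B.map (ρ g⁻¹)) := by
      rintro q hq _ ⟨b, hb, rfl⟩
      refine ⟨ρ (g * q * g⁻¹) b, hinv _ ((mem_normalizer_iff.1 hg q).1 hq) b hb, ?_⟩
      rw [← rho_mul_apply, ← rho_mul_apply]
      congr 2
      group
    have h3 : B = (B.map (ρ g⁻¹)).map (ρ g) := by
      rw [← Submodule.map_comp]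
      have : ρ g ∘ₗ ρ g⁻¹ = LinearMap.id := by
        show ρ g * ρ g⁻¹ = 1
        rw [← map_mul, mul_inv_cancel, map_one]
      rw [this, Submodule.map_id]
    rcases hA.min _ h1 h2 with h | h
    · exact Or.inl (by rw [h3, h, Submodule.map_bot])
    · exact Or.inr (by rw [h3, h])

theorem Intw.translate {g : H} (hg : g ∈ normalizer (Q : Set H)) {A : Submodule K V}
    (hA : IrrSubspace ρ Q A) : Intw ρ Q g A (A.map (ρ g)) := by
  obtain ⟨a, ha, ha0⟩ := (Submodule.ne_bot_iff A).1 hA.ne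
  refine ⟨ρ g, fun a ha => ⟨a, ha, rfl⟩, ⟨a, ha, fun h => ha0 ?_⟩, fun q _ a _ => ?_⟩
  · rw [← rho_inv_apply (ρ := ρ) g a, h, map_zero]
  · rw [← rho_mul_apply, ← rho_mul_apply]
    congr 2
    group

theorem disjoint_of_not_intw {ι : Type*} (U : ι → Submodule K V)
    (hirr : ∀ i, IrrSubspace ρ Q (U i)) (hno : ∀ i k, i ≠ k → ¬ Intw ρ Q 1 (U i) (U k)) :
    ∀ (S : Finset ι) (a : ι), a ∉ S → Disjoint (U a) (S.sup U) := by
  classical
  intro S
  induction S using Finset.induction_on with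
  | empty => intro a _; simp
  | @insert b S hbS ih =>
    intro a haS
    rw [Finset.mem_insert, not_or] at haS
    have hda : Disjoint (U a) (S.sup U) := ih a haS.2
    have hdb : Disjoint (U b) (S.sup U) := ih b hbS
    rw [Finset.sup_insert, disjoint_iff]
    have hinvS : InvUnder ρ Q (S.sup U) := fun q hq v hv => by
      have h1 : S.sup U ≤ (S.sup U).comap (ρ q) := Finset.sup_le fun i hi w hw =>
        (Finset.le_sup (f := U) hi) ((hirr i).inv q hq w hw)
      exact h1 hv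
    have hinvU : InvUnder ρ Q (U a ⊓ (U b ⊔ S.sup U)) := fun q hq v hv => by
      refine ⟨(hirr a).inv q hq v hv.1, ?_⟩
      obtain ⟨x, hx, y, hy, rfl⟩ := Submodule.mem_sup.1 hv.2
      rw [map_add]
      exact Submodule.add_mem_sup ((hirr b).inv q hq x hx) (hinvS q hq y hy)
    refine ((hirr a).min _ inf_le_left hinvU).resolve_right fun h => ?_
    -- the projection to `U b`
    let j := (U b).subtype.coprod (S.sup U).subtype
    have hj : LinearMap.ker j = ⊥ := by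
      rw [eq_bot_iff]
      rintro ⟨⟨x, hx⟩, ⟨y, hy⟩⟩ hxy
      have hxy' : x + y = 0 := hxy
      have hxS : x ∈ S.sup U := by
        rw [eq_neg_of_add_eq_zero_left hxy']
        exact Submodule.neg_mem _ hy
      have hx0 : x = 0 := Submodule.disjoint_def.1 hdb x hx hxS
      subst hx0
      rw [zero_add] at hxy'
      subst hxy'
      rfl
    obtain ⟨l, hl⟩ := LinearMap.exists_leftInverse_of_injective j hj
    let P : Module.End K V := (U b).subtype ∘ₗ LinearMap.fst K _ _ ∘ₗ l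
    have hP : ∀ x ∈ U b, ∀ y ∈ S.sup U, P (x + y) = x := fun x hx y hy => by
      have := LinearMap.congr_fun hl (⟨x, hx⟩, ⟨y, hy⟩)
      exact congrArg (fun z : ↥(U b) × ↥(S.sup U) => (z.1 : V)) this
    refine hno a b haS.1
      ⟨P, fun v hv => (LinearMap.fst K _ _ (l v)).2, ?_, fun q hq v hv => ?_⟩
    · obtain ⟨v, hv, hv0⟩ := (Submodule.ne_bot_iff _).1 (hirr a).ne
      refine ⟨v, hv, fun h0 => hv0 ?_⟩
      obtain ⟨x, hx, y, hy, rfl⟩ := Submodule.mem_sup.1 (h.ge hv).2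
      rw [hP x hx y hy] at h0
      subst h0
      rw [zero_add] at hv ⊢
      exact Submodule.disjoint_def.1 hda y hv hy
    · obtain ⟨x, hx, y, hy, rfl⟩ := Submodule.mem_sup.1 (h.ge hv).2
      rw [one_mul, inv_one, mul_one, map_add, hP _ ((hirr b).inv q hq x hx) _ (hinvS q hq y hy),
        hP x hx y hy]

variable [FiniteDimensional K V]

theorem exists_irrSubspace {A : Submodule K V} (hA : InvUnder ρ Q A) (hne : A ≠ ⊥) :
    ∃ U ≤ A, IrrSubspace ρ Q U := by
  classical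
  have hex : ∃ n, ∃ U : Submodule K V, U ≤ A ∧ InvUnder ρ Q U ∧ U ≠ ⊥ ∧ finrank K U = n :=
    ⟨_, A, le_rfl, hA, hne, rfl⟩
  obtain ⟨U, hUA, hUinv, hUne, hU⟩ := Nat.find_spec hex
  refine ⟨U, hUA, hUinv, hUne, fun B hB hBinv => or_iff_not_imp_left.2 fun hB0 => ?_⟩
  refine Submodule.eq_of_le_of_finrank_le hB (hU.le.trans ?_)
  exact Nat.find_le ⟨B, hB.trans hUA, hBinv, hB0, rfl⟩

variable [Finite H]

theorem exists_nontrivial_irrSubspace (hQ : (Nat.card Q : K) ≠ 0) (hne : ∃ q ∈ Q, ρ q ≠ 1) :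
    ∃ U, IrrSubspace ρ Q U ∧ ∃ q ∈ Q, ∃ u ∈ U, ρ q u ≠ u := by
  classical
  have : Fintype Q := Fintype.ofFinite Q
  rw [Nat.card_eq_fintype_card] at hQ
  set P : Module.End K V := ∑ q : Q, ρ (q : H) with hP
  have hl : ∀ q ∈ Q, ρ q * P = P := fun q hq => by
    rw [hP, Finset.mul_sum]
    refine Fintype.sum_equiv (Equiv.mulLeft ⟨q, hq⟩) _ _ fun r => ?_
    show ρ q * ρ (r : H) = ρ ((⟨q, hq⟩ * r : Q) : H)
    rw [← map_mul]; rfl
  have hr : ∀ q ∈ Q, P * ρ q = P := fun q hq => by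
    rw [hP, Finset.sum_mul]
    refine Fintype.sum_equiv (Equiv.mulRight ⟨q, hq⟩) _ _ fun r => ?_
    show ρ (r : H) * ρ q = ρ ((r * ⟨q, hq⟩ : Q) : H)
    rw [← map_mul]; rfl
  have hfix : ∀ v : V, (∀ q ∈ Q, ρ q v = v) → P v = (Fintype.card Q : K) • v := fun v hv => by
    rw [hP, LinearMap.sum_apply, Finset.sum_congr rfl fun q _ => hv _ q.2, Finset.sum_const,
      Finset.card_univ, Nat.cast_smul_eq_nsmul]
  have hker : LinearMap.ker P ≠ ⊥ := fun hbot => by
    obtain ⟨q, hq, hqne⟩ := hne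
    refine hqne (LinearMap.ext fun v => ?_)
    have h1 : ρ q v - v ∈ LinearMap.ker P := by
      rw [LinearMap.mem_ker, map_sub, ← Module.End.mul_apply, hr q hq, sub_self]
    rw [hbot, Submodule.mem_bot, sub_eq_zero] at h1
    exact h1
  obtain ⟨U, hU, hirr⟩ := exists_irrSubspace (ρ := ρ) (Q := Q) (A := LinearMap.ker P)
    (fun q hq v hv => by
      rw [LinearMap.mem_ker] at hv ⊢
      rw [← Module.End.mul_apply, hr q hq, hv]) hker
  refine ⟨U, hirr, ?_⟩
  by_contra hall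
  push Not at hall
  obtain ⟨u, hu, hu0⟩ := (Submodule.ne_bot_iff U).1 hirr.ne
  have h1 := hfix u fun q hq => hall q hq u hu
  rw [LinearMap.mem_ker.1 (hU hu), eq_comm, smul_eq_zero] at h1
  exact h1.elim hQ hu0

/-- powers `i` with `x ^ i` stabilising the isomorphism class of `U` -/
theorem exists_stab_power {p n : ℕ} [Fact p.Prime] {x : H} (hx : x ∈ normalizer (Q : Set H))
    (hn : orderOf x = p ^ n) {U : Submodule K V} (hU : IrrSubspace ρ Q U) :
    ∃ j ≤ n, Intw ρ Q (x ^ p ^ j) U U ∧ ∀ i : ℕ, Intw ρ Q (x ^ i) U U → p ^ j ∣ i := by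
  classical
  have hmul : ∀ c i : ℕ, Intw ρ Q (x ^ i) U U → Intw ρ Q (x ^ (c * i)) U U := by
    intro c i hi
    induction c with
    | zero => rw [zero_mul, pow_zero]; exact Intw.one hU
    | succ c ih =>
      rw [add_mul, one_mul, pow_add]
      exact Intw.comp (pow_mem hx _) hU hi ih
  have hgcd : ∀ i : ℕ, Intw ρ Q (x ^ i) U U →
      ∃ a ≤ n, Intw ρ Q (x ^ p ^ a) U U ∧ p ^ a ∣ i := by
    intro i hi
    obtain ⟨a, ha, hga⟩ := (Nat.dvd_prime_pow (Fact.out : p.Prime)).1 (Nat.gcd_dvd_right i (p ^ n))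
    refine ⟨a, ha, ?_, hga ▸ Nat.gcd_dvd_left _ _⟩
    by_cases hn0 : p ^ n = 1
    · have hx1 : x = 1 := orderOf_eq_one_iff.1 (hn.trans hn0)
      rw [hx1, one_pow]
      exact Intw.one hU
    · have hlt : Nat.gcd i (p ^ n) < p ^ n ∨ Nat.gcd i (p ^ n) = p ^ n :=
        lt_or_eq_of_le (Nat.gcd_le_right i (pow_pos (Fact.out : p.Prime).pos n))
      rcases hlt with hlt | heq
      · obtain ⟨c, -, hc⟩ := Nat.exists_mul_mod_eq_gcd hlt
        have := hmul c i hi
        rw [← pow_mod_orderOf, hn, mul_comm, hc, hga] at this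
        exact this
      · rw [← hga, heq, ← hn, pow_orderOf_eq_one]
        exact Intw.one hU
  have hex : ∃ a, Intw ρ Q (x ^ p ^ a) U U :=
    ⟨n, by rw [← hn, pow_orderOf_eq_one]; exact Intw.one hU⟩
  refine ⟨Nat.find hex, Nat.find_le (by rw [← hn, pow_orderOf_eq_one]; exact Intw.one hU),
    Nat.find_spec hex, fun i hi => ?_⟩
  obtain ⟨a, -, ha, hai⟩ := hgcd i hi
  exact (pow_dvd_pow p (Nat.find_le ha)).trans hai

theorem exists_invariant_constituent [IsAlgClosed K] {x : H} (hx : x ∈ normalizer (Q : Set H))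
    {U : Submodule K V} (hU : IrrSubspace ρ Q U) (hUU : Intw ρ Q x U U) :
    ∃ W, IrrSubspace ρ Q W ∧ (∀ w ∈ W, ρ x w ∈ W) ∧ Intw ρ Q 1 U W := by
  classical
  obtain ⟨t, htU, htne, ht⟩ := Intw.symm hx hU hU hUU
  let T : ↥U →ₗ[K] ↥U := t.restrict htU
  let M : Submodule K (↥U →ₗ[K] V) :=
    { carrier := {f | ∀ (q : H) (hq : q ∈ Q) (u : U), f ⟨ρ q u, hU.inv q hq u u.2⟩ = ρ q (f u)}
      add_mem' := fun ha hb q hq u => by simp [ha q hq u, hb q hq u]
      zero_mem' := fun q hq u => by simp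
      smul_mem' := fun c f hf q hq u => by simp [hf q hq u] }
  let Θ : M →ₗ[K] M :=
    { toFun := fun f => ⟨ρ x ∘ₗ f.1 ∘ₗ T, fun q hq u => by
        have hq' : x⁻¹ * q * x ∈ Q := by
          have := (mem_normalizer_iff.1 (inv_mem hx) q).1 hq
          rwa [inv_inv] at this
        show ρ x (f.1 (T ⟨ρ q u, _⟩)) = ρ q (ρ x (f.1 (T u)))
        have e : T ⟨ρ q u, hU.inv q hq u u.2⟩ = ⟨ρ (x⁻¹ * q * x) (T u), hU.inv _ hq' _ (T u).2⟩ :=
          Subtype.ext (by
            show t (ρ q u) = ρ (x⁻¹ * q * x) (t u)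
            rw [ht q hq u u.2, inv_inv])
        rw [e, f.2 _ hq' (T u), ← rho_mul_apply, ← rho_mul_apply]
        congr 2
        group⟩
      map_add' := fun f g => Subtype.ext (LinearMap.ext fun u => by simp)
      map_smul' := fun c f => Subtype.ext (LinearMap.ext fun u => by simp) }
  have hM : Nontrivial M := by
    refine ⟨⟨⟨U.subtype, fun q hq u => rfl⟩, 0, fun h => hU.ne ?_⟩⟩
    refine (Submodule.eq_bot_iff U).2 fun u hu => ?_
    exact LinearMap.congr_fun (congrArg Subtype.val h) ⟨u, hu⟩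
  obtain ⟨μ, hμ⟩ := Module.End.exists_eigenvalue Θ
  obtain ⟨f, hf, hf0⟩ := hμ.exists_hasEigenvector
  have hfe : ∀ u : U, ρ x (f.1 (T u)) = μ • f.1 u := fun u =>
    LinearMap.congr_fun (congrArg Subtype.val (Module.End.mem_eigenspace_iff.1 hf)) u
  have hker : LinearMap.ker f.1 = ⊥ := by
    have hinv : InvUnder ρ Q ((LinearMap.ker f.1).map U.subtype) := by
      rintro q hq _ ⟨u, hu, rfl⟩
      refine ⟨⟨ρ q u, hU.inv q hq u u.2⟩, ?_, rfl⟩
      rw [SetLike.mem_coe, LinearMap.mem_ker, f.2 q hq u, LinearMap.mem_ker.1 hu, map_zero]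
    rcases hU.min _ (Submodule.map_subtype_le _ _) hinv with h | h
    · exact (Submodule.eq_bot_iff _).2 fun u hu =>
        Subtype.ext ((Submodule.mem_bot K).1 (h.le ⟨u, hu, rfl⟩))
    · refine absurd (Subtype.ext (LinearMap.ext fun u => ?_)) hf0
      obtain ⟨u', hu', he⟩ := h.ge u.2
      rw [← show u' = u from Subtype.ext he]
      exact hu'
  obtain ⟨l, hl⟩ := LinearMap.exists_leftInverse_of_injective U.subtype U.ker_subtype
  let F : Module.End K V := f.1 ∘ₗ l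
  have hF : ∀ u (hu : u ∈ U), F u = f.1 ⟨u, hu⟩ := fun u hu =>
    congrArg f.1 (LinearMap.congr_fun hl ⟨u, hu⟩)
  have hFint : ∀ q ∈ Q, ∀ u ∈ U, F (ρ q u) = ρ q (F u) := fun q hq u hu => by
    rw [hF u hu, hF _ (hU.inv q hq u hu)]
    exact f.2 q hq ⟨u, hu⟩
  set W := U.map F with hW
  have hWirr : IrrSubspace ρ Q W := by
    refine ⟨?_, fun h => hU.ne ?_, fun B hB hinv => ?_⟩
    · rintro q hq _ ⟨u, hu, rfl⟩
      exact ⟨ρ q u, hU.inv q hq u hu, hFint q hq u hu⟩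
    · refine (Submodule.eq_bot_iff U).2 fun u hu => ?_
      have h0 : f.1 ⟨u, hu⟩ = 0 := by
        rw [← hF u hu]; exact (Submodule.mem_bot K).1 (h.le ⟨u, hu, rfl⟩)
      exact congrArg Subtype.val ((LinearMap.ker_eq_bot'.1 hker) _ h0)
    · rcases hU.min (U ⊓ B.comap F) inf_le_left (fun q hq u hu => ⟨hU.inv q hq u hu.1, by
        show F (ρ q u) ∈ B
        rw [hFint q hq u hu.1]
        exact hinv q hq _ hu.2⟩) with h | h
      · refine Or.inl ((Submodule.eq_bot_iff B).2 fun b hb => ?_)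
        obtain ⟨u, hu, rfl⟩ := hB hb
        rw [(Submodule.mem_bot K).1 (h.le ⟨hu, hb⟩), map_zero]
      · refine Or.inr (le_antisymm hB ?_)
        rintro _ ⟨u, hu, rfl⟩
        exact (h.ge hu).2
  refine ⟨W, hWirr, ?_, F, fun u hu => ⟨u, hu, rfl⟩, ?_, fun q hq u hu => ?_⟩
  · -- `T` is onto
    rintro _ ⟨u, hu, rfl⟩
    obtain ⟨v, hv, rfl⟩ := (Intw.surjOn (inv_mem hx) hU hU htU htne ht).ge hu
    refine ⟨μ • v, U.smul_mem μ hv, ?_⟩
    rw [map_smul, hF v hv, hF (t v) (htU v hv)]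
    exact (hfe ⟨v, hv⟩).symm
  · obtain ⟨u, hu, hu0⟩ := (Submodule.ne_bot_iff U).1 hU.ne
    refine ⟨u, hu, fun h => hu0 ?_⟩
    rw [hF u hu] at h
    exact congrArg Subtype.val ((LinearMap.ker_eq_bot'.1 hker) _ h)
  · rw [one_mul, inv_one, mul_one]
    exact hFint q hq u hu

/-- the Clifford bound -/
theorem le_of_induced {p n j s r : ℕ} [Fact p.Prime] [CharP K p] {x : H}
    (hx : x ∈ normalizer (Q : Set H)) (hn : orderOf x = p ^ n) {W : Submodule K V}
    (hW : IrrSubspace ρ Q W) (hWx : ∀ w ∈ W, ρ (x ^ p ^ j) w ∈ W)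
    (hj : ∀ i : ℕ, Intw ρ Q (x ^ i) W W → p ^ j ∣ i)
    (hs : ∃ w ∈ W, ((ρ (x ^ p ^ j) - 1 : Module.End K V) ^ s) w ≠ 0) (hr : (ρ x - 1) ^ r = 0) :
    p ^ j * (s + 1) ≤ r := by
  classical
  set d := p ^ j with hd
  have hd0 : 0 < d := pow_pos (Fact.out : p.Prime).pos j
  have hdn : d ∣ p ^ n := hj _ (by rw [← hn, pow_orderOf_eq_one]; exact Intw.one hW)
  haveI : Nontrivial V := by
    obtain ⟨w, -, hw⟩ := (Submodule.ne_bot_iff W).1 hW.ne
    exact ⟨⟨w, 0, hw⟩⟩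
  haveI : CharP (Module.End K V) p := charP_of_injective_algebraMap
    (RingHom.injective (algebraMap K (Module.End K V))) p
  obtain ⟨w, hw, hw0⟩ := hs
  set u := ((ρ (x ^ d) - 1) ^ s) w with hu
  have huW : u ∈ W := by
    have key : ∀ k, ∀ v ∈ W, ((ρ (x ^ d) - 1 : Module.End K V) ^ k) v ∈ W := by
      intro k
      induction k with
      | zero => intro v hv; exact hv
      | succ k ih =>
        intro v hv
        rw [pow_succ', Module.End.mul_apply]
        exact W.sub_mem (hWx _ (ih v hv)) (ih v hv)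
    exact key s w hw
  by_contra hlt
  push Not at hlt
  have hsum : ((ρ x - 1) ^ (d - 1 + d * s)) w = 0 := by
    have hle : r ≤ d - 1 + d * s := by
      rw [Nat.mul_succ] at hlt
      omega
    rw [← Nat.sub_add_cancel hle, pow_add, hr, mul_zero, LinearMap.zero_apply]
  have hpow : (ρ x - 1) ^ d = ρ (x ^ d) - 1 := by
    rw [hd, sub_pow_char_pow_of_commute p j (Commute.one_right _), one_pow, map_pow]
  have hgeom : (ρ x - 1) ^ (d - 1) = ∑ i ∈ Finset.range d, ρ (x ^ i) := by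
    have := congrArg (Polynomial.aeval (ρ x)) (poly_sub_one_pow (K := K) p j)
    simpa [map_pow] using this
  rw [pow_add, pow_mul, hpow, hgeom, Module.End.mul_apply, ← hu, LinearMap.sum_apply] at hsum
  have hxpow : ∀ i : ℕ, x ^ i ∈ normalizer (Q : Set H) := fun i => pow_mem hx i
  let U : Fin d → Submodule K V := fun i => W.map (ρ (x ^ (i : ℕ)))
  have hno : ∀ i k : Fin d, i ≠ k → ¬ Intw ρ Q 1 (U i) (U k) := by
    have key : ∀ i k : Fin d, (i : ℕ) < k → ¬ Intw ρ Q 1 (U k) (U i) := by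
      intro i k hik h
      have h1 := Intw.comp (hxpow k) (irrSubspace_map (hxpow k) hW) (Intw.translate (hxpow k) hW) h
      have h2 := Intw.comp (mul_mem (one_mem _) (hxpow k)) (irrSubspace_map (hxpow i) hW) h1
        (Intw.symm (hxpow i) hW (irrSubspace_map (hxpow i) hW) (Intw.translate (hxpow i) hW))
      rw [one_mul, show (x ^ (i : ℕ))⁻¹ * x ^ (k : ℕ) = x ^ ((k : ℕ) - i) by
        rw [inv_mul_eq_iff_eq_mul, ← pow_add]; congr 1; omega] at h2
      have h3 := Nat.le_of_dvd (by omega) (hj _ h2)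
      omega
    intro i k hne h
    rcases Nat.lt_trichotomy (i : ℕ) k with hlt' | heq | hlt'
    · refine key i k hlt' ?_
      have := Intw.symm (one_mem _) (irrSubspace_map (hxpow i) hW) (irrSubspace_map (hxpow k) hW) h
      rwa [inv_one] at this
    · exact hne (Fin.ext heq)
    · exact key k i hlt' h
  have hdisj := disjoint_of_not_intw U (fun i => irrSubspace_map (hxpow i) hW) hno
    (Finset.univ.erase ⟨0, hd0⟩) ⟨0, hd0⟩ (Finset.notMem_erase _ _)
  rw [← Fin.sum_univ_eq_sum_range (fun i => ρ (x ^ i) u),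
    ← Finset.add_sum_erase _ _ (Finset.mem_univ (⟨0, hd0⟩ : Fin d))] at hsum
  refine hw0 (Submodule.disjoint_def.1 hdisj u ?_ ?_)
  · refine ⟨u, huW, ?_⟩
    simp
  · rw [show u = -(∑ i ∈ Finset.univ.erase (⟨0, hd0⟩ : Fin d), ρ (x ^ (i : ℕ)) u) by
      rw [eq_neg_iff_add_eq_zero]; simpa using hsum]
    refine Submodule.neg_mem _ (Submodule.sum_mem _ fun i hi => ?_)
    exact Finset.le_sup (f := U) hi ⟨u, huW, rfl⟩

end CfsgLib.Core.HHCritical.LinB
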