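import Mathlib
import Cfsg.Agent.Lib.Core.HHCritical.Main
import Cfsg.Agent.Lib.Core.CriticalSubgroup
import Cfsg.Agent.Lib.PGroups.CyclicNorm
import Cfsg.Agent.Lib.PGroups.Basic

/-!
# Hall–Higman's Theorem B

An operator `X` with `X ^ p ^ (m + 1) = 1` on a vector space in characteristic `p` normalises a
`q`-group `U` of operators, inducing the automorphism `θ`.

* `theoremB`: if `(X - 1) ^ s = 0` with `s < p ^ (m + 1)` then `θ ^ p ^ m` fixes the operators, or
  `U` is nonabelian and some `p ^ n₀ - 1` is a power of `q` with `p ^ (m + 1 - n₀) * (p ^ n₀ - 1) ≤ s`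
-/

set_option autoImplicit false
set_option linter.all false

namespace CfsgLib.Core.HHCritical

open Module
open scoped commutatorElement

/-- The exceptional case of Theorem B. -/
def Exc (p q m s : ℕ) (U : Type*) [Group U] : Prop :=
  (∃ n0 b : ℕ, 1 ≤ n0 ∧ n0 ≤ m + 1 ∧ 1 ≤ b ∧ p ^ n0 - 1 = q ^ b ∧
    p ^ (m + 1 - n0) * (p ^ n0 - 1) ≤ s) ∧ ¬ ∀ a b : U, a * b = b * a

section Small

theorem eq_one_of_unipotent {E : Type*} [Ring E] {p : ℕ} [Fact p.Prime] [CharP E p] {d : E} {n : ℕ}
    (hn : d ^ n = 1) (hco : n.Coprime p) (h2 : (d - 1) ^ 2 = 0) : d = 1 := by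
  have hdp : d ^ p = 1 := by
    rw [← sub_eq_zero]
    have h := sub_pow_char_pow_of_commute p 1 (Commute.one_right d)
    rw [pow_one, one_pow] at h
    rw [← h, show p = 2 + (p - 2) by have := (Fact.out : p.Prime).two_le; omega, pow_add, h2,
      zero_mul]
  have h3 := pow_gcd_eq_one.mpr (⟨hn, hdp⟩ : d ^ n = 1 ∧ d ^ p = 1)
  rwa [hco.gcd_eq_one, pow_one] at h3

theorem exists_fixed_vector {K H : Type*} [Field K] {p : ℕ} [Fact p.Prime] [CharP K p]
    [AddCommGroup H] [Module K H] [Nontrivial H] (A : Module.End K H) {k : ℕ}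
    (hA : A ^ p ^ k = 1) : ∃ v : H, v ≠ 0 ∧ A v = v := by
  haveI : CharP (Module.End K H) p := charP_of_injective_algebraMap
    (RingHom.injective (algebraMap K (Module.End K H))) p
  by_contra hne
  push Not at hne
  have hinj : Function.Injective (A - 1 : Module.End K H) := by
    rw [injective_iff_map_eq_zero]
    intro v hv
    by_contra hv0
    rw [LinearMap.sub_apply, Module.End.one_apply, sub_eq_zero] at hv
    exact hne v hv0 hv
  have h0 : (A - 1) ^ p ^ k = 0 := by
    rw [sub_pow_char_pow_of_commute p k (Commute.one_right _), one_pow, hA, sub_self]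
  obtain ⟨v, hv⟩ := exists_ne (0 : H)
  refine hv ?_
  have : Function.Injective ((A - 1) ^ p ^ k : Module.End K H) := by
    rw [Module.End.coe_pow]
    exact hinj.iterate _
  refine this ?_
  rw [h0, LinearMap.zero_apply, LinearMap.zero_apply]

variable {K V : Type*} [Field K] [AddCommGroup V] [Module K V]

/-- Common eigenvectors to distinct systems of eigenvalues are independent. -/
theorem common_eigen_indep {C ι : Type*} (f : C → Module.End K V) (lam : ι → C → K) (s : Finset ι)
    (v : ι → V) (hinj : Set.InjOn lam (s : Set ι)) (hv : ∀ i ∈ s, ∀ c, f c (v i) = lam i c • v i)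
    (hsum : ∑ i ∈ s, v i = 0) : ∀ i ∈ s, v i = 0 := by
  classical
  induction s using Finset.induction_on generalizing v with
  | empty => simp
  | @insert k s hk ih =>
    have hinj' : Set.InjOn lam (s : Set ι) := hinj.mono (by simp)
    rw [Finset.sum_insert hk] at hsum
    have hs : ∀ i ∈ s, v i = 0 := by
      intro i hi
      obtain ⟨c, hc⟩ : ∃ c, lam i c ≠ lam k c := by
        by_contra hne
        push Not at hne
        have : i = k := hinj (by simp [hi]) (by simp) (funext hne)
        exact hk (this ▸ hi)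
      have h1 : ∀ j ∈ s, (lam j c - lam k c) • v j = 0 := by
        refine ih (fun j => (lam j c - lam k c) • v j) hinj' (fun j hj d => ?_) ?_
        · rw [map_smul, hv j (Finset.mem_insert_of_mem hj), smul_comm]
        · have h2 := congrArg (fun x => f c x - lam k c • x) hsum
          simp only [map_add, map_sum, map_zero, smul_zero, sub_zero, smul_add, Finset.smul_sum,
            hv k (Finset.mem_insert_self k s)] at h2
          rw [add_sub_add_left_eq_sub, ← Finset.sum_sub_distrib] at h2
          rw [← h2]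
          exact Finset.sum_congr rfl fun j hj => by
            rw [hv j (Finset.mem_insert_of_mem hj), sub_smul]
      exact (smul_eq_zero.1 (h1 i hi)).resolve_left (sub_ne_zero.2 hc)
    intro i hi
    rcases Finset.mem_insert.1 hi with rfl | hi
    · rwa [Finset.sum_eq_zero hs, add_zero] at hsum
    · exact hs i hi

/-- A commuting family has a common eigenvector. -/
theorem exists_common_eigenvector [IsAlgClosed K] [FiniteDimensional K V] [Nontrivial V]
    {C : Type*} (f : C → Module.End K V) (hf : ∀ c d, f c * f d = f d * f c) :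
    ∃ (lam : C → K) (v : V), v ≠ 0 ∧ ∀ c, f c v = lam c • v := by
  classical
  have hex : ∃ n, ∃ W : Submodule K V, W ≠ ⊥ ∧ (∀ c, ∀ w ∈ W, f c w ∈ W) ∧ finrank K W = n :=
    ⟨_, ⊤, top_ne_bot, fun _ _ _ => trivial, rfl⟩
  obtain ⟨W, hW0, hWinv, hWn⟩ := Nat.find_spec hex
  haveI : Nontrivial W := Submodule.nontrivial_iff_ne_bot.2 hW0
  have hsc : ∀ c, ∃ a : K, ∀ w ∈ W, f c w = a • w := by
    intro c
    obtain ⟨a, ha⟩ := Module.End.exists_eigenvalue ((f c).restrict (hWinv c))
    obtain ⟨w, hw⟩ := ha.exists_hasEigenvector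
    refine ⟨a, fun u hu => ?_⟩
    set E := W ⊓ Module.End.eigenspace (f c) a
    have hEn : E ≠ ⊥ := by
      rw [Submodule.ne_bot_iff]
      refine ⟨w, ⟨w.2, ?_⟩, fun h => hw.2 (Subtype.ext h)⟩
      rw [SetLike.mem_coe, Module.End.mem_eigenspace_iff]
      exact congrArg Subtype.val hw.apply_eq_smul
    have hEinv : ∀ d, ∀ x ∈ E, f d x ∈ E := by
      rintro d x ⟨hx1, hx2⟩
      refine ⟨hWinv d x hx1, ?_⟩
      rw [SetLike.mem_coe, Module.End.mem_eigenspace_iff] at hx2 ⊢
      rw [← Module.End.mul_apply, hf, Module.End.mul_apply, hx2, map_smul]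
    have hle : Nat.find hex ≤ finrank K E := Nat.find_min' hex ⟨E, hEn, hEinv, rfl⟩
    have hEW : E = W := Submodule.eq_of_le_of_finrank_le inf_le_left (hWn.le.trans hle)
    have : u ∈ E := hEW.symm ▸ hu
    exact Module.End.mem_eigenspace_iff.1 this.2
  choose lam hlam using hsc
  obtain ⟨w, hw, hw0⟩ := Submodule.exists_mem_ne_zero_of_ne_bot hW0
  exact ⟨lam, w, hw0, fun c => hlam c w hw⟩

end Small

section Centre

variable {U : Type*} [Group U] [Finite U]

/-- An automorphism of order prime to `q` of a `q`-group which fixes the displacement `f` of `g`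
fixes `g`. -/
theorem fixed_of_fixed_displacement {p q : ℕ} [Fact p.Prime] [Fact q.Prime] (hpq : p ≠ q)
    (hU : IsPGroup q U) (z : MulAut U) (hz : z ^ p = 1) {g f : U} (hg : z g = g * f) (hf : z f = f) :
    z g = g := by
  have hit : ∀ n : ℕ, (z ^ n) g = g * f ^ n := by
    intro n
    induction n with
    | zero => simp
    | succ n ih => rw [pow_succ', MulAut.mul_apply, ih, map_mul, map_pow, hg, hf, mul_assoc, ← pow_succ']
  have h1 := hit p
  rw [hz, MulAut.one_apply] at h1
  have hfp : f ^ p = 1 := left_eq_mul.1 h1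
  obtain ⟨i, hi⟩ := hU f
  have h3 := pow_gcd_eq_one.mpr (⟨hfp, hi⟩ : f ^ p = 1 ∧ f ^ q ^ i = 1)
  rw [(((Nat.coprime_primes Fact.out Fact.out).2 hpq).pow_right i).gcd_eq_one, pow_one] at h3
  rw [hg, h3, mul_one]

/-- If an automorphism `z` of order `p`, central in `⟨θ⟩`, fixes every proper `θ`-invariant subgroup
of a nonabelian `q`-group then the group has class two and `z` fixes exactly the centre. -/
theorem centre_facts {p q : ℕ} [Fact p.Prime] [Fact q.Prime] (hpq : p ≠ q) (hU : IsPGroup q U)
    (hna : ¬ ∀ a b : U, a * b = b * a) (θ z : MulAut U) (hzθ : ∀ g, z (θ g) = θ (z g))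
    (hz : z ^ p = 1) (hz1 : z ≠ 1)
    (hfix : ∀ M : Subgroup U, (∀ g ∈ M, θ g ∈ M) → M ≠ ⊤ → ∀ g ∈ M, z g = g) :
    (∀ a b : U, ⁅a, b⁆ ∈ Subgroup.center U) ∧ ∀ g, z g = g ↔ g ∈ Subgroup.center U := by
  classical
  haveI := hU.isNilpotent
  haveI : Nontrivial U := by
    by_contra h
    rw [not_nontrivial_iff_subsingleton] at h
    exact hna fun a b => Subsingleton.elim _ _
  have hall : ¬ ∀ g, z g = g := fun h => hz1 (MulEquiv.ext h)
  have hinv : ∀ M : Subgroup U, M.Characteristic → ∀ α : MulAut U, ∀ g ∈ M, α g ∈ M := by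
    intro M hM α g hg
    have := Subgroup.characteristic_iff_map_eq.1 hM α
    exact this ▸ Subgroup.mem_map_of_mem α.toMonoidHom hg
  set Φ := frattini U with hΦ
  haveI hΦc : Φ.Characteristic := by rw [hΦ]; infer_instance
  have hΦF : ∀ g ∈ Φ, z g = g := hfix Φ (hinv Φ hΦc θ) CfsgLib.PGroups.frattini_ne_top
  have hcomΦ : commutator U ≤ Φ := CfsgLib.PGroups.commutator_le_frattini' hU
  have hZt : Subgroup.center U ≠ ⊤ := fun h => hna fun a b =>
    (Subgroup.mem_center_iff.1 (h.symm ▸ Subgroup.mem_top a) b).symm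
  have hZF : ∀ g ∈ Subgroup.center U, z g = g :=
    hfix _ (hinv _ inferInstance θ) hZt
  -- the displacements generate
  have hD : Subgroup.closure (Set.range fun x : U => x⁻¹ * z x) = ⊤ := by
    by_contra hne
    refine hall fun g => fixed_of_fixed_displacement hpq hU z hz
      (mul_inv_cancel_left g (z g)).symm
      (hfix _ (fun x hx => ?_) hne _ (Subgroup.subset_closure ⟨g, rfl⟩))
    have : Subgroup.closure (Set.range fun x : U => x⁻¹ * z x) ≤
        (Subgroup.closure (Set.range fun x : U => x⁻¹ * z x)).comap θ.toMonoidHom := by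
      rw [Subgroup.closure_le]
      rintro _ ⟨y, rfl⟩
      rw [SetLike.mem_coe, Subgroup.mem_comap, MulEquiv.coe_toMonoidHom, map_mul, map_inv, ← hzθ]
      exact Subgroup.subset_closure ⟨θ y, rfl⟩
    exact this hx
  -- fixed points lie in every characteristic subgroup with abelian quotient
  have hker : ∀ (N : Subgroup U), N.Characteristic → commutator U ≤ N → ∀ x, z x = x → x ∈ N := by
    intro N hN hcN x hx
    haveI : N.Normal := inferInstance
    have hab : ∀ a b : U ⧸ N, a * b = b * a := fun a b =>
      (Subgroup.Normal.quotient_commutative_iff_commutator_le.2 hcN).is_comm.comm a b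
    letI : CommGroup (U ⧸ N) := { (inferInstance : Group (U ⧸ N)) with mul_comm := hab }
    let ψ : U →* U ⧸ N := MonoidHom.mk' (fun x => ((x⁻¹ * z x : U) : U ⧸ N)) fun a b => by
      simp only [QuotientGroup.mk_mul, QuotientGroup.mk_inv, map_mul, mul_inv_rev]
      generalize (a : U ⧸ N)⁻¹ = u
      generalize (b : U ⧸ N)⁻¹ = w
      ac_rfl
    have hψN : N ≤ ψ.ker := fun n hn => by
      show ((n⁻¹ * z n : U) : U ⧸ N) = 1
      exact (QuotientGroup.eq_one_iff _).2 (mul_mem (inv_mem hn) (hinv N hN z n hn))
    have hsurj : Function.Surjective (QuotientGroup.lift N ψ hψN) := by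
      rw [← MonoidHom.range_eq_top, eq_top_iff,
        ← MonoidHom.range_eq_top.2 (QuotientGroup.mk'_surjective N), MonoidHom.range_eq_map,
        ← hD, MonoidHom.map_closure, Subgroup.closure_le]
      rintro _ ⟨_, ⟨y, rfl⟩, rfl⟩
      exact ⟨(y : U ⧸ N), rfl⟩
    have hinj := (Finite.injective_iff_surjective.2 hsurj)
    refine (QuotientGroup.eq_one_iff x).1 (hinj ?_)
    rw [map_one, QuotientGroup.lift_mk]
    show ((x⁻¹ * z x : U) : U ⧸ N) = 1
    rw [hx, inv_mul_cancel]
    rfl
  -- the Frattini subgroup is central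
  have hΦZ : ∀ g ∈ Φ, g ∈ Subgroup.center U := by
    intro c hc
    rw [Subgroup.mem_center_iff]
    intro g
    have : Subgroup.closure (Set.range fun x : U => x⁻¹ * z x) ≤
        Subgroup.centralizer ({c} : Set U) := by
      rw [Subgroup.closure_le]
      rintro _ ⟨x, rfl⟩
      rw [SetLike.mem_coe, Subgroup.mem_centralizer_singleton_iff]
      have h1 : z (x * c * x⁻¹) = x * c * x⁻¹ :=
        hΦF _ ((inferInstance : Φ.Normal).conj_mem c hc x)
      rw [map_mul, map_mul, map_inv, hΦF c hc] at h1
      calc x⁻¹ * z x * c = x⁻¹ * (z x * c * (z x)⁻¹) * z x := by group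
        _ = x⁻¹ * (x * c * x⁻¹) * z x := by rw [h1]
        _ = c * (x⁻¹ * z x) := by group
    exact Subgroup.mem_centralizer_singleton_iff.1 (this (hD ▸ Subgroup.mem_top g))
  exact ⟨fun a b => hΦZ _ (hcomΦ (Subgroup.commutator_mem_commutator (Subgroup.mem_top a)
      (Subgroup.mem_top b))),
    fun g => ⟨fun h => hΦZ _ (hker Φ hΦc hcomΦ g h), hZF g⟩⟩

end Centre

section Intertwine

variable {K : Type*} [Field K] [IsAlgClosed K] {p q : ℕ} [Fact p.Prime] [Fact q.Prime] [CharP K p]
variable {U : Type*} [Group U] [Finite U]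
variable {W : Type*} [AddCommGroup W] [Module K W] [FiniteDimensional K W] [Nontrivial W]

theorem cast_pow_ne_zero (hpq : p ≠ q) (b : ℕ) : ((q ^ b : ℕ) : K) ≠ 0 := by
  rw [Ne, CharP.cast_eq_zero_iff K p]
  intro h
  exact hpq ((Nat.prime_dvd_prime_iff_eq Fact.out Fact.out).1
    ((Fact.out : p.Prime).dvd_of_dvd_pow h))

/-- An irreducible representation which is scalar and faithful on the centre of a group of class
two is equivalent to its twist by an automorphism fixing the centre. -/
theorem exists_intertwiner (hpq : p ≠ q) (hU : IsPGroup q U) (σ : U →* Module.End K W)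
    (hσ : IrrHom σ) (hcomm : ∀ a b : U, ⁅a, b⁆ ∈ Subgroup.center U)
    (hsc : ∀ c ∈ Subgroup.center U, ∃ e : K, σ c = e • (1 : Module.End K W))
    (hf : ∀ c ∈ Subgroup.center U, σ c = 1 → c = 1)
    (θ : MulAut U) (hθ : ∀ c ∈ Subgroup.center U, θ c = c) :
    ∃ T : Module.End K W, T ≠ 0 ∧ ∀ a, T * σ a = σ (θ a) * T := by
  classical
  haveI : Fintype U := Fintype.ofFinite U
  let b := Module.finBasis K W
  have htr : ∀ g : Module.End K W, LinearMap.trace K W g = ∑ i, b.coord i (g (b i)) := by
    intro g
    rw [LinearMap.trace_eq_matrix_trace K b, Matrix.trace]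
    exact Finset.sum_congr rfl fun i _ => by
      rw [Matrix.diag_apply, LinearMap.toMatrix_apply]; rfl
  -- traces off the centre
  have htr0 : ∀ u, u ∉ Subgroup.center U → LinearMap.trace K W (σ u) = 0 := by
    intro u hu
    obtain ⟨v, hv⟩ : ∃ v, v * u ≠ u * v := by
      by_contra h
      push Not at h
      exact hu (Subgroup.mem_center_iff.2 h)
    obtain ⟨e, he⟩ := hsc _ (hcomm v u)
    have he1 : e ≠ 1 := fun h => by
      rw [h, one_smul] at he
      exact hv (commutatorElement_eq_one_iff_mul_comm.1 (hf _ (hcomm v u) he))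
    have h1 : σ (v * u * v⁻¹) = e • σ u := by
      rw [show v * u * v⁻¹ = ⁅v, u⁆ * u by simp only [commutatorElement_def]; group, map_mul, he,
        smul_mul_assoc, one_mul]
    have h2 := congrArg (LinearMap.trace K W) h1
    rw [map_mul σ, map_mul σ, LinearMap.trace_mul_comm, ← mul_assoc, ← map_mul, inv_mul_cancel, map_one,
      one_mul, map_smul, smul_eq_mul] at h2
    by_contra hne
    exact he1 (mul_right_cancel₀ hne (by rw [← h2, one_mul]))
  by_contra hcon
  push Not at hcon
  have h0 : ∀ f : Module.End K W, ∑ u : U, σ (θ u) * f * σ u⁻¹ = 0 := by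
    intro f
    by_contra hne
    obtain ⟨a, ha⟩ := hcon _ hne
    refine ha ?_
    rw [Finset.sum_mul, Finset.mul_sum]
    refine Finset.sum_equiv (Equiv.mulLeft a⁻¹) (fun _ => by simp) fun u _ => ?_
    rw [Equiv.coe_mulLeft, ← mul_assoc, ← mul_assoc, ← map_mul, ← map_mul, mul_assoc, ← map_mul]
    congr 2
    · congr 1
      rw [mul_inv_cancel_left]
    · rw [mul_inv_rev, inv_inv]
  have hkey : ∀ i j, ∑ u : U, b.coord i (σ (θ u) (b i)) * b.coord j (σ u⁻¹ (b j)) = 0 := by
    intro i j
    have h := congrArg (fun g : Module.End K W => b.coord i (g (b j)))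
      (h0 ((b.coord j).smulRight (b i)))
    simp only [LinearMap.sum_apply, map_sum, Module.End.mul_apply, LinearMap.smulRight_apply,
      map_smul, LinearMap.zero_apply, map_zero, smul_eq_mul] at h
    rw [← h]
    exact Finset.sum_congr rfl fun u _ => mul_comm _ _
  have hT : ∑ u : U, LinearMap.trace K W (σ (θ u)) * LinearMap.trace K W (σ u⁻¹) = 0 := by
    simp only [htr, Finset.sum_mul_sum]
    rw [Finset.sum_comm]
    refine Finset.sum_eq_zero fun i _ => ?_
    rw [Finset.sum_comm]
    exact Finset.sum_eq_zero fun j _ => hkey i j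
  rw [← Finset.sum_subset (Finset.subset_univ (Finset.univ.filter fun u => u ∈ Subgroup.center U))
    (fun u _ hu => by rw [htr0 u⁻¹ (by simpa using hu), mul_zero])] at hT
  have hval : ∀ u ∈ Finset.univ.filter (fun u => u ∈ Subgroup.center U),
      LinearMap.trace K W (σ (θ u)) * LinearMap.trace K W (σ u⁻¹) =
        (finrank K W : K) * (finrank K W : K) := by
    intro u hu
    rw [Finset.mem_filter] at hu
    obtain ⟨e, he⟩ := hsc u hu.2
    obtain ⟨e', he'⟩ := hsc u⁻¹ (inv_mem hu.2)
    have hee : e * e' = 1 := by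
      have h : σ (u * u⁻¹) = (1 : Module.End K W) := by rw [mul_inv_cancel, map_one]
      rw [map_mul, he, he', smul_mul_smul_comm, one_mul] at h
      obtain ⟨w, hw⟩ := exists_ne (0 : W)
      have h' := LinearMap.congr_fun h w
      rw [LinearMap.smul_apply, Module.End.one_apply] at h'
      exact smul_left_injective K hw (show (e * e') • w = (1 : K) • w by rw [h', one_smul])
    rw [hθ u hu.2, he, he', map_smul, map_smul, LinearMap.trace_one, smul_eq_mul, smul_eq_mul,
      mul_mul_mul_comm, hee, one_mul]
  rw [Finset.sum_congr rfl hval, Finset.sum_const, nsmul_eq_mul] at hT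
  obtain ⟨d, hd⟩ := finrank_eq_pow_of_isPGroup hU σ hσ
  obtain ⟨e, he⟩ := IsPGroup.iff_card.1 (hU.to_subgroup (Subgroup.center U))
  have hcardZ : (Finset.univ.filter fun u => u ∈ Subgroup.center U).card = q ^ e := by
    rw [← he, Nat.card_eq_fintype_card, Fintype.card_subtype]
  rw [hcardZ, hd] at hT
  exact mul_ne_zero (cast_pow_ne_zero hpq e) (mul_ne_zero (cast_pow_ne_zero hpq d)
    (cast_pow_ne_zero hpq d)) hT

end Intertwine

section Critical

variable {K : Type*} [Field K] [IsAlgClosed K] {p q : ℕ} [Fact p.Prime] [Fact q.Prime] [CharP K p]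
variable {V : Type*} [AddCommGroup V] [Module K V] [FiniteDimensional K V] [Nontrivial V]
variable {U : Type*} [Group U] [Finite U]

theorem exc_of_irreducible (hpq : p ≠ q) (hU : IsPGroup q U)
    (hna : ¬ ∀ a b : U, a * b = b * a) {m : ℕ} (θ : MulAut U) (hθ : θ ^ p ^ (m + 1) = 1)
    (hz : θ ^ p ^ m ≠ 1) (hF : ∀ g, (θ ^ p ^ m) g = g → g ∈ Subgroup.center U)
    (hθZ : ∀ c ∈ Subgroup.center U, θ c = c) (r : U →* Module.End K V)
    (hr : Function.Injective r) (hirr : IrrHom r) (X : Module.End K V)
    (hXr : ∀ a, X * r a = r (θ a) * X) (hX : X ^ p ^ (m + 1) = 1) {s : ℕ} (hs : (X - 1) ^ s = 0)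
    (hsP : s < p ^ (m + 1)) : Exc p q m s U := by
  classical
  set P := p ^ (m + 1) with hP
  have hP0 : 0 < P := pow_pos (Fact.out : p.Prime).pos _
  have hoθ : orderOf θ = P := orderOf_eq_prime_pow hz hθ
  let C : Subgroup (MulAut U) := Subgroup.zpowers θ
  let φ : C →* MulAut U := C.subtype
  let tc : C := ⟨θ, Subgroup.mem_zpowers θ⟩
  have hgen : ∀ c : C, c ∈ Subgroup.zpowers tc := by
    rintro ⟨c, hc⟩
    obtain ⟨k, rfl⟩ := Subgroup.mem_zpowers_iff.1 hc
    exact Subgroup.mem_zpowers_iff.2 ⟨k, Subtype.ext (SubgroupClass.coe_zpow tc k)⟩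
  have hotc : orderOf tc = P := by rw [← Subgroup.orderOf_coe]; exact hoθ
  haveI : Finite C := Nat.finite_of_card_ne_zero (by rw [Nat.card_zpowers, hoθ]; omega)
  have hpow : ∀ c : C, ∃ n : ℕ, tc ^ n = c := by
    intro c
    obtain ⟨n, hn⟩ := mem_powers_iff_mem_zpowers.2 (hgen c)
    exact ⟨n, hn⟩
  let Xu : (Module.End K V)ˣ := ⟨X, X ^ (P - 1),
    by rw [← pow_succ', Nat.sub_add_cancel hP0, hX],
    by rw [← pow_succ, Nat.sub_add_cancel hP0, hX]⟩
  have hXu : Xu ^ P = 1 := Units.ext (by rw [Units.val_pow_eq_pow_val]; exact hX)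
  let f2 : C →* (Module.End K V)ˣ := monoidHomOfForallMemZpowers hgen
    (g' := Xu) (by rw [hotc]; exact orderOf_dvd_of_pow_eq_one hXu)
  have hf2 : ∀ n : ℕ, f2 (tc ^ n) = Xu ^ n := fun n => by
    rw [map_pow]
    congr 1
    exact monoidHomOfForallMemZpowers_apply_gen hgen _
  have hXi : ∀ (n : ℕ) (a : U), X ^ n * r a = r ((θ ^ n) a) * X ^ n := by
    intro n
    induction n with
    | zero => intro a; simp
    | succ n ih =>
      intro a
      rw [pow_succ X, mul_assoc, hXr, ← mul_assoc, ih, mul_assoc, ← pow_succ, pow_succ θ,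
        MulAut.mul_apply]
  have hφ : ∀ n : ℕ, φ (tc ^ n) = θ ^ n := fun n => by rw [map_pow]; rfl
  let ρu : (U ⋊[φ] C) →* (Module.End K V)ˣ := SemidirectProduct.lift r.toHomUnits f2 fun c => by
    obtain ⟨n, rfl⟩ := hpow c
    refine MonoidHom.ext fun a => ?_
    rw [MonoidHom.comp_apply, MonoidHom.comp_apply, MulEquiv.coe_toMonoidHom,
      MulEquiv.coe_toMonoidHom, MulAut.conj_apply, hf2, hφ, eq_mul_inv_iff_mul_eq]
    refine Units.ext ?_
    rw [Units.val_mul, Units.val_mul, Units.val_pow_eq_pow_val]
    exact (hXi n a).symm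
  let ρ : Representation K (U ⋊[φ] C) V := (Units.coeHom _).comp ρu
  have hρl : ∀ a, ρ (SemidirectProduct.inl a) = r a := fun a => by
    show ((ρu (SemidirectProduct.inl a) : (Module.End K V)ˣ) : Module.End K V) = r a
    rw [SemidirectProduct.lift_inl]; rfl
  have hρr : ∀ n : ℕ, ρ (SemidirectProduct.inr (tc ^ n)) = X ^ n := fun n => by
    show ((ρu (SemidirectProduct.inr (tc ^ n)) : (Module.End K V)ˣ) : Module.End K V) = X ^ n
    rw [SemidirectProduct.lift_inr, hf2, Units.val_pow_eq_pow_val]
  haveI : Finite (U ⋊[φ] C) := Finite.of_equiv _ SemidirectProduct.equivProd.symm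
  have hρinj : Function.Injective ρ := by
    rw [injective_iff_map_eq_one]
    intro g hg
    rw [← SemidirectProduct.inl_left_mul_inr_right g] at hg ⊢
    obtain ⟨n, hn⟩ := hpow g.right
    rw [← hn] at hg ⊢
    rw [map_mul, hρl, hρr] at hg
    have hXn : X ^ n = r g.left⁻¹ := by
      calc X ^ n = r g.left⁻¹ * (r g.left * X ^ n) := by
            rw [← mul_assoc, ← map_mul, inv_mul_cancel, map_one, one_mul]
        _ = r g.left⁻¹ := by rw [hg, mul_one]
    have hconj : θ ^ n = MulAut.conj g.left⁻¹ := by
      refine MulEquiv.ext fun a => hr ?_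
      have h := hXi n a
      rw [hXn, ← map_mul, ← map_mul] at h
      have h' := hr h
      rw [MulAut.conj_apply, h', mul_inv_cancel_right]
    have hn1 : θ ^ n = 1 := by
      obtain ⟨i, hi⟩ := hU g.left⁻¹
      have h1 : (θ ^ n) ^ P = 1 := by rw [← pow_mul, mul_comm, pow_mul, hθ, one_pow]
      have h2 : (θ ^ n) ^ q ^ i = 1 := by rw [hconj, ← map_pow, hi, map_one]
      have h3 := pow_gcd_eq_one.mpr (⟨h1, h2⟩ : (θ ^ n) ^ P = 1 ∧ (θ ^ n) ^ q ^ i = 1)
      rwa [(Nat.Coprime.pow (m + 1) i ((Nat.coprime_primes Fact.out Fact.out).2 hpq)).gcd_eq_one,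
        pow_one] at h3
    have htn : tc ^ n = 1 := Subtype.ext hn1
    rw [htn, map_one, mul_one]
    rw [← hρl, ← mul_one (ρ _)] at hg
    have hl : g.left = 1 := by
      refine hr ?_
      have : X ^ n = 1 := by rw [← hρr, htn, map_one, map_one]
      rw [this, mul_one, mul_one, hρl] at hg
      rw [hg, map_one]
    rw [hl, map_one]
  set x : U ⋊[φ] C := SemidirectProduct.inr tc with hxdef
  set Q : Subgroup (U ⋊[φ] C) := (SemidirectProduct.inl : U →* U ⋊[φ] C).range with hQ
  haveI : Q.Normal := by rw [hQ, SemidirectProduct.range_inl_eq_ker_rightHom]; infer_instance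
  have hQq : IsPGroup q Q := hU.of_surjective (SemidirectProduct.inl : U →* U ⋊[φ] C).rangeRestrict
    (MonoidHom.rangeRestrict_surjective _)
  have hox : orderOf x = P := by
    rw [hxdef, orderOf_injective _ SemidirectProduct.inr_injective, hotc]
  have hxp : IsPGroup p (Subgroup.zpowers x) :=
    IsPGroup.of_card (n := m + 1) (by rw [Nat.card_zpowers, hox])
  -- the centralisers
  have hC : ∀ y ∈ Subgroup.zpowers x, y ≠ 1 →
      Subgroup.centralizer ({y} : Set (U ⋊[φ] C)) = Subgroup.zpowers x ⊔ Subgroup.center _ := by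
    intro y hy hy1
    refine le_antisymm ?_ (sup_le ?_ ?_)
    · intro g hg
      rw [Subgroup.mem_centralizer_singleton_iff] at hg
      obtain ⟨k, hk⟩ := Subgroup.mem_zpowers_iff.1 hy
      set c := tc ^ k with hc
      have hyc : y = SemidirectProduct.inr c := by rw [hc, map_zpow]; exact hk.symm
      have hc1 : c ≠ 1 := fun h => hy1 (by rw [hyc, h, map_one])
      obtain ⟨n, hn⟩ := hpow g.right
      have hcomm : Commute c g.right := by
        rw [hc, ← hn]; exact (Commute.refl tc).pow_right n |>.zpow_left k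
      -- `c` fixes the left component
      have hfix : (φ c) g.left = g.left := by
        have h := congrArg SemidirectProduct.left hg
        simp only [hyc, SemidirectProduct.mul_left, SemidirectProduct.left_inr,
          SemidirectProduct.right_inr, map_one, mul_one, one_mul] at h
        exact h.symm
      -- so does `θ ^ p ^ m`
      have hzfix : (θ ^ p ^ m) g.left = g.left := by
        have hoc : orderOf c ∣ P := hotc ▸ orderOf_dvd_of_mem_zpowers (hgen c)
        obtain ⟨j, hj, hjo⟩ := (Nat.dvd_prime_pow Fact.out).1 hoc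
        obtain ⟨i, rfl⟩ : ∃ i, j = i + 1 := by
          rcases j with _ | i
          · exact absurd (orderOf_eq_one_iff.1 (by rw [hjo, pow_zero])) hc1
          · exact ⟨i, rfl⟩
        -- `tc ^ p ^ m` is a power of `c`
        have hmem : tc ^ p ^ m ∈ Subgroup.zpowers c := by
          have hcard : Nat.card (Subgroup.zpowers c) = p ^ (i + 1) := by
            rw [Nat.card_zpowers, hjo]
          obtain ⟨n', hn'⟩ := hpow (c ^ p ^ i)
          have hdvd : p ^ m ∣ n' := by
            have h1 : tc ^ (n' * p) = 1 := by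
              rw [pow_mul, hn', ← pow_mul, ← pow_succ, ← hjo, pow_orderOf_eq_one]
            have h2 := orderOf_dvd_of_pow_eq_one h1
            rw [hotc, hP, pow_succ] at h2
            exact Nat.dvd_of_mul_dvd_mul_right (Fact.out : p.Prime).pos h2
          obtain ⟨k', rfl⟩ := hdvd
          have hcop : k'.Coprime (orderOf (tc ^ p ^ m)) := by
            refine Nat.Coprime.coprime_dvd_right (orderOf_dvd_of_pow_eq_one (x := tc ^ p ^ m) (n := p)
              (by rw [← pow_mul, ← pow_succ, ← hP, ← hotc, pow_orderOf_eq_one])) ?_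
            rw [Nat.coprime_comm, (Fact.out : p.Prime).coprime_iff_not_dvd]
            rintro ⟨e, rfl⟩
            have h1 : c ^ p ^ i = 1 := by
              rw [← hn', ← mul_assoc, ← pow_succ, ← hP, ← hotc, pow_mul, pow_orderOf_eq_one, one_pow]
            have h2 := Nat.le_of_dvd (pow_pos (Fact.out : p.Prime).pos i)
              (hjo ▸ orderOf_dvd_of_pow_eq_one h1)
            exact absurd h2 (not_le.2 (Nat.pow_lt_pow_right (Fact.out : p.Prime).one_lt (by omega)))
          obtain ⟨l', hl'⟩ := exists_pow_eq_self_of_coprime hcop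
          rw [← hl', ← pow_mul _ (p ^ m), hn', ← pow_mul]
          exact Subgroup.pow_mem _ (Subgroup.mem_zpowers c) _
        obtain ⟨l, hl⟩ := mem_powers_iff_mem_zpowers.2 hmem
        have hl' : φ (tc ^ p ^ m) = φ c ^ l := by rw [← map_pow]; exact congrArg φ hl.symm
        rw [← hφ, hl']
        clear hl hl'
        induction l with
        | zero => rfl
        | succ l ih => rw [pow_succ, MulAut.mul_apply, hfix, ih]
      have hcen := hF _ hzfix
      have hθfix : θ g.left = g.left := hθZ _ hcen
      rw [← SemidirectProduct.inl_left_mul_inr_right g]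
      refine mul_mem (Subgroup.mem_sup_right ?_) (Subgroup.mem_sup_left ?_)
      · rw [Subgroup.mem_center_iff]
        intro h
        obtain ⟨n', hn'⟩ := hpow h.right
        have hfix' : (φ h.right) g.left = g.left := by
          rw [← hn', hφ]
          clear hn'
          induction n' with
          | zero => rfl
          | succ n' ih => rw [pow_succ, MulAut.mul_apply, hθfix, ih]
        ext
        · simp only [SemidirectProduct.mul_left, SemidirectProduct.left_inl,
            SemidirectProduct.right_inl, map_one, MulAut.one_apply, hfix']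
          exact (Subgroup.mem_center_iff.1 hcen h.left)
        · simp
      · rw [← hn, map_pow]
        exact pow_mem (Subgroup.mem_zpowers x) _
    · rw [Subgroup.zpowers_le, Subgroup.mem_centralizer_singleton_iff]
      obtain ⟨k, rfl⟩ := Subgroup.mem_zpowers_iff.1 hy
      exact (Commute.refl x).zpow_right k
    · intro g hg
      rw [Subgroup.mem_centralizer_singleton_iff]
      exact (Subgroup.mem_center_iff.1 hg y).symm
  have hirrQ : ∀ W : Submodule K V, (∀ g ∈ Q, Submodule.map (ρ g) W ≤ W) → W = ⊥ ∨ W = ⊤ :=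
    fun W hW => hirr W fun a w hw => hW _ ⟨a, rfl⟩ ⟨w, hw, by rw [hρl]⟩
  have hρx : ρ x = X := by
    have := hρr 1
    rwa [pow_one, pow_one] at this
  have hex : ∃ k, (X - 1) ^ k = 0 := ⟨s, hs⟩
  obtain ⟨hlow, -, heq⟩ := hall_higman_critical hpq Q hQq x hxp hC ρ hρinj hirrQ (Nat.find hex)
    (by rw [hρx]; exact Nat.find_spec hex)
    (fun k hk => by rw [hρx]; exact Nat.find_min hex hk)
  rw [Nat.card_zpowers, hox] at hlow heq
  have hle : Nat.find hex ≤ s := Nat.find_min' hex hs
  obtain ⟨⟨b, hb⟩, -⟩ := heq (by omega)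
  refine ⟨⟨m + 1, b, by omega, le_rfl, ?_, hb, ?_⟩, hna⟩
  · by_contra hb1
    obtain rfl : b = 0 := by omega
    have hX1 : X = 1 := by
      have h0 : P - 1 = 1 := by rw [hb, pow_zero]
      have h1 := Nat.find_spec hex
      rwa [show Nat.find hex = 1 by omega, pow_one, sub_eq_zero] at h1
    refine hz ?_
    have hθ1 : θ = 1 := MulEquiv.ext fun a => hr (by
      have := hXr a
      rw [hX1, one_mul, mul_one] at this
      exact this.symm)
    rw [hθ1, one_pow]
  · rw [Nat.sub_self, pow_zero, one_mul]
    omega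

end Critical

section Main

universe u v

variable {K : Type*} [Field K] [IsAlgClosed K] {p q : ℕ} [Fact p.Prime] [Fact q.Prime] [CharP K p]

/-- The representation on an invariant subspace. -/
def subHom {U V : Type*} [Group U] [AddCommGroup V] [Module K V] (r : U →* Module.End K V)
    (W : Submodule K V) (h : ∀ a, ∀ w ∈ W, r a w ∈ W) : U →* Module.End K W where
  toFun a := (r a).restrict (h a)
  map_one' := LinearMap.ext fun w => Subtype.ext (by simp)
  map_mul' a b := LinearMap.ext fun w => Subtype.ext (by simp [LinearMap.restrict_coe_apply])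

theorem restrict_pow_apply {V : Type*} [AddCommGroup V] [Module K V] (f : Module.End K V)
    (W : Submodule K V) (h : ∀ w ∈ W, f w ∈ W) (n : ℕ) (w : W) :
    (((LinearMap.restrict f h) ^ n) w : V) = (f ^ n) w := by
  induction n with
  | zero => rfl
  | succ n ih =>
    rw [pow_succ', pow_succ', Module.End.mul_apply, Module.End.mul_apply,
      LinearMap.restrict_coe_apply, ih]

/-- With a scalar centre the group acts irreducibly. -/
theorem irrHom_of_scalar_centre (hpq : p ≠ q) {U : Type u} [Group U] [Finite U] (hU : IsPGroup q U)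
    {V : Type v} [AddCommGroup V] [Module K V] [FiniteDimensional K V] [Nontrivial V] (m : ℕ)
    (θ : MulAut U) (hθ : θ ^ p ^ (m + 1) = 1) (hθZ : ∀ c ∈ Subgroup.center U, θ c = c)
    (hcomm : ∀ a b : U, ⁅a, b⁆ ∈ Subgroup.center U) (r : U →* Module.End K V)
    (hr : Function.Injective r) (lam : Subgroup.center U → K)
    (hscal : ∀ c : Subgroup.center U, r (c : U) = lam c • (1 : Module.End K V))
    (X : Module.End K V) (hXr : ∀ a, X * r a = r (θ a) * X) (hX : X ^ p ^ (m + 1) = 1)
    (hirrX : ∀ W : Submodule K V, (∀ a, ∀ w ∈ W, r a w ∈ W) → (∀ w ∈ W, X w ∈ W) →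
      W = ⊥ ∨ W = ⊤) : IrrHom r := by
  classical
  have hP0 : 0 < p ^ (m + 1) := pow_pos (Fact.out : p.Prime).pos _
  -- a minimal invariant subspace for the group
  have hex : ∃ n, ∃ W : Submodule K V, W ≠ ⊥ ∧ (∀ a, ∀ w ∈ W, r a w ∈ W) ∧ finrank K W = n :=
    ⟨_, ⊤, top_ne_bot, fun _ _ _ => trivial, rfl⟩
  obtain ⟨W, hWne, hW, hWn⟩ := Nat.find_spec hex
  haveI : Nontrivial W := Submodule.nontrivial_iff_ne_bot.2 hWne
  let σ := subHom r W hW
  have hσ : IrrHom σ := by
    intro S hS
    by_cases hS0 : S = ⊥
    · exact Or.inl hS0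
    right
    have h1 : Nat.find hex ≤ finrank K (S.map W.subtype) := Nat.find_min' hex
      ⟨S.map W.subtype, fun e => hS0 (Submodule.map_injective_of_injective W.injective_subtype
          (by rw [e, Submodule.map_bot])),
        by rintro a _ ⟨w, hw, rfl⟩; exact ⟨σ a w, hS a w hw, rfl⟩, rfl⟩
    rw [Submodule.finrank_map_subtype_eq] at h1
    exact Submodule.eq_top_of_finrank_eq (le_antisymm (Submodule.finrank_le S) (hWn.le.trans h1))
  have hσf : ∀ c ∈ Subgroup.center U, σ c = 1 → c = 1 := by
    intro c hc h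
    obtain ⟨w, hw⟩ := exists_ne (0 : W)
    have h' : r c (w : V) = (w : V) := congrArg Subtype.val (LinearMap.congr_fun h w)
    rw [hscal ⟨c, hc⟩, LinearMap.smul_apply, Module.End.one_apply] at h'
    have hl1 : lam ⟨c, hc⟩ = 1 := smul_left_injective K
      (fun e => hw (Subtype.ext e)) (show lam ⟨c, hc⟩ • (w : V) = (1 : K) • (w : V) by
        rw [one_smul]; exact h')
    refine hr ?_
    rw [hscal ⟨c, hc⟩, hl1, one_smul, map_one]
  obtain ⟨T₀, hT₀, hTσ₀⟩ := exists_intertwiner hpq hU σ hσ hcomm
    (fun c hc => ⟨lam ⟨c, hc⟩, LinearMap.ext fun w => Subtype.ext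
      (LinearMap.congr_fun (hscal ⟨c, hc⟩) (w : V))⟩) hσf θ hθZ
  -- it is invertible
  have hTinj : Function.Injective T₀ := by
    rw [← LinearMap.ker_eq_bot]
    refine (hσ _ fun a w hw => ?_).resolve_right fun h => hT₀ (LinearMap.ker_eq_top.1 h)
    rw [LinearMap.mem_ker] at hw ⊢
    rw [← Module.End.mul_apply, hTσ₀, Module.End.mul_apply, hw, map_zero]
  have hit : ∀ (n : ℕ) (a : U), T₀ ^ n * σ a = σ ((θ ^ n) a) * T₀ ^ n := by
    intro n
    induction n with
    | zero => intro a; simp
    | succ n ihn =>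
      intro a
      rw [pow_succ T₀, mul_assoc, hTσ₀, ← mul_assoc, ihn, mul_assoc, ← pow_succ, pow_succ θ,
        MulAut.mul_apply]
  obtain ⟨e, he⟩ := exists_scalar_of_commute hσ (T₀ ^ p ^ (m + 1)) fun a => by
    rw [hit, hθ, MulAut.one_apply]
  have he0 : e ≠ 0 := fun h => by
    rw [h, zero_smul] at he
    obtain ⟨w, hw⟩ := exists_ne (0 : W)
    have hi : Function.Injective (T₀ ^ p ^ (m + 1) : Module.End K W) := by
      rw [Module.End.coe_pow]; exact hTinj.iterate _
    exact hw (hi (by rw [he, LinearMap.zero_apply, LinearMap.zero_apply]))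
  obtain ⟨e₀, he₀⟩ := IsAlgClosed.exists_pow_nat_eq e hP0
  have he₀0 : e₀ ≠ 0 := fun h => he0 (by rw [← he₀, h, zero_pow hP0.ne'])
  set T : Module.End K W := e₀⁻¹ • T₀ with hT
  have hTP : T ^ p ^ (m + 1) = 1 := by
    rw [hT, smul_pow, he, smul_smul, inv_pow, he₀, inv_mul_cancel₀ he0, one_smul]
  have hTσ : ∀ a, T * σ a = σ (θ a) * T := fun a => by
    rw [hT, smul_mul_assoc, mul_smul_comm, hTσ₀]
  set T' := T ^ (p ^ (m + 1) - 1) with hT'
  have hTT' : T' * T = 1 := by rw [hT', ← pow_succ, Nat.sub_add_cancel hP0, hTP]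
  have hTT'' : T * T' = 1 := by rw [hT', ← pow_succ', Nat.sub_add_cancel hP0, hTP]
  -- homomorphisms from `W`
  let H : Submodule K (W →ₗ[K] V) :=
    { carrier := {φ | ∀ a w, r a (φ w) = φ (σ a w)}
      add_mem' := fun {f g} hf hg a w => by
        simp only [LinearMap.add_apply, map_add, hf a w, hg a w]
      zero_mem' := fun a w => by simp
      smul_mem' := fun c f hf a w => by simp only [LinearMap.smul_apply, map_smul, hf a w] }
  let A : Module.End K (W →ₗ[K] V) :=
    { toFun := fun φ => (X ∘ₗ φ) ∘ₗ T'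
      map_add' := fun f g => by ext w; simp
      map_smul' := fun c f => by ext w; simp }
  have hA : ∀ φ ∈ H, A φ ∈ H := by
    intro φ hφ a w
    show r a (X (φ (T' w))) = X (φ (T' (σ a w)))
    have h1 : r a (X (φ (T' w))) = X (r (θ.symm a) (φ (T' w))) := by
      rw [← Module.End.mul_apply X, hXr, θ.apply_symm_apply]; rfl
    rw [h1, hφ]
    congr 2
    calc σ (θ.symm a) (T' w) = ((T' * T) * σ (θ.symm a) * T') w := by rw [hTT', one_mul]; rfl
      _ = (T' * σ a) w := by
        rw [mul_assoc T', hTσ, θ.apply_symm_apply, ← mul_assoc, mul_assoc _ T, hTT'', mul_one]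
  have hApow : ∀ n : ℕ, ∀ φ, (A ^ n) φ = ((X ^ n) ∘ₗ φ) ∘ₗ (T' ^ n) := by
    intro n
    induction n with
    | zero => intro φ; rfl
    | succ n ihn =>
      intro φ
      rw [pow_succ', Module.End.mul_apply, ihn]
      show (X ∘ₗ (((X ^ n) ∘ₗ φ) ∘ₗ (T' ^ n))) ∘ₗ T' = _
      rw [pow_succ' X, pow_succ T']
      rfl
  set AH := LinearMap.restrict A hA with hAH
  haveI : Nontrivial H := by
    refine ⟨⟨⟨W.subtype, fun a w => rfl⟩, 0, fun h => ?_⟩⟩
    obtain ⟨w, hw⟩ := exists_ne (0 : W)
    exact hw (Subtype.ext (LinearMap.congr_fun (congrArg Subtype.val h) w))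
  obtain ⟨⟨φ, hφH⟩, hφ0, hφA⟩ := exists_fixed_vector (p := p) AH (k := m + 1) (by
    refine LinearMap.ext fun φ => Subtype.ext ?_
    rw [hAH, restrict_pow_apply, hApow, hX, hT', ← pow_mul, mul_comm, pow_mul, hTP, one_pow]
    rfl)
  have hφX : ∀ w, X (φ w) = φ (T w) := by
    intro w
    have h := LinearMap.congr_fun (congrArg Subtype.val hφA) (T w)
    change X (φ (T' (T w))) = φ (T w) at h
    rwa [← Module.End.mul_apply T', hTT', Module.End.one_apply] at h
  have hφinj : Function.Injective φ := by
    rw [← LinearMap.ker_eq_bot]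
    refine (hσ _ fun a w hw => ?_).resolve_right fun h =>
      hφ0 (Subtype.ext (LinearMap.ker_eq_top.1 h))
    rw [LinearMap.mem_ker] at hw ⊢
    rw [← hφH, hw, map_zero]
  have hφsurj : LinearMap.range φ = ⊤ := by
    refine (hirrX _ ?_ ?_).resolve_left fun h => hφ0 (Subtype.ext (LinearMap.range_eq_bot.1 h))
    · rintro a _ ⟨w, rfl⟩; exact ⟨σ a w, (hφH a w).symm⟩
    · rintro _ ⟨w, rfl⟩; exact ⟨T w, (hφX w).symm⟩
  have hirr : IrrHom r := by
    intro S hS
    rcases hσ (S.comap φ) (fun a w hw => by
      rw [Submodule.mem_comap] at hw ⊢; rw [← hφH]; exact hS a _ hw) with h | h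
    · left
      rw [eq_bot_iff]
      intro v hv
      obtain ⟨w, rfl⟩ : v ∈ LinearMap.range φ := hφsurj ▸ Submodule.mem_top
      have : w ∈ (⊥ : Submodule K W) := h ▸ (show w ∈ S.comap φ from hv)
      rw [(Submodule.mem_bot K).1 this, map_zero]
      exact Submodule.zero_mem _
    · right
      rw [eq_top_iff]
      intro v _
      obtain ⟨w, rfl⟩ : v ∈ LinearMap.range φ := hφsurj ▸ Submodule.mem_top
      exact (h ▸ Submodule.mem_top : w ∈ S.comap φ)
  exact hirr

set_option maxHeartbeats 800000 in
theorem theoremB_aux (hpq : p ≠ q) (N : ℕ) :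
    ∀ (U : Type u) [Group U] [Finite U], IsPGroup q U →
    ∀ (V : Type v) [AddCommGroup V] [Module K V] [FiniteDimensional K V] (m s : ℕ) (θ : MulAut U)
      (r : U →* Module.End K V) (X : Module.End K V),
      Nat.card U + m + finrank K V = N → θ ^ p ^ (m + 1) = 1 → (∀ a, X * r a = r (θ a) * X) →
      X ^ p ^ (m + 1) = 1 → (X - 1) ^ s = 0 → s < p ^ (m + 1) →
      (∀ a, r ((θ ^ p ^ m) a) = r a) ∨ Exc p q m s U := by
  induction N using Nat.strongRecOn with
  | ind N ih =>
  intro U _ _ hU V _ _ _ m s θ r X hN hθ hXr hX hs hsP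
  classical
  by_cases hexc : Exc p q m s U
  · exact Or.inr hexc
  left
  rcases subsingleton_or_nontrivial V with hV | hV
  · exact fun a => Subsingleton.elim _ _
  haveI : CharP (Module.End K V) p := charP_of_injective_algebraMap
    (RingHom.injective (algebraMap K (Module.End K V))) p
  have hP0 : 0 < p ^ (m + 1) := pow_pos (Fact.out : p.Prime).pos _
  have hXinv : X ^ (p ^ (m + 1) - 1) * X = 1 := by
    rw [← pow_succ, Nat.sub_add_cancel hP0, hX]
  have hXinv' : X * X ^ (p ^ (m + 1) - 1) = 1 := by
    rw [← pow_succ', Nat.sub_add_cancel hP0, hX]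
  have hXinj : Function.Injective X := fun v w h => by
    have := congrArg (X ^ (p ^ (m + 1) - 1) : Module.End K V) h
    rwa [← Module.End.mul_apply, ← Module.End.mul_apply, hXinv, Module.End.one_apply,
      Module.End.one_apply] at this
  set z := θ ^ p ^ m with hz
  have hzp : z ^ p = 1 := by rw [hz, ← pow_mul, ← pow_succ, hθ]
  have hzθ : ∀ g, z (θ g) = θ (z g) := fun g => by
    rw [hz, ← MulAut.mul_apply, ← MulAut.mul_apply, ← pow_succ, ← pow_succ']
  -- the kernel
  by_cases hr : Function.Injective r
  swap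
  · have hker : r.ker ≠ ⊥ := fun h => hr ((MonoidHom.ker_eq_bot_iff r).1 h)
    have hθk : ∀ a ∈ r.ker, θ a ∈ r.ker := by
      intro a ha
      rw [MonoidHom.mem_ker] at ha ⊢
      have h := hXr a
      rw [ha, mul_one] at h
      calc r (θ a) = r (θ a) * (X * X ^ (p ^ (m + 1) - 1)) := by rw [hXinv', mul_one]
        _ = 1 := by rw [← mul_assoc, ← h, hXinv']
    have hmap : r.ker.map θ.toMonoidHom = r.ker :=
      Subgroup.eq_of_le_of_card_ge (by rintro _ ⟨a, ha, rfl⟩; exact hθk a ha)
        (Subgroup.card_map_of_injective (f := θ.toMonoidHom) θ.injective).ge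
    let θ' : MulAut (U ⧸ r.ker) := QuotientGroup.congr r.ker r.ker θ hmap
    have hit : ∀ (n : ℕ) (a : U), (θ' ^ n) (a : U ⧸ r.ker) = (((θ ^ n) a : U) : U ⧸ r.ker) := by
      intro n a
      induction n with
      | zero => rfl
      | succ n ih => rw [pow_succ', MulAut.mul_apply, ih, pow_succ', MulAut.mul_apply]; rfl
    have hθ' : θ' ^ p ^ (m + 1) = 1 := MulEquiv.ext fun x => by
      induction x using QuotientGroup.induction_on with
      | H a => rw [hit, hθ]; rfl
    have hlt : Nat.card (U ⧸ r.ker) + m + finrank K V < N := by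
      have h1 := r.ker.card_eq_card_quotient_mul_card_subgroup
      have h2 : 2 ≤ Nat.card r.ker := by
        rcases Nat.lt_or_ge (Nat.card r.ker) 2 with h | h
        · exact absurd (Subgroup.eq_bot_of_card_le r.ker (by omega)) hker
        · exact h
      have h3 : 0 < Nat.card (U ⧸ r.ker) := Nat.card_pos
      nlinarith
    set r' : U ⧸ r.ker →* Module.End K V := QuotientGroup.lift r.ker r le_rfl with hr'
    have hr'mk : ∀ a : U, r' (a : U ⧸ r.ker) = r a := fun a => QuotientGroup.lift_mk _ _ a
    have hXr' : ∀ x, X * r' x = r' (θ' x) * X := fun x => by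
      induction x using QuotientGroup.induction_on with
      | H a =>
        have e : θ' (a : U ⧸ r.ker) = ((θ a : U) : U ⧸ r.ker) := by
          have := hit 1 a
          rwa [pow_one, pow_one] at this
        rw [e, hr'mk, hr'mk, hXr]
    have hUq : IsPGroup q (U ⧸ r.ker) := hU.to_quotient r.ker
    rcases ih _ hlt (U ⧸ r.ker) hUq V m s θ'
      r' X rfl hθ' hXr' hX hs hsP with h | ⟨h, hna⟩
    · intro a
      have := h (a : U ⧸ r.ker)
      rw [hit, hr'mk, hr'mk] at this
      exact this
    · exact absurd ⟨h, fun hc => hna fun x y => by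
        induction x using QuotientGroup.induction_on with
        | H a =>
          induction y using QuotientGroup.induction_on with
          | H b => rw [← QuotientGroup.mk_mul, ← QuotientGroup.mk_mul, hc]⟩ hexc
  -- invariant subspaces
  by_cases hirrX : ∀ W : Submodule K V, (∀ a, ∀ w ∈ W, r a w ∈ W) → (∀ w ∈ W, X w ∈ W) →
      W = ⊥ ∨ W = ⊤
  swap
  · push Not at hirrX
    obtain ⟨W, hW, hWX, hW0, hWt⟩ := hirrX
    have hlt1 : finrank K W < finrank K V := Submodule.finrank_lt hWt
    have hlt2 : finrank K (V ⧸ W) < finrank K V := by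
      have := Submodule.finrank_quotient_add_finrank W
      have h0 : finrank K W ≠ 0 := fun h => hW0 (Submodule.finrank_eq_zero.1 h)
      omega
    set X' := LinearMap.restrict X hWX with hX'
    have hX'pow : X' ^ p ^ (m + 1) = 1 := LinearMap.ext fun w => Subtype.ext (by
      rw [restrict_pow_apply, hX]; rfl)
    have hXsub : ∀ n : ℕ, ((X' - 1) ^ n) = LinearMap.restrict ((X - 1) ^ n) (p := W) (q := W)
        (fun w hw => by
          induction n with
          | zero => exact hw
          | succ n ihn =>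
            rw [pow_succ', Module.End.mul_apply, LinearMap.sub_apply, Module.End.one_apply]
            exact W.sub_mem (hWX _ ihn) ihn) := by
      intro n
      refine LinearMap.ext fun w => Subtype.ext ?_
      rw [LinearMap.restrict_coe_apply]
      induction n with
      | zero => rfl
      | succ n ihn =>
        rw [pow_succ', pow_succ', Module.End.mul_apply, Module.End.mul_apply, LinearMap.sub_apply,
          LinearMap.sub_apply, Module.End.one_apply, Module.End.one_apply, AddSubgroupClass.coe_sub,
          hX', LinearMap.restrict_coe_apply, ihn]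
    let rW := subHom r W hW
    let rQ : U →* Module.End K (V ⧸ W) :=
      { toFun := fun a => W.mapQ W (r a) (fun w hw => hW a w hw)
        map_one' := LinearMap.ext fun x => by
          induction x using Submodule.Quotient.induction_on with
          | H v => simp
        map_mul' := fun a b => LinearMap.ext fun x => by
          induction x using Submodule.Quotient.induction_on with
          | H v => simp }
    set XQ : Module.End K (V ⧸ W) := W.mapQ W X (fun w hw => hWX w hw) with hXQ
    have hQpow : ∀ (n : ℕ) (v : V), (XQ ^ n) (Submodule.Quotient.mk v) =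
        Submodule.Quotient.mk ((X ^ n) v) := by
      intro n v
      induction n with
      | zero => rfl
      | succ n ihn =>
        rw [pow_succ', pow_succ', Module.End.mul_apply, Module.End.mul_apply, ihn, hXQ,
          Submodule.mapQ_apply]
    have hQsub : ∀ (n : ℕ) (v : V), ((XQ - 1) ^ n) (Submodule.Quotient.mk v) =
        Submodule.Quotient.mk (((X - 1) ^ n) v) := by
      intro n v
      induction n with
      | zero => rfl
      | succ n ihn =>
        rw [pow_succ', pow_succ', Module.End.mul_apply, Module.End.mul_apply, ihn,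
          LinearMap.sub_apply, LinearMap.sub_apply, Module.End.one_apply, Module.End.one_apply, hXQ,
          Submodule.mapQ_apply, Submodule.Quotient.mk_sub]
    have h1 := ih _ (by omega) U hU W m s θ rW X' rfl hθ
      (fun a => LinearMap.ext fun w => Subtype.ext (LinearMap.congr_fun (hXr a) w)) hX'pow
      (by rw [hXsub]; exact LinearMap.ext fun w => Subtype.ext (by
        rw [LinearMap.restrict_coe_apply, hs]; rfl)) hsP
    have h2 := ih _ (by omega) U hU (V ⧸ W) m s θ rQ XQ rfl hθ
      (fun a => LinearMap.ext fun x => by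
        induction x using Submodule.Quotient.induction_on with
        | H v =>
          simp only [rQ, hXQ, Module.End.mul_apply, MonoidHom.coe_mk, OneHom.coe_mk, Submodule.mapQ_apply]
          exact congrArg _ (LinearMap.congr_fun (hXr a) v))
      (LinearMap.ext fun x => by
        induction x using Submodule.Quotient.induction_on with
        | H v => rw [hQpow, hX]; rfl)
      (LinearMap.ext fun x => by
        induction x using Submodule.Quotient.induction_on with
        | H v => rw [hQsub, hs]; rfl) hsP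
    rcases h1 with h1 | h1
    swap
    · exact absurd h1 hexc
    rcases h2 with h2 | h2
    swap
    · exact absurd h2 hexc
    intro a
    have hd : r (z a * a⁻¹) = 1 := by
      refine eq_one_of_unipotent (p := p) (n := Nat.card U)
        (by rw [← map_pow, pow_card_eq_one', map_one]) ?_ ?_
      · obtain ⟨i, hi⟩ := IsPGroup.iff_card.1 hU
        rw [hi]
        exact ((Nat.coprime_primes Fact.out Fact.out).2 hpq.symm).pow_left i
      · have hker : ∀ w ∈ W, (r (z a * a⁻¹) - 1) w = 0 := by
          intro w hw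
          have e := congrArg Subtype.val (LinearMap.congr_fun (h1 a) ⟨r a⁻¹ w, hW _ w hw⟩)
          change r (z a) (r a⁻¹ w) = r a (r a⁻¹ w) at e
          rw [LinearMap.sub_apply, Module.End.one_apply, map_mul, Module.End.mul_apply, e,
            ← Module.End.mul_apply, ← map_mul, mul_inv_cancel, map_one, Module.End.one_apply,
            sub_self]
        have himg : ∀ v, (r (z a * a⁻¹) - 1) v ∈ W := by
          intro v
          rw [← Submodule.Quotient.mk_eq_zero, LinearMap.sub_apply, Module.End.one_apply,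
            Submodule.Quotient.mk_sub, sub_eq_zero, map_mul, Module.End.mul_apply]
          have e := LinearMap.congr_fun (h2 a) (Submodule.Quotient.mk (r a⁻¹ v))
          simp only [rQ, MonoidHom.coe_mk, OneHom.coe_mk, Submodule.mapQ_apply] at e
          rw [e, ← Module.End.mul_apply, ← map_mul, mul_inv_cancel, map_one, Module.End.one_apply]
        rw [pow_two]
        exact LinearMap.ext fun v => by
          rw [Module.End.mul_apply, hker _ (himg v), LinearMap.zero_apply]
    calc r (z a) = r (z a * a⁻¹) * r a := by rw [← map_mul, inv_mul_cancel_right]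
      _ = r a := by rw [hd, one_mul]
  by_cases hz1 : z = 1
  · intro a; rw [hz1]; rfl
  by_cases hab : ∀ a b : U, a * b = b * a
  · letI : CommGroup U := { (inferInstance : Group U) with mul_comm := hab }
    have hn : ∑ i ∈ Finset.range (p ^ (m + 1)), X ^ i = 0 := by
      have h := congrArg (Polynomial.aeval X) (poly_sub_one_pow (K := K) p (m + 1))
      simp only [map_pow, map_sub, Polynomial.aeval_X, map_one, map_sum] at h
      rw [← h, show p ^ (m + 1) - 1 = s + (p ^ (m + 1) - 1 - s) by omega, pow_add, hs, zero_mul]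
    obtain ⟨i, hi⟩ := IsPGroup.iff_card.1 hU
    exact fun a => CfsgLib.PGroups.fixed_of_norm_eq_zero r (CharP.cast_eq_zero _ p)
      (hi ▸ ((Nat.coprime_primes Fact.out Fact.out).2 hpq.symm).pow_left i) θ hθ X hXr hn a
  -- proper invariant subgroups are fixed
  have hfix : ∀ M : Subgroup U, (∀ g ∈ M, θ g ∈ M) → M ≠ ⊤ → ∀ g ∈ M, z g = g := by
    intro M hM hMt g hg
    let θM : MulAut M := CfsgLib.Core.HH.res M θ hM
    have hit : ∀ (n : ℕ) (x : M), (((θM ^ n) x : M) : U) = (θ ^ n) x := by
      intro n x
      induction n with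
      | zero => rfl
      | succ n ihn => rw [pow_succ', MulAut.mul_apply, CfsgLib.Core.HH.coe_res, ihn, pow_succ', MulAut.mul_apply]
    have hlt : Nat.card M + m + finrank K V < N := by
      have : Nat.card M < Nat.card U := by
        refine lt_of_le_of_ne (Subgroup.card_le_card_group M) fun h => hMt ?_
        exact Subgroup.eq_top_of_card_eq M h
      omega
    rcases ih _ hlt M (hU.to_subgroup M) V m s θM (r.comp M.subtype) X rfl
      (MulEquiv.ext fun x => Subtype.ext (by rw [hit, hθ]; rfl))
      (fun x => by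
        show X * r (x : U) = r ((θM x : M) : U) * X
        rw [CfsgLib.Core.HH.coe_res]; exact hXr _) hX hs hsP with h | ⟨h, hna⟩
    · have := h ⟨g, hg⟩
      exact hr (by simpa [hit] using this)
    · exact absurd ⟨h, fun hc => hna fun a b => Subtype.ext (hc a b)⟩ hexc
  obtain ⟨hcomm, hcen⟩ := centre_facts hpq hU hab θ z hzθ hzp hz1 hfix
  have hθinv : ∀ c ∈ Subgroup.center U, θ c ∈ Subgroup.center U := fun c hc =>
    (hcen _).1 (by rw [hzθ, (hcen c).2 hc])
  -- a system of eigenvalues of the centre
  obtain ⟨lam, v₀, hv₀, hlam⟩ := exists_common_eigenvector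
    (fun c : Subgroup.center U => r (c : U)) (fun c d => by
      show r (c : U) * r (d : U) = r (d : U) * r (c : U)
      rw [← map_mul, ← map_mul, Subgroup.mem_center_iff.1 d.2 c])
  let θZ : MulAut (Subgroup.center U) := CfsgLib.Core.HH.res (Subgroup.center U) θ hθinv
  have hitZ : ∀ (n : ℕ) (x : Subgroup.center U),
      (((θZ ^ n) x : Subgroup.center U) : U) = (θ ^ n) x := by
    intro n x
    induction n with
    | zero => rfl
    | succ n ihn => rw [pow_succ', MulAut.mul_apply, CfsgLib.Core.HH.coe_res, ihn, pow_succ', MulAut.mul_apply]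
  let sh : (Subgroup.center U → K) → (Subgroup.center U → K) := fun f c => f (θZ⁻¹ c)
  have hsh : ∀ n : ℕ, sh^[n] lam = fun c => lam ((θZ⁻¹ ^ n) c) := by
    intro n
    induction n with
    | zero => rfl
    | succ n ihn =>
      rw [Function.iterate_succ_apply', ihn]
      funext c
      show lam ((θZ⁻¹ ^ n) (θZ⁻¹ c)) = _
      rw [pow_succ, MulAut.mul_apply]
  have hper : Function.IsPeriodicPt sh (p ^ m) lam := by
    show sh^[p ^ m] lam = lam
    rw [hsh]
    funext c
    have hz0 : θZ ^ p ^ m = 1 := MulEquiv.ext fun x => Subtype.ext (by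
      rw [hitZ, ← hz, (hcen _).2 x.2]; rfl)
    rw [inv_pow, hz0, inv_one, MulAut.one_apply]
  set j := Function.minimalPeriod sh lam with hj
  obtain ⟨l, hlm, hjl⟩ := (Nat.dvd_prime_pow Fact.out).1 hper.minimalPeriod_dvd
  rw [← hj] at hjl
  have hj0 : 0 < j := by rw [hjl]; exact pow_pos (Fact.out : p.Prime).pos _
  let eig : (Subgroup.center U → K) → Submodule K V := fun f =>
    ⨅ c : Subgroup.center U, Module.End.eigenspace (r (c : U)) (f c)
  have hmem : ∀ f v, v ∈ eig f ↔ ∀ c : Subgroup.center U, r (c : U) v = f c • v := by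
    intro f v
    simp only [eig, Submodule.mem_iInf, Module.End.mem_eigenspace_iff]
  have hrstab : ∀ f a, ∀ v ∈ eig f, r a v ∈ eig f := by
    intro f a v hv
    rw [hmem] at hv ⊢
    intro c
    rw [← Module.End.mul_apply, ← map_mul, ← Subgroup.mem_center_iff.1 c.2 a, map_mul,
      Module.End.mul_apply, hv, map_smul]
  have hXstab : ∀ f, ∀ v ∈ eig f, X v ∈ eig (sh f) := by
    intro f v hv
    rw [hmem] at hv ⊢
    intro c
    have hc : θ (((θZ⁻¹ c : Subgroup.center U)) : U) = (c : U) := by
      rw [← CfsgLib.Core.HH.coe_res (Subgroup.center U) θ hθinv]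
      exact congrArg Subtype.val (θZ.apply_symm_apply c)
    have h := LinearMap.congr_fun (hXr ((θZ⁻¹ c : Subgroup.center U) : U)) v
    rw [Module.End.mul_apply, Module.End.mul_apply, hc, hv, map_smul] at h
    exact h.symm
  have hXn : ∀ (n : ℕ) f, ∀ v ∈ eig f, (X ^ n) v ∈ eig (sh^[n] f) := by
    intro n
    induction n with
    | zero => intro f v hv; exact hv
    | succ n ihn =>
      intro f v hv
      rw [pow_succ', Module.End.mul_apply, Function.iterate_succ_apply']
      exact hXstab _ _ (ihn f v hv)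
  set W0 := eig lam with hW0
  have hW0ne : W0 ≠ ⊥ := by
    rw [Submodule.ne_bot_iff]
    exact ⟨v₀, (hmem _ _).2 hlam, hv₀⟩
  have hXj : ∀ w ∈ W0, (X ^ j) w ∈ W0 := by
    intro w hw
    have := hXn j lam w hw
    rwa [hj, Function.iterate_minimalPeriod, ← hj] at this
  rcases Nat.eq_zero_or_pos l with rfl | hlpos
  · -- the centre is scalar
    rw [pow_zero] at hjl
    have hW0t : W0 = ⊤ := (hirrX W0 (hrstab lam) (fun w hw => by
      have := hXj w hw
      rwa [hjl, pow_one] at this)).resolve_left hW0ne
    have hscal : ∀ c : Subgroup.center U, r (c : U) = lam c • (1 : Module.End K V) := fun c =>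
      LinearMap.ext fun v => by
        have hv : v ∈ W0 := hW0t ▸ Submodule.mem_top
        rw [(hmem _ _).1 hv, LinearMap.smul_apply, Module.End.one_apply]
    have hθZ : ∀ c ∈ Subgroup.center U, θ c = c := by
      intro c hc
      refine hr ?_
      have h := hXr c
      rw [hscal ⟨c, hc⟩, mul_smul_comm, mul_one] at h
      calc r (θ c) = r (θ c) * (X * X ^ (p ^ (m + 1) - 1)) := by rw [hXinv', mul_one]
        _ = lam ⟨c, hc⟩ • (1 : Module.End K V) := by
            rw [← mul_assoc, ← h, smul_mul_assoc, hXinv']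
        _ = r c := (hscal ⟨c, hc⟩).symm
    exact absurd (exc_of_irreducible hpq hU hab θ hθ hz1 (fun g hg => (hcen g).1 hg) hθZ r hr
      (irrHom_of_scalar_centre hpq hU m θ hθ hθZ hcomm r hr lam hscal X hXr hX hirrX) X
      hXr hX hs hsP) hexc
  · -- the centre is not scalar
    set X' := LinearMap.restrict (X ^ j) hXj with hX'
    have hjm : p ^ (m + 1) = j * p ^ (m - l + 1) := by
      rw [hjl, ← pow_add]; congr 1; omega
    have hjz : (θ ^ j) ^ p ^ (m - l) = z := by
      rw [hz, ← pow_mul, hjl, ← pow_add]; congr 2; omega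
    have hXit : ∀ (n : ℕ) (a : U), X ^ n * r a = r ((θ ^ n) a) * X ^ n := by
      intro n
      induction n with
      | zero => intro a; simp
      | succ n ihn =>
        intro a
        rw [pow_succ X, mul_assoc, hXr, ← mul_assoc, ihn, mul_assoc, ← pow_succ, pow_succ θ,
          MulAut.mul_apply]
    set s' := s / j with hs'
    have hs'0 : (X' - 1) ^ s' = 0 := by
      have hsub : ∀ (n : ℕ) (w : W0), ((((X' - 1) ^ n) w : W0) : V) = ((X ^ j - 1) ^ n) (w : V) := by
        intro n w
        induction n with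
        | zero => rfl
        | succ n ihn =>
          rw [pow_succ', pow_succ', Module.End.mul_apply, Module.End.mul_apply, LinearMap.sub_apply,
            LinearMap.sub_apply, Module.End.one_apply, Module.End.one_apply,
            AddSubgroupClass.coe_sub, hX', LinearMap.restrict_coe_apply, ihn]
      refine LinearMap.ext fun w => Subtype.ext ?_
      rw [hsub, LinearMap.zero_apply, Submodule.coe_zero]
      set y := ((X ^ j - 1) ^ s') (w : V) with hy
      have hyW : y ∈ W0 := by rw [hy, ← hsub]; exact Submodule.coe_mem _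
      have hXp : (X - 1) ^ j = X ^ j - 1 := by
        rw [hjl, sub_pow_char_pow_of_commute p l (Commute.one_right _), one_pow]
      have h0 : ((X - 1) ^ (s % j)) y = 0 := by
        rw [hy, ← hXp, ← pow_mul, ← Module.End.mul_apply, ← pow_add,
          hs', Nat.mod_add_div, hs, LinearMap.zero_apply]
      rw [sub_eq_add_neg, (Commute.neg_one_right X).add_pow, LinearMap.sum_apply] at h0
      set t := s % j with ht
      have hterm : ∀ i, (X ^ i * (-1) ^ (t - i) * (t.choose i : Module.End K V)) y =
          (((-1 : K) ^ (t - i)) * (t.choose i : K)) • (X ^ i) y := by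
        intro i
        have e1 : ((-1 : Module.End K V)) = algebraMap K (Module.End K V) (-1) := by
          rw [map_neg, map_one]
        rw [e1, ← map_natCast (algebraMap K (Module.End K V)), ← map_pow, mul_assoc, ← map_mul,
          Module.End.mul_apply, Module.algebraMap_end_apply, map_smul]
      simp only [hterm] at h0
      have hall := common_eigen_indep (fun c : Subgroup.center U => r (c : U))
        (fun i c => (sh^[i] lam) c) (Finset.range (t + 1))
        (fun i => (((-1 : K) ^ (t - i)) * (t.choose i : K)) • (X ^ i) y)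
        (fun i hi i' hi' h => by
          rw [Finset.coe_range, Set.mem_Iio] at hi hi'
          have htj : t < j := Nat.mod_lt _ hj0
          exact Function.iterate_injOn_Iio_minimalPeriod (f := sh) (x := lam)
            (show i < Function.minimalPeriod sh lam by rw [← hj]; omega)
            (show i' < Function.minimalPeriod sh lam by rw [← hj]; omega) (funext fun c => congrFun h c))
        (fun i _ c => by
          show r (c : U) _ = (sh^[i] lam) c • _
          rw [map_smul, (hmem _ _).1 (hXn i lam y hyW) c, smul_comm])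
        h0 t (Finset.self_mem_range_succ t)
      rw [Nat.sub_self, pow_zero, Nat.choose_self, Nat.cast_one, one_mul, one_smul] at hall
      have hXt : Function.Injective (X ^ t : Module.End K V) := by
        rw [Module.End.coe_pow]; exact hXinj.iterate _
      exact hXt (by rw [hall, map_zero])
    have hlt : Nat.card U + (m - l) + finrank K W0 < N := by
      have := Submodule.finrank_le W0
      omega
    rcases ih _ hlt U hU W0 (m - l) s' (θ ^ j) (subHom r W0 (hrstab lam)) X' rfl
      (by rw [← pow_mul, ← hjm, hθ])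
      (fun a => LinearMap.ext fun w => Subtype.ext (LinearMap.congr_fun (hXit j a) w))
      (LinearMap.ext fun w => Subtype.ext (by
        rw [hX', restrict_pow_apply, ← pow_mul, ← hjm, hX]; rfl))
      hs'0 ((Nat.div_lt_iff_lt_mul hj0).2 (by rw [mul_comm, ← hjm]; exact hsP))
      with h | ⟨⟨n0, b, h1, h2, h3, h4, h5⟩, hna⟩
    · -- `z` acts trivially on all of `V`
      let S : Submodule K V := ⨅ a : U, LinearMap.ker (r (z a) - r a)
      have hSmem : ∀ v, v ∈ S ↔ ∀ a, r (z a) v = r a v := fun v => by
        simp only [S, Submodule.mem_iInf, LinearMap.mem_ker, LinearMap.sub_apply, sub_eq_zero]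
      have hSt : S = ⊤ := by
        refine (hirrX S ?_ ?_).resolve_left fun hS => hW0ne (eq_bot_iff.2 ?_)
        · intro c v hv
          rw [hSmem] at hv ⊢
          intro a
          calc r (z a) (r c v) = r (z a) (r (z c) v) := by rw [hv c]
            _ = r (z (a * c)) v := by rw [map_mul z, map_mul r, Module.End.mul_apply]
            _ = r a (r c v) := by rw [hv, map_mul r, Module.End.mul_apply]
        · intro v hv
          rw [hSmem] at hv ⊢
          intro a
          have e1 : r (z a) (X v) = X (r (z (θ.symm a)) v) := by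
            rw [← Module.End.mul_apply X, hXr, ← hzθ, θ.apply_symm_apply]; rfl
          have e2 : r a (X v) = X (r (θ.symm a) v) := by
            rw [← Module.End.mul_apply X, hXr, θ.apply_symm_apply]; rfl
          rw [e1, e2, hv]
        · rw [← hS]
          intro w hw
          rw [hSmem]
          intro a
          have := congrArg Subtype.val (LinearMap.congr_fun (h a) ⟨w, hw⟩)
          rw [hjz] at this
          exact this
      intro a
      exact LinearMap.ext fun v => (hSmem v).1 (hSt ▸ Submodule.mem_top) a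
    · refine absurd ⟨⟨n0, b, h1, by omega, h3, h4, ?_⟩, hna⟩ hexc
      calc p ^ (m + 1 - n0) * (p ^ n0 - 1) = j * (p ^ (m - l + 1 - n0) * (p ^ n0 - 1)) := by
            rw [← mul_assoc, hjl, ← pow_add]
            congr 2
            omega
        _ ≤ j * (s / j) := Nat.mul_le_mul_left _ h5
        _ ≤ s := Nat.mul_div_le s j

/-- Hall–Higman's Theorem B. -/
theorem theoremB {U : Type u} [Group U] [Finite U] (hpq : p ≠ q) (hU : IsPGroup q U) {V : Type v}
    [AddCommGroup V] [Module K V] [FiniteDimensional K V] {m s : ℕ} (θ : MulAut U)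
    (hθ : θ ^ p ^ (m + 1) = 1) (r : U →* Module.End K V) (X : Module.End K V)
    (hXr : ∀ a, X * r a = r (θ a) * X) (hX : X ^ p ^ (m + 1) = 1) (hs : (X - 1) ^ s = 0)
    (hsP : s < p ^ (m + 1)) :
    (∀ a, r ((θ ^ p ^ m) a) = r a) ∨ Exc p q m s U :=
  theoremB_aux hpq _ U hU V m s θ r X rfl hθ hXr hX hs hsP

end Main

end CfsgLib.Core.HHCritical
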