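import Mathlib
import Cfsg.Agent.Lib.Core.HHCritical.TheoremB
import Cfsg.Agent.Lib.PGroups.FrattiniModule

/-!
# Theorem B on a module over the field with `p` elements

* `fixed_of_norm_eq_zero'`: the norm of an operator of order `p ^ (m + 1)` on an elementary abelian
  `p`-group vanishes only if its `p ^ m`-th power centralises every normalised `q`-group of
  operators, outside the Fermat case
* `exists_mul_pow_ne'`: the same inside a group
-/

set_option autoImplicit false
set_option linter.all false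

namespace CfsgLib.Core.HHCritical

open scoped TensorProduct

/-- The hypothesis excluding the exceptional case. -/
def NoExc (p q : ℕ) (A : Type*) [Group A] : Prop :=
  (¬ ∃ k : ℕ, p = 2 ^ k + 1) ∨ (q = 2 → ∀ a b : A, a * b = b * a)

theorem eq_two_of_pow_sub_one {p q n b : ℕ} (hp : p.Prime) (hp2 : p ≠ 2) (hq : q.Prime)
    (h : p ^ n - 1 = q ^ b) (hb : 1 ≤ b) : q = 2 := by
  have hodd : Odd (p ^ n) := (hp.odd_of_ne_two hp2).pow
  obtain ⟨k, hk⟩ := hodd
  have h2 : 2 ∣ q ^ b := ⟨k, by omega⟩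
  exact ((Nat.prime_dvd_prime_iff_eq Nat.prime_two hq).1 (Nat.prime_two.dvd_of_dvd_pow h2)).symm

theorem fermat_of_pow_sub_one {p : ℕ} (hp : p.Prime) (hp2 : p ≠ 2) :
    ∀ n b : ℕ, 1 ≤ n → p ^ n = 2 ^ b + 1 → ∃ k, p = 2 ^ k + 1 := by
  intro n b hn h
  rcases Nat.even_or_odd n with ⟨t, ht⟩ | hodd
  · -- `(p ^ t - 1) * (p ^ t + 1)` is a power of two
    have ht1 : 1 ≤ t := by omega
    set y := p ^ t with hy
    have hyy : y * y = 2 ^ b + 1 := by rw [hy, ← pow_add, ← ht, h]
    have hpy : p ≤ y := by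
      calc p = p ^ 1 := (pow_one p).symm
        _ ≤ y := Nat.pow_le_pow_right hp.pos ht1
    have hp3 : 3 ≤ p := by have := hp.two_le; omega
    have hmul : (y - 1) * (y + 1) = 2 ^ b := by
      obtain ⟨w, hw⟩ : ∃ w, y = w + 1 := ⟨y - 1, by omega⟩
      rw [hw] at hyy ⊢
      rw [Nat.add_sub_cancel]
      nlinarith
    obtain ⟨i, -, hi⟩ := (Nat.dvd_prime_pow Nat.prime_two).1 ⟨y + 1, hmul.symm⟩
    obtain ⟨j, -, hj⟩ := (Nat.dvd_prime_pow Nat.prime_two).1 ⟨y - 1, by rw [mul_comm]; exact hmul.symm⟩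
    have hi1 : i = 1 := by
      rcases i with _ | _ | i
      · simp at hi; omega
      · rfl
      · exfalso
        have hj2 : 2 ≤ j := by
          by_contra hj2
          have : 2 ^ j ≤ 2 ^ 1 := Nat.pow_le_pow_right (by norm_num) (by omega)
          omega
        obtain ⟨j', rfl⟩ : ∃ j', j = j' + 2 := ⟨j - 2, by omega⟩
        rw [pow_succ, pow_succ] at hi hj
        omega
    subst hi1
    exact ⟨1, by omega⟩
  · -- the cofactor of `p - 1` is odd
    obtain ⟨w, hw⟩ : ∃ w, p = w + 1 := ⟨p - 1, by have := hp.two_le; omega⟩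
    have hsum : w * (∑ i ∈ Finset.range n, p ^ i) + 1 = p ^ n := by
      rw [hw]
      have := geom_sum_mul_add w n
      linarith [this]
    have hdvd : (∑ i ∈ Finset.range n, p ^ i) ∣ 2 ^ b := ⟨w, by rw [mul_comm]; omega⟩
    obtain ⟨i, -, hi⟩ := (Nat.dvd_prime_pow Nat.prime_two).1 hdvd
    have hS : Odd (∑ i ∈ Finset.range n, p ^ i) := by
      rw [Nat.odd_iff, Finset.sum_nat_mod]
      have : ∀ i ∈ Finset.range n, p ^ i % 2 = 1 := fun i _ =>
        Nat.odd_iff.1 (hp.odd_of_ne_two hp2).pow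
      rw [Finset.sum_congr rfl this]
      simpa using Nat.odd_iff.1 hodd
    have hi0 : i = 0 := by
      by_contra hne
      rw [hi] at hS
      exact absurd hS (Nat.not_odd_iff_even.2 (Nat.even_pow.2 ⟨even_two, hne⟩))
    rw [hi0, pow_zero] at hi
    rw [hi] at hsum
    exact ⟨b, by omega⟩

theorem not_exc {p q m s : ℕ} {A : Type*} [Group A] (hp : p.Prime) (hp2 : p ≠ 2) (hq : q.Prime)
    (h : NoExc p q A) : ¬ Exc p q m s A := by
  rintro ⟨⟨n, b, hn, -, hb, hpq, -⟩, hna⟩
  obtain rfl := eq_two_of_pow_sub_one hp hp2 hq hpq hb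
  rcases h with h | h
  · exact h (fermat_of_pow_sub_one hp hp2 n b hn (by have := Nat.one_le_pow n p hp.pos; omega))
  · exact hna (h rfl)

universe u

theorem fixed_of_norm_eq_zero' {p q m : ℕ} [hp : Fact p.Prime] [hq : Fact q.Prime] (hp2 : p ≠ 2)
    (hpq : p ≠ q) {M : Type u} [AddCommGroup M] [Finite M] (hM : ∀ x : M, p • x = 0)
    {A : Type u} [Group A] [Finite A] (hA : IsPGroup q A) (hno : NoExc p q A)
    (r : A →* AddMonoid.End M) (θ : MulAut A) (hθ : θ ^ p ^ (m + 1) = 1) (X : AddMonoid.End M)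
    (hXr : ∀ a, X * r a = r (θ a) * X)
    (hN : ∑ i ∈ Finset.range (p ^ (m + 1)), X ^ i = 0) (a : A) :
    r ((θ ^ p ^ m) a) = r a := by
  classical
  haveI : Module (ZMod p) M := AddCommGroup.zmodModule hM
  set K := AlgebraicClosure (ZMod p)
  obtain ⟨e, he⟩ : ∃ e : AddMonoid.End M → Module.End (ZMod p) M, ∀ f v, e f v = f v :=
    ⟨fun f => AddMonoidHom.toZModLinearMap p (f : M →+ M), fun f v => rfl⟩
  let lin : AddMonoid.End M →+* Module.End (ZMod p) M :=
    { toFun := e
      map_one' := LinearMap.ext fun v => by rw [he, Module.End.one_apply]; rfl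
      map_mul' := fun f g => LinearMap.ext fun v => by rw [Module.End.mul_apply, he, he, he]; rfl
      map_zero' := LinearMap.ext fun v => by rw [he, LinearMap.zero_apply]; rfl
      map_add' := fun f g => LinearMap.ext fun v => by rw [LinearMap.add_apply, he, he, he]; rfl }
  let ι : AddMonoid.End M →+* Module.End K (K ⊗[ZMod p] M) :=
    ((Module.End.baseChangeHom (ZMod p) K M).toRingHom).comp lin
  have hι : Function.Injective ι := by
    obtain ⟨l, hl⟩ := LinearMap.exists_leftInverse_of_injective (Algebra.linearMap (ZMod p) K)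
      (LinearMap.ker_eq_bot.2 (algebraMap (ZMod p) K).injective)
    have hl1 : l 1 = 1 := by simpa using LinearMap.congr_fun hl 1
    have hmk : Function.Injective fun v : M => (1 : K) ⊗ₜ[ZMod p] v := fun v w h => by
      have := congrArg (fun x => TensorProduct.lid (ZMod p) M (l.rTensor M x)) h
      simpa [hl1] using this
    intro f g h
    refine DFunLike.ext _ _ fun v => hmk ?_
    have h' := LinearMap.congr_fun h ((1 : K) ⊗ₜ v)
    change (1 : K) ⊗ₜ[ZMod p] (e f v) = (1 : K) ⊗ₜ[ZMod p] (e g v) at h'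
    rwa [he, he] at h'
  have hP0 : 0 < p ^ (m + 1) := pow_pos hp.out.pos _
  have hXP : X ^ p ^ (m + 1) = 1 := by
    have h := geom_sum_mul X (p ^ (m + 1))
    rw [hN, zero_mul, eq_comm, sub_eq_zero] at h
    exact h
  have hs : (ι X - 1) ^ (p ^ (m + 1) - 1) = 0 := by
    have h := congrArg (Polynomial.aeval (ι X)) (poly_sub_one_pow (K := K) p (m + 1))
    simp only [map_pow, map_sub, Polynomial.aeval_X, map_one, map_sum] at h
    rw [h]
    have h2 := congrArg ι hN
    simpa only [map_sum, map_pow, map_zero] using h2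
  rcases theoremB (K := K) (s := p ^ (m + 1) - 1) hpq hA θ hθ (ι.toMonoidHom.comp r) (ι X)
      (fun b => by
        show ι X * ι (r b) = ι (r (θ b)) * ι X
        rw [← map_mul, ← map_mul, hXr])
      (by rw [← map_pow, hXP, map_one]) hs (by omega) with h | h
  · exact hι (h a)
  · exact absurd h (not_exc hp.out hp2 hq.out hno)

theorem exists_mul_pow_ne' {X : Type u} [Group X] [Finite X] {p q m : ℕ} [hp : Fact p.Prime]
    [hq : Fact q.Prime] (hp2 : p ≠ 2) (hpq : p ≠ q) (V : Subgroup X) [V.Normal]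
    (hVc : ∀ v ∈ V, ∀ w ∈ V, v * w = w * v) (hVp : ∀ v ∈ V, v ^ p = 1)
    (hCV : Subgroup.centralizer (V : Set X) ≤ V) {a : X} (hap : a ^ p ^ (m + 1) ∈ V)
    (A : Subgroup (X ⧸ V)) (hA : IsPGroup q A) (hno : NoExc p q A)
    (hAa : QuotientGroup.mk' V a ∈ Subgroup.normalizer (A : Set (X ⧸ V)))
    (hnc : QuotientGroup.mk' V (a ^ p ^ m) ∉ Subgroup.centralizer (A : Set (X ⧸ V))) :
    ∃ v ∈ V, (v * a) ^ p ^ (m + 1) ≠ a ^ p ^ (m + 1) := by
  classical
  by_contra hcon
  push Not at hcon
  letI : CommGroup V :=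
    { (inferInstance : Group V) with mul_comm := fun v w => Subtype.ext (hVc v v.2 w w.2) }
  let c : X →* AddMonoid.End (Additive V) :=
    { toFun := fun x => MonoidHom.toAdditive (MulAut.conjNormal x : MulAut V).toMonoidHom
      map_one' := by rw [map_one]; rfl
      map_mul' := fun x y => by rw [map_mul]; rfl }
  have hc : ∀ (x : X) (v : V), ((Additive.toMul (c x (Additive.ofMul v)) : V) : X) = x * v * x⁻¹ :=
    fun x v => MulAut.conjNormal_apply x v
  have hker : V ≤ c.ker := fun x hx => DFunLike.ext _ _ fun v => by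
    apply Additive.toMul.injective
    apply Subtype.ext
    show ((Additive.toMul (c x (Additive.ofMul (Additive.toMul v))) : V) : X) = _
    rw [hc, hVc x hx _ (Additive.toMul v).2, mul_inv_cancel_right]; rfl
  let ρ : X ⧸ V →* AddMonoid.End (Additive V) := QuotientGroup.lift V c hker
  have hinj : ∀ g, ρ g = 1 → g = 1 := by
    intro g hg
    obtain ⟨x, rfl⟩ := QuotientGroup.mk'_surjective V g
    refine (QuotientGroup.eq_one_iff x).mpr (hCV (Subgroup.mem_centralizer_iff.mpr fun v hv => ?_))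
    have h1 := hc x ⟨v, hv⟩
    rw [show c x = 1 from hg] at h1
    exact (mul_inv_eq_iff_eq_mul.mp h1.symm).symm
  set π := QuotientGroup.mk' V with hπ
  let θ : MulAut A := A.normalizerMonoidHom ⟨π a, hAa⟩
  have hθc : ∀ (k : ℕ) (b : A), (((θ ^ k) b : A) : X ⧸ V) = π a ^ k * b * (π a ^ k)⁻¹ := by
    intro k b
    simp only [θ, ← map_pow]
    rfl
  have hπa : π a ^ p ^ (m + 1) = 1 := by
    rw [← map_pow]; exact (QuotientGroup.eq_one_iff _).mpr hap
  set T := ρ (π a) with hT
  have hS : ∀ (v : V) (k : ℕ), ((v : X) * a) ^ k =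
      ((Additive.toMul ((∑ i ∈ Finset.range k, T ^ i) (Additive.ofMul v)) : V) : X) * a ^ k := by
    intro v k
    induction k with
    | zero => simp
    | succ k ih =>
      have hTk : ((Additive.toMul ((T ^ k) (Additive.ofMul v)) : V) : X) = a ^ k * v * (a ^ k)⁻¹ := by
        rw [hT, ← map_pow, ← map_pow]; exact hc (a ^ k) v
      have hadd : ∀ f g : AddMonoid.End (Additive V), ∀ w, (f + g) w = f w + g w := fun _ _ _ => rfl
      rw [Finset.sum_range_succ, hadd, toMul_add, Subgroup.coe_mul, hTk, pow_succ, ih,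
        pow_succ]
      group
  have hN : ∑ i ∈ Finset.range (p ^ (m + 1)), T ^ i = 0 := DFunLike.ext _ _ fun w => by
    have h1 := hS (Additive.toMul w) (p ^ (m + 1))
    rw [hcon _ (Additive.toMul w).2] at h1
    have h2 := mul_eq_right.mp h1.symm
    exact Additive.toMul.injective (Subtype.ext h2)
  refine hnc (Subgroup.mem_centralizer_iff.mpr fun b hb => ?_)
  have h := fixed_of_norm_eq_zero' (m := m) hp2 hpq (M := Additive V)
    (fun w => Additive.toMul.injective (Subtype.ext (by simpa using hVp _ (Additive.toMul w).2)))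
    hA hno (ρ.comp A.subtype) θ
    (MulEquiv.ext fun b => Subtype.ext (by rw [hθc, hπa]; simp)) T
    (fun b => by
      show ρ (π a) * ρ b = ρ _ * ρ (π a)
      rw [← map_mul, ← map_mul]
      congr 1
      have := hθc 1 b
      simp only [pow_one] at this
      show π a * b = ((θ b : A) : X ⧸ V) * π a
      rw [this, inv_mul_cancel_right]) hN ⟨b, hb⟩
  have h' : (((θ ^ p ^ m) ⟨b, hb⟩ : A) : X ⧸ V) * b⁻¹ = 1 := by
    refine hinj _ ?_
    rw [map_mul]
    show ρ _ * ρ b⁻¹ = 1
    rw [show ρ (((θ ^ p ^ m) ⟨b, hb⟩ : A) : X ⧸ V) = ρ b from h, ← map_mul, mul_inv_cancel, map_one]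
  rw [hθc, mul_inv_eq_one, mul_inv_eq_iff_eq_mul, ← map_pow] at h'
  exact h'.symm

end CfsgLib.Core.HHCritical
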