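import Mathlib
import Cfsg.Agent.Lib.Core.HHCritical.TheoremB
import Cfsg.Agent.Lib.PGroups.Basic

/-!
# Quadratic commutators act trivially on a `2`-group of class two

* `commute_of_quad_commutator`: let a `p`-group `B` normalise a class two `2`-group `U`, let
  `A = [B, B]` act quadratically and `(a - 1)(b - 1)² = 0`; then `A` centralises `U` modulo its
  centre
-/

set_option autoImplicit false
set_option linter.all false

namespace CfsgLib.Core.QuadDerived

open Subgroup
open scoped commutatorElement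

/-- A group of odd order permuting fixed point freely a set of at most three points is trivial on
commutators: the form used for four elements with one fixed. -/
theorem commutator_fix_of_small {B α : Type*} [Group B] [Finite B] [MulAction B α] [Finite α]
    (hodd : Odd (Nat.card B)) (o : α) (ho : ∀ b : B, b • o = o) (hα : Nat.card α ≤ 4) {a : B}
    (ha : a ∈ _root_.commutator B) (x : α) : a • x = x := by
  classical
  let β := {y : α // y ≠ o}
  let f : B →* Equiv.Perm β :=
    { toFun := fun b => (MulAction.toPerm b).subtypePerm fun y => by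
        show b • y ≠ o ↔ y ≠ o
        constructor
        · rintro h rfl; exact h (ho b)
        · intro h hb; exact h (MulAction.injective b (hb.trans (ho b).symm))
      map_one' := Equiv.ext fun y => Subtype.ext (one_smul B (y : α))
      map_mul' := fun b c => Equiv.ext fun y => Subtype.ext (mul_smul b c (y : α)) }
  have hβ : Nat.card β ≤ 3 := by
    haveI := Fintype.ofFinite α
    rw [Nat.card_eq_fintype_card] at hα ⊢
    rw [Fintype.card_subtype_compl, Fintype.card_subtype_eq]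
    omega
  have hcyc : IsCyclic f.range := by
    haveI : Finite f.range := Finite.of_surjective _ f.rangeRestrict_surjective
    have hr : Nat.card f.range ∣ (Nat.card β).factorial := by
      have h := card_subgroup_dvd_card f.range
      rwa [Nat.card_perm] at h
    have ho' : Odd (Nat.card f.range) :=
      hodd.of_dvd_nat (card_dvd_of_surjective _ f.rangeRestrict_surjective)
    have h3 : Nat.card f.range = 1 ∨ Nat.card f.range = 3 := by
      have h6 : Nat.card f.range ∣ 6 := hr.trans (Nat.factorial_dvd_factorial hβ)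
      have hle := Nat.le_of_dvd (by norm_num) h6
      obtain ⟨k, hk⟩ := ho'
      have hkle : k ≤ 2 := by omega
      interval_cases k
      · exact Or.inl hk
      · exact Or.inr hk
      · rw [hk] at h6; norm_num at h6
    rcases h3 with h | h
    · haveI : Subsingleton f.range := (Nat.card_eq_one_iff_unique.1 h).1
      exact isCyclic_of_subsingleton
    · haveI := Fact.mk Nat.prime_three
      exact isCyclic_of_prime_card h
  have hker : _root_.commutator B ≤ f.ker := by
    rw [_root_.commutator_def, commutator_le]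
    intro b _ c _
    rw [MonoidHom.mem_ker, map_commutatorElement, commutatorElement_eq_one_iff_mul_comm]
    haveI := hcyc
    letI := IsCyclic.commGroup (α := f.range)
    exact congrArg Subtype.val (mul_comm (f.rangeRestrict b) (f.rangeRestrict c))
  rcases eq_or_ne x o with rfl | hx
  · exact ho a
  · exact congrArg Subtype.val (Equiv.congr_fun (hker ha) (⟨x, hx⟩ : β))

variable {X : Type*} [Group X] [Finite X] {K : Type*} [Field K] {V : Type*} [AddCommGroup V]
  [Module K V] [FiniteDimensional K V]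

/-- The quadratic case on one eigenspace: few moved classes. -/
theorem index_le_four {p : ℕ} (hp : p.Prime) (hp2 : p ≠ 2) {M : Type*} [CommGroup M] [Finite M]
    (e : M → Module.End K V) (einv : M → Module.End K V) (he : ∀ v, e v * einv v = 1)
    (he' : ∀ v, einv v * e v = 1)
    (χ : M → M → K) (hχ : ∀ a v, e a * e v = χ a v • (e v * e a))
    (hχmul : ∀ a a' v, χ (a * a') v = χ a v * χ a' v)
    (hχne : ∀ a v, χ a v ≠ 0)
    (hχnd : ∀ w, w ≠ 1 → ∃ b, χ b w ≠ 1)
    (hcj : ∀ a b T, e (a * b) * T * einv (a * b) = e a * (e b * T * einv b) * einv a)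
    (hN : (Nat.card M : K) ≠ 0) (h2 : (2 : K) ≠ 0) (σ : MulAut M) (hσ : σ ^ p = 1)
    (Xo Xi : Module.End K V) (hXX : Xo * Xi = 1) (hXX' : Xi * Xo = 1)
    (hq : (Xo - 1) * (Xo - 1) = 0)
    (hχσ : ∀ a v, χ (σ a) (σ v) = χ a v)
    (hXe : ∀ a T, Xo * (e a * T * einv a) * Xi = e (σ a) * (Xo * T * Xi) * einv (σ a))
    [Nontrivial V] :
    Nat.card M ≤ 4 * Nat.card {v : M // σ v = v} := by
  classical
  haveI : Fintype M := Fintype.ofFinite M
  let cj : M → (Module.End K V →ₗ[K] Module.End K V) := fun g =>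
    (LinearMap.mulLeft K (e g)).comp (LinearMap.mulRight K (einv g))
  have hcjd : ∀ g T, cj g T = e g * T * einv g := fun g T => (mul_assoc _ _ _).symm
  let P : M → (Module.End K V →ₗ[K] Module.End K V) := fun v =>
    (Nat.card M : K)⁻¹ • ∑ a : M, (χ a v)⁻¹ • cj a
  have hP : ∀ v T, P v T = (Nat.card M : K)⁻¹ • ∑ a : M, (χ a v)⁻¹ • cj a T := fun v T => by
    simp only [P, LinearMap.smul_apply, LinearMap.sum_apply]
  have hcancel : ∀ (g : M) {c c' : K}, c • e g = c' • e g → c = c' := by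
    intro g c c' h
    by_contra hne
    obtain ⟨v, hv⟩ := exists_ne (0 : V)
    have h1 := congrArg (fun T => T * einv g) h
    simp only [smul_mul_assoc, he] at h1
    have h2' := LinearMap.congr_fun h1 v
    simp only [LinearMap.smul_apply, Module.End.one_apply] at h2'
    exact hne (smul_left_injective K hv h2')
  have hswap : ∀ a b, χ a b * χ b a = 1 := by
    intro a b
    have h1 : (1 : K) • (e a * e b) = (χ a b * χ b a) • (e a * e b) := by
      rw [one_smul, ← smul_smul, ← hχ b a, ← hχ a b]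
    have h2' := congrArg (fun T => T * einv b) h1
    simp only [smul_mul_assoc, mul_assoc, he, mul_one] at h2'
    exact (hcancel a h2').symm
  have hχmul' : ∀ a v v', χ a (v * v') = χ a v * χ a v' := by
    intro a v v'
    have h1 := hswap (v * v') a
    rw [hχmul] at h1
    refine mul_left_cancel₀ (mul_ne_zero (hχne v a) (hχne v' a)) ?_
    rw [h1]
    calc (1 : K) = (χ v a * χ a v) * (χ v' a * χ a v') := by rw [hswap, hswap, one_mul]
      _ = χ v a * χ v' a * (χ a v * χ a v') := by ring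
  have hχ1 : ∀ a, χ a 1 = 1 := fun a => by
    have h := hχmul' a 1 1
    rw [mul_one] at h
    exact (mul_eq_left₀ (hχne a 1)).1 h.symm
  have hsum0 : ∀ w : M, w ≠ 1 → ∑ a : M, χ a w = 0 := by
    intro w hw
    obtain ⟨b, hb⟩ := hχnd w hw
    have h1 : ∑ a : M, χ a w = χ b w * ∑ a : M, χ a w := by
      rw [Finset.mul_sum]
      conv_lhs => rw [← Equiv.sum_comp (Equiv.mulLeft b)]
      exact Finset.sum_congr rfl fun a _ => hχmul b a w
    by_contra hne
    exact hb ((mul_eq_right₀ hne).1 h1.symm)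
  have hcjP : ∀ b v T, cj b (P v T) = χ b v • P v T := by
    intro b v T
    rw [hP, map_smul, map_sum, smul_comm (χ b v)]
    congr 1
    rw [Finset.smul_sum]
    conv_rhs => rw [← Equiv.sum_comp (Equiv.mulLeft b)]
    refine Finset.sum_congr rfl fun a _ => ?_
    rw [map_smul, Equiv.coe_mulLeft, smul_smul]
    have hc2 : cj b (cj a T) = cj (b * a) T := by simp only [hcjd]; exact (hcj b a T).symm
    rw [hc2]
    congr 1
    rw [hχmul]
    field_simp [hχne b v]
  have hPP : ∀ w v T, P w (P v T) = if w = v then P v T else 0 := by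
    intro w v T
    conv_lhs => rw [hP]
    simp only [hcjP, smul_smul, ← Finset.sum_smul]
    have ee : ∀ a, (χ a w)⁻¹ * χ a v = χ a (w⁻¹ * v) := by
      intro a
      rw [hχmul']
      congr 1
      refine (eq_inv_of_mul_eq_one_left ?_).symm
      rw [← hχmul', inv_mul_cancel, hχ1]
    simp only [ee]
    by_cases h : w = v
    · rw [if_pos h, h, inv_mul_cancel, Finset.sum_congr rfl (fun a _ => hχ1 a), Finset.sum_const,
        Finset.card_univ, nsmul_one, ← Nat.card_eq_fintype_card, inv_mul_cancel₀ hN, one_smul]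
    · rw [if_neg h, hsum0 _ (fun h' => h (inv_mul_eq_one.1 h')), mul_zero, zero_smul]
  have hχ1' : ∀ a, χ 1 a = 1 := fun a => by
    have h := hswap a 1
    rwa [hχ1, one_mul] at h
  have htw : ∀ v U, P v (e v * U) = e v * P 1 U := by
    intro v U
    rw [hP, hP, mul_smul_comm, Finset.mul_sum]
    congr 1
    refine Finset.sum_congr rfl fun a _ => ?_
    rw [hχ1, inv_one, one_smul, hcjd, hcjd, ← mul_assoc (e a), hχ a v]
    simp only [smul_mul_assoc, smul_smul, inv_mul_cancel₀ (hχne _ _), one_smul, mul_assoc]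
  have hdim : ∀ v, Module.finrank K (LinearMap.range (P v)) = Module.finrank K (LinearMap.range (P 1)) := by
    intro v
    have e' : LinearMap.range (P v) = (LinearMap.range (P 1)).map (LinearMap.mulLeft K (e v)) := by
      apply le_antisymm
      · rintro _ ⟨T, rfl⟩
        refine ⟨P 1 (einv v * T), ⟨_, rfl⟩, ?_⟩
        show e v * P 1 (einv v * T) = P v T
        rw [← htw, ← mul_assoc, he, one_mul]
      · rintro _ ⟨_, ⟨U, rfl⟩, rfl⟩
        exact ⟨_, htw v U⟩
    rw [e']
    refine (Submodule.equivMapOfInjective _ (fun T U h => ?_) _).finrank_eq.symm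
    have := congrArg (einv v * ·) h
    simpa only [LinearMap.mulLeft_apply, ← mul_assoc, he', one_mul] using this
  set e₁ := Module.finrank K (LinearMap.range (P 1)) with he₁
  have htotal : Nat.card M * e₁ = Module.finrank K V * Module.finrank K V := by
    let f : Module.End K V →ₗ[K] ((v : M) → LinearMap.range (P v)) :=
      LinearMap.pi fun v => (P v).rangeRestrict
    have hdec : ∀ T, ∑ v, P v T = T := by
      intro T
      simp only [hP, ← Finset.smul_sum]
      rw [Finset.sum_comm]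
      simp only [← Finset.sum_smul]
      have hinv : ∀ a v, (χ a v)⁻¹ = χ v a := fun a v => by
        rw [eq_comm]; exact eq_inv_of_mul_eq_one_left (hswap v a)
      simp only [hinv]
      rw [Finset.sum_eq_single (1 : M)]
      · have hone : cj 1 T = T := by
          have h := hcj 1 1 T
          rw [one_mul] at h
          have h' := congrArg (fun Y => einv 1 * Y * e 1) h
          simp only [mul_assoc, he', mul_one] at h'
          simp only [← mul_assoc, he', one_mul] at h'
          rw [hcjd]; exact h'.symm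
        rw [hone, Finset.sum_congr rfl (fun v _ => hχ1 v), Finset.sum_const, Finset.card_univ,
          nsmul_one, ← Nat.card_eq_fintype_card, smul_smul, inv_mul_cancel₀ hN, one_smul]
      · intro a _ ha
        rw [hsum0 a ha, zero_smul]
      · simp
    have hf : Function.Bijective f := by
      constructor
      · intro T U h
        rw [← hdec T, ← hdec U]
        exact Finset.sum_congr rfl fun v _ => congrArg Subtype.val (congrFun h v)
      · intro y
        refine ⟨∑ v, (y v : Module.End K V), funext fun w => Subtype.ext ?_⟩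
        show P w (∑ v, (y v : Module.End K V)) = y w
        rw [map_sum, Finset.sum_eq_single w]
        · obtain ⟨U, hU⟩ := (y w).2
          rw [← hU, hPP, if_pos rfl]
        · intro v _ hv
          obtain ⟨U, hU⟩ := (y v).2
          rw [← hU, hPP, if_neg (Ne.symm hv)]
        · simp
    have h1 := (LinearEquiv.ofBijective f hf).finrank_eq
    rw [Module.finrank_linearMap, Module.finrank_pi_fintype] at h1
    rw [h1, Finset.sum_congr rfl (fun v _ => hdim v), Finset.sum_const, Finset.card_univ,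
      smul_eq_mul, ← Nat.card_eq_fintype_card]
  -- conjugation by the quadratic operator
  let c : Module.End K V →ₗ[K] Module.End K V :=
    (LinearMap.mulLeft K Xo).comp (LinearMap.mulRight K Xi)
  have hc : ∀ T, c T = Xo * T * Xi := fun T => (mul_assoc _ _ _).symm
  set D := Xo - 1 with hD
  have hXo : Xo = 1 + D := by rw [hD]; abel
  have hXi : Xi = 1 - D := by
    have h1 : Xo * (1 - D) = 1 := by
      rw [hXo, mul_sub, mul_one, add_mul, one_mul, hq]; abel
    calc Xi = Xi * (Xo * (1 - D)) := by rw [h1, mul_one]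
      _ = 1 - D := by rw [← mul_assoc, hXX', one_mul]
  have hD1 : ∀ T, c T - T = D * T - T * D - D * T * D := fun T => by
    rw [hc, hXi, hXo]; noncomm_ring
  have hD2 : ∀ T, c (c T) - 2 • c T + T = (-(2 : K)) • (D * T * D) := by
    intro T
    have h1 : c (c T) - 2 • c T + T = c (c T - T) - (c T - T) := by rw [map_sub, two_smul]; abel
    rw [h1, hD1 (c T - T), hD1]
    have hL : ∀ Y, D * (D * Y) = 0 := fun Y => by rw [← mul_assoc, hq, zero_mul]
    have hR : ∀ Y : Module.End K V, Y * D * D = 0 := fun Y => by rw [mul_assoc, hq, mul_zero]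
    simp only [mul_sub, sub_mul, ← mul_assoc, hq, zero_mul, hR]
    rw [neg_smul, two_smul]
    abel
  have hσp : ∀ v, σ v ≠ v → σ (σ v) ≠ v := by
    intro v hv h
    obtain ⟨t, ht⟩ := hp.odd_of_ne_two hp2
    refine hv ?_
    have hj : ∀ j : ℕ, (σ ^ (2 * j)) v = v := by
      intro j
      induction j with
      | zero => rfl
      | succ j ih => rw [mul_add, mul_one, pow_add, pow_two, MulAut.mul_apply, MulAut.mul_apply, h, ih]
    have h1 := MulEquiv.congr_fun hσ v
    rw [ht, pow_succ', MulAut.mul_apply, hj] at h1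
    exact h1
  have hcP : ∀ v T, c (P v T) = P (σ v) (c T) := by
    intro v T
    rw [hP, hP, map_smul, map_sum]
    congr 1
    conv_rhs => rw [← Equiv.sum_comp σ.toEquiv]
    refine Finset.sum_congr rfl fun a _ => ?_
    rw [map_smul, MulEquiv.toEquiv_eq_coe, MulEquiv.coe_toEquiv, hχσ]
    congr 1
    rw [hc, hc, hcjd, hcjd]
    exact hXe a T
  have hcmem : ∀ v y, y ∈ LinearMap.range (P v) → c y ∈ LinearMap.range (P (σ v)) := by
    rintro v _ ⟨T, rfl⟩; exact ⟨c T, (hcP v T).symm⟩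
  have hsel : ∀ v w y, y ∈ LinearMap.range (P v) → P w y = if w = v then y else 0 := by
    rintro v w _ ⟨T, rfl⟩; exact hPP w v T
  -- orbit representatives of the moved classes
  let π : Equiv.Perm M := σ.toEquiv
  have hπ : ∀ (i : ℕ) a, (π ^ i) a = (σ ^ i) a := by
    intro i
    induction i with
    | zero => intro a; rfl
    | succ i ih => intro a; rw [pow_succ', Equiv.Perm.mul_apply, ih, pow_succ']; rfl
  have hπp : π ^ p = 1 := Equiv.ext fun a => by rw [hπ, hσ]; rfl
  have hperiod : ∀ a i, (σ ^ i) a = a → σ a = a ∨ p ∣ i := by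
    intro a i hi
    by_cases hd : p ∣ i
    · exact Or.inr hd
    left
    have hco : Nat.gcd i p = 1 := (hp.coprime_iff_not_dvd.2 hd).symm
    have h1 : ∀ j : ℕ, ((σ ^ i) ^ j) a = a := by
      intro j
      induction j with
      | zero => rfl
      | succ j ih => rw [pow_succ', MulAut.mul_apply, ih, hi]
    obtain ⟨m, -, hm⟩ := Nat.exists_mul_mod_eq_gcd (k := p) (n := i) (by rw [hco]; exact hp.one_lt)
    have h2' := h1 m
    rw [← pow_mul, ← Nat.mod_add_div (i * m) p, hm, hco, pow_add, pow_mul, hσ, one_pow, mul_one,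
      pow_one] at h2'
    exact h2'
  let rel : Setoid M :=
    { r := fun a b => ∃ i, (σ ^ i) a = b
      iseqv :=
        { refl := fun a => ⟨0, rfl⟩
          symm := by
            rintro a b ⟨i, rfl⟩
            refine ⟨(p - 1) * i, ?_⟩
            rw [← MulAut.mul_apply, ← pow_add, ← Nat.succ_mul, Nat.succ_eq_add_one,
              Nat.sub_add_cancel hp.pos, pow_mul, hσ, one_pow]
            rfl
          trans := by
            rintro a b d ⟨i, rfl⟩ ⟨j, rfl⟩
            exact ⟨j + i, by rw [pow_add, MulAut.mul_apply]⟩ } }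
  let Rs : Finset M := Finset.univ.filter fun a => σ a ≠ a ∧ (Quotient.mk rel a).out = a
  have hcover : ∀ a, σ a ≠ a → ∃ r ∈ Rs, ∃ i < p, (σ ^ i) r = a := by
    intro a ha
    obtain ⟨i, hi⟩ : ∃ i, (σ ^ i) (Quotient.mk rel a).out = a :=
      Quotient.exact (Quotient.out_eq (Quotient.mk rel a))
    refine ⟨(Quotient.mk rel a).out, Finset.mem_filter.2 ⟨Finset.mem_univ _, ?_, ?_⟩, i % p,
      Nat.mod_lt _ hp.pos, ?_⟩
    · intro hfix
      apply ha
      rw [← hi]
      rw [← MulAut.mul_apply, ← pow_succ', pow_succ, MulAut.mul_apply, hfix]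
    · rw [Quotient.out_eq]
    · conv_rhs => rw [← hi, ← Nat.mod_add_div i p, pow_add, pow_mul, hσ, one_pow, mul_one]
  have hindep : ∀ r ∈ Rs, ∀ r' ∈ Rs, ∀ i, (σ ^ i) r' = r → r' = r := by
    intro r hr r' hr' i hi
    have e : Quotient.mk rel r' = Quotient.mk rel r := Quotient.sound ⟨i, hi⟩
    rw [← (Finset.mem_filter.1 hr).2.2, ← (Finset.mem_filter.1 hr').2.2, e]
  have hmoved : Nat.card M ≤ Nat.card {v : M // σ v = v} + p * Rs.card := by
    have h1 : Nat.card {v : M // σ v ≠ v} ≤ p * Rs.card := by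
      rw [← Nat.card_fin p, ← Nat.card_eq_finsetCard Rs, ← Nat.card_prod]
      refine Nat.card_le_card_of_surjective (fun z : Fin p × Rs =>
        (⟨(σ ^ (z.1 : ℕ)) z.2, fun h => (Finset.mem_filter.1 z.2.2).2.1
          ((σ ^ (z.1 : ℕ)).injective (by
            rw [← MulAut.mul_apply, ← pow_succ, pow_succ', MulAut.mul_apply, h]))⟩ :
          {v : M // σ v ≠ v})) ?_
      rintro ⟨a, ha⟩
      obtain ⟨r, hr, i, hi, e⟩ := hcover a ha
      exact ⟨(⟨i, hi⟩, ⟨r, hr⟩), Subtype.ext e⟩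
    have h2' : Nat.card {v : M // σ v = v} + Nat.card {v : M // σ v ≠ v} = Nat.card M := by
      rw [← Nat.card_sum]; exact Nat.card_congr (Equiv.sumCompl _)
    omega
  have hσi : ∀ (r : M) (i : ℕ), σ r ≠ r → ¬ p ∣ i → (σ ^ i) r ≠ r := fun r i hr hi h =>
    (hperiod r i h).elim hr hi
  have hPsum : ∀ (y : (r : Rs) → LinearMap.range (P r)) (r : Rs) (j : ℕ) (Y : M → Module.End K V),
      (∀ r' : Rs, Y r' ∈ LinearMap.range (P ((σ ^ j) r'))) →
      P r (∑ r' : Rs, Y r') = ∑ r' : Rs, if (r : M) = (σ ^ j) r' then Y r' else 0 := by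
    intro y r j Y hY
    rw [map_sum]
    exact Finset.sum_congr rfl fun r' _ => hsel _ _ _ (hY r')
  by_cases hp3 : p = 3
  swap
  · -- longer orbits are impossible
    have hp5 : 5 ≤ p := by
      have := hp.two_le
      rcases Nat.lt_or_ge p 5 with h | h
      · have : p = 4 := by omega
        exact absurd hp (by rw [this]; norm_num)
      · exact h
    have hfixall : ∀ v, σ v = v := by
      intro v
      by_contra hv
      have hsub : LinearMap.range (P v) = ⊥ := by
        rw [Submodule.eq_bot_iff]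
        intro y hy
        have h3 : c (c (c y)) - 3 • c (c y) + 3 • c y - y = 0 := by
          have h1 : c (c (c y)) - 3 • c (c y) + 3 • c y - y =
              (c (c (c y)) - 2 • c (c y) + c y) - (c (c y) - 2 • c y + y) := by abel
          have h2' : ∀ T, c (D * T * D) = D * T * D := fun T => by
            rw [hc, hXo, hXi]
            simp only [mul_sub, add_mul, one_mul, mul_one, ← mul_assoc, hq, zero_mul, add_zero]
            rw [mul_assoc (D * T) D D, hq, mul_zero, sub_zero]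
          have h4 : c (c (c y)) - 2 • c (c y) + c y = c (c (c y) - 2 • c y + y) := by
            rw [map_add, map_sub, map_nsmul]
          rw [h1, h4, hD2, map_smul, h2', sub_self]
        have h5 := congrArg (P v) h3
        rw [map_zero, map_sub, map_add, map_sub, map_nsmul, map_nsmul] at h5
        have e1 : P v (c y) = 0 := by
          rw [hsel _ _ _ (hcmem v y hy), if_neg fun h => hv h.symm]
        have e2 : P v (c (c y)) = 0 := by
          rw [hsel _ _ _ (hcmem _ _ (hcmem v y hy)), if_neg fun h => hσp v hv h.symm]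
        have e3 : P v (c (c (c y))) = 0 := by
          rw [hsel _ _ _ (hcmem _ _ (hcmem _ _ (hcmem v y hy))), if_neg]
          intro h
          refine hσi v 3 hv (fun hd => ?_) ?_
          · have := Nat.le_of_dvd (by norm_num) hd
            omega
          · rw [pow_succ', pow_two, MulAut.mul_apply, MulAut.mul_apply]; exact h.symm
        rw [e1, e2, e3, hsel _ _ _ hy, if_pos rfl] at h5
        simpa using h5
      have h1 := hdim v
      rw [hsub, finrank_bot] at h1
      have hpos : 0 < Module.finrank K V := Module.finrank_pos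
      have h6 : Nat.card M * e₁ = 0 := by rw [← h1, mul_zero]
      exact (Nat.mul_pos hpos hpos).ne (h6.symm.trans htotal)
    rw [Nat.card_congr (Equiv.subtypeUnivEquiv hfixall)]
    omega
  subst hp3
  have hrank : Rs.card * e₁ ≤ Module.finrank K (LinearMap.range D) * Module.finrank K (LinearMap.range D) := by
    let g : (V ⧸ LinearMap.ker D →ₗ[K] LinearMap.range D) →ₗ[K] Module.End K V :=
      (LinearMap.llcomp K V (LinearMap.range D) V (LinearMap.range D).subtype).comp
        (LinearMap.lcomp K (LinearMap.range D) (LinearMap.ker D).mkQ)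
    let T2 : ((r : Rs) → LinearMap.range (P r)) →ₗ[K] Module.End K V :=
      ((LinearMap.mulLeft K D).comp (LinearMap.mulRight K D)).comp
        (∑ r : Rs, (LinearMap.range (P r)).subtype.comp (LinearMap.proj r))
    have hT2 : ∀ y, T2 y = D * (∑ r : Rs, ((y r : LinearMap.range (P r)) : Module.End K V)) * D := by
      intro y
      show D * ((∑ r : Rs, (LinearMap.range (P r)).subtype.comp (LinearMap.proj r)) y * D) = _
      rw [LinearMap.sum_apply, mul_assoc]
      rfl
    have hinj : Function.Injective T2 := by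
      rw [← LinearMap.ker_eq_bot, LinearMap.ker_eq_bot']
      intro y hy
      funext r
      refine Subtype.ext ?_
      rw [hT2] at hy
      set Y : Module.End K V := ∑ r : Rs, ((y r : LinearMap.range (P r)) : Module.End K V) with hY
      have h3 : c (c Y) - 2 • c Y + Y = 0 := by rw [hD2, hy, smul_zero]
      have h5 := congrArg (P r) h3
      rw [map_zero, map_add, map_sub, map_nsmul] at h5
      have hr := Finset.mem_filter.1 r.2
      have e0 : P r Y = y r := by
        rw [hY, map_sum, Finset.sum_eq_single r]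
        · rw [hsel _ _ _ (y r).2, if_pos rfl]
        · intro r' _ hne
          rw [hsel _ _ _ (y r').2, if_neg fun h => hne (Subtype.ext h.symm)]
        · simp
      have e1 : P r (c Y) = 0 := by
        rw [hY, map_sum, map_sum]
        refine Finset.sum_eq_zero fun r' _ => ?_
        rw [hsel _ _ _ (hcmem _ _ (y r').2), if_neg]
        intro h
        have hrr : (r' : M) = r := hindep r r.2 r' r'.2 1 (by rw [pow_one]; exact h.symm)
        rw [hrr] at h
        exact hr.2.1 h.symm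
      have e2 : P r (c (c Y)) = 0 := by
        rw [hY, map_sum, map_sum, map_sum]
        refine Finset.sum_eq_zero fun r' _ => ?_
        rw [hsel _ _ _ (hcmem _ _ (hcmem _ _ (y r').2)), if_neg]
        intro h
        have hrr : (r' : M) = r := hindep r r.2 r' r'.2 2 (by rw [pow_two, MulAut.mul_apply]; exact h.symm)
        rw [hrr] at h
        exact hσp _ hr.2.1 h.symm
      rw [e0, e1, e2] at h5
      simpa using h5
    have hle : LinearMap.range T2 ≤ LinearMap.range g := by
      rintro _ ⟨y, rfl⟩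
      rw [hT2]
      set Y : Module.End K V := ∑ r : Rs, ((y r : LinearMap.range (P r)) : Module.End K V)
      refine ⟨(LinearMap.ker D).liftQ ((D * Y * D).codRestrict (LinearMap.range D) fun v => ⟨Y (D v), rfl⟩)
        (fun v hv => ?_), LinearMap.ext fun v => rfl⟩
      rw [LinearMap.mem_ker] at hv ⊢
      refine Subtype.ext ?_
      show D (Y (D v)) = 0
      rw [hv, map_zero, map_zero]
    have h1 := Submodule.finrank_mono hle
    rw [LinearMap.finrank_range_of_inj hinj, Module.finrank_pi_fintype,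
      Finset.sum_congr rfl (fun (r : Rs) _ => hdim r.1), Finset.sum_const, Finset.card_univ,
      Fintype.card_coe, smul_eq_mul] at h1
    refine h1.trans ((LinearMap.finrank_range_le g).trans (le_of_eq ?_))
    rw [Module.finrank_linearMap]
    congr 1
    exact D.quotKerEquivRange.finrank_eq
  have hhalf : 2 * Module.finrank K (LinearMap.range D) ≤ Module.finrank K V := by
    have h1 : LinearMap.range D ≤ LinearMap.ker D := by
      rintro _ ⟨v, rfl⟩
      rw [LinearMap.mem_ker, ← Module.End.mul_apply, hq]; rfl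
    have h2' := Submodule.finrank_mono h1
    have h3 := D.finrank_range_add_finrank_ker
    omega
  have h4 : 4 * Rs.card ≤ Nat.card M := by
    have he1 : 0 < e₁ := by
      refine Nat.pos_of_ne_zero fun h => ?_
      rw [h, mul_zero] at htotal
      exact (Nat.mul_pos Module.finrank_pos Module.finrank_pos).ne htotal
    refine Nat.le_of_mul_le_mul_right ?_ he1
    rw [htotal, mul_assoc]
    have := Nat.mul_le_mul hhalf hhalf
    calc 4 * (Rs.card * e₁) ≤ 4 * (Module.finrank K (LinearMap.range D) * Module.finrank K (LinearMap.range D)) :=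
          Nat.mul_le_mul_left _ hrank
      _ = (2 * Module.finrank K (LinearMap.range D)) * (2 * Module.finrank K (LinearMap.range D)) := by ring
      _ ≤ _ := this
  omega


section Eigen

omit [Finite X] [FiniteDimensional K V]

/-- The eigenspace of a family. -/
def eig (ρ : X →* Module.End K V) (S : Set X) (f : X → K) : Submodule K V where
  carrier := {v | ∀ s ∈ S, ρ s v = f s • v}
  add_mem' := fun {v w} hv hw s hs => by rw [map_add, hv s hs, hw s hs, smul_add]
  zero_mem' := fun s _ => by rw [map_zero, smul_zero]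
  smul_mem' := fun c v hv s hs => by rw [map_smul, hv s hs, smul_comm]

theorem eig_conj (ρ : X →* Module.End K V) {S : Set X} {f : X → K} {g : X}
    (hg : ∀ s ∈ S, g⁻¹ * s * g ∈ S) {v : V} (hv : v ∈ eig ρ S f) :
    ρ g v ∈ eig ρ S (fun s => f (g⁻¹ * s * g)) := by
  intro s hs
  show ρ s (ρ g v) = f (g⁻¹ * s * g) • ρ g v
  rw [← map_smul, ← hv _ (hg s hs), ← Module.End.mul_apply, ← Module.End.mul_apply, ← map_mul,
    ← map_mul]
  congr 2
  group

theorem eig_indep (ρ : X →* Module.End K V) {S : Set X} {f0 f1 f2 : X → K}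
    (h1 : ∃ s ∈ S, f0 s ≠ f1 s) (h2 : ∃ s ∈ S, f0 s ≠ f2 s) {v0 v1 v2 : V}
    (hv0 : v0 ∈ eig ρ S f0) (hv1 : v1 ∈ eig ρ S f1) (hv2 : v2 ∈ eig ρ S f2)
    (h : v0 + v1 + v2 = 0) : v0 = 0 := by
  obtain ⟨s, hs, hs'⟩ := h1
  obtain ⟨t, ht, ht'⟩ := h2
  have e1 : (f0 s - f1 s) • v0 + (f2 s - f1 s) • v2 = 0 := by
    have h3 := congrArg (fun v => ρ s v - f1 s • v) h
    simp only [map_add, hv0 s hs, hv1 s hs, hv2 s hs, map_zero, smul_zero, sub_zero] at h3
    rw [← h3]
    simp only [sub_smul, smul_add]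
    abel
  have e2 : ((f0 t - f2 t) * (f0 s - f1 s)) • v0 = 0 := by
    have h3 := congrArg (fun v => ρ t v - f2 t • v) e1
    simp only [map_add, map_smul, hv0 t ht, hv2 t ht, map_zero, smul_zero, sub_zero] at h3
    rw [← h3]
    module
  rcases smul_eq_zero.1 e2 with h0 | h0
  · rcases mul_eq_zero.1 h0 with h0 | h0
    · exact absurd (sub_eq_zero.1 h0) ht'
    · exact absurd (sub_eq_zero.1 h0) hs'
  · exact h0

variable {p : ℕ}

theorem moved_twice (hp2 : Odd p) {S : Set X} {f : X → K} {g : X} {j : ℕ} (hgp : g ^ p ^ j = 1)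
    (hg : ∀ s ∈ S, g⁻¹ * s * g ∈ S) (hne : ∃ s ∈ S, f s ≠ f (g⁻¹ * s * g)) :
    ∃ s ∈ S, f s ≠ f ((g ^ 2)⁻¹ * s * g ^ 2) := by
  by_contra hall
  push Not at hall
  obtain ⟨s, hs, hs'⟩ := hne
  refine hs' ?_
  have hmem : ∀ (i : ℕ) (s : X), s ∈ S → (g ^ i)⁻¹ * s * g ^ i ∈ S := by
    intro i
    induction i with
    | zero => intro s hs; simpa using hs
    | succ i ih =>
      intro s hs
      have h := hg _ (ih s hs)
      have e : (g ^ (i + 1))⁻¹ * s * g ^ (i + 1) = g⁻¹ * ((g ^ i)⁻¹ * s * g ^ i) * g := by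
        rw [pow_succ]; group
      rwa [e]
  have hev : ∀ i : ℕ, ∀ s ∈ S, f ((g ^ (2 * i))⁻¹ * s * g ^ (2 * i)) = f s := by
    intro i
    induction i with
    | zero => intro s _; simp
    | succ i ih =>
      intro s hs
      have e : (g ^ (2 * (i + 1)))⁻¹ * s * g ^ (2 * (i + 1)) =
          (g ^ 2)⁻¹ * ((g ^ (2 * i))⁻¹ * s * g ^ (2 * i)) * g ^ 2 := by
        rw [mul_add, mul_one, pow_add]; group
      rw [e, ← hall _ (hmem (2 * i) s hs), ih s hs]
  obtain ⟨t, ht⟩ := hp2.pow (n := j)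
  have h := hev (t + 1) s hs
  rw [show 2 * (t + 1) = p ^ j + 1 by omega, pow_succ, hgp, one_mul] at h
  exact h.symm

theorem quad_fixes (ρ : X →* Module.End K V) (hp2 : Odd p) {S : Set X} {f : X → K} {a : X}
    (ha : ∃ j : ℕ, a ^ p ^ j = 1) (hg : ∀ s ∈ S, a⁻¹ * s * a ∈ S)
    (hq : (ρ a - 1) * (ρ a - 1) = 0) {v : V} (hv : v ∈ eig ρ S f) (hv0 : v ≠ 0) :
    ∀ s ∈ S, f (a⁻¹ * s * a) = f s := by
  by_contra hne
  push Not at hne
  obtain ⟨j, hj⟩ := ha
  obtain ⟨s, hs, hs'⟩ := hne
  have hne1 : ∃ s ∈ S, f s ≠ f (a⁻¹ * s * a) := ⟨s, hs, hs'.symm⟩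
  have hne2 := moved_twice hp2 hj hg hne1
  refine hv0 ?_
  have h := LinearMap.congr_fun hq v
  simp only [Module.End.mul_apply, LinearMap.sub_apply, Module.End.one_apply, map_sub,
    LinearMap.zero_apply] at h
  refine eig_indep ρ (f1 := fun s => f (a⁻¹ * s * a)) (f2 := fun s => f ((a ^ 2)⁻¹ * s * a ^ 2))
    (v1 := (-2 : K) • ρ a v) (v2 := ρ a (ρ a v)) hne1 hne2 hv (Submodule.smul_mem _ _ (eig_conj ρ hg hv)) ?_ ?_
  · have h2 := eig_conj ρ (f := fun s => f (a⁻¹ * s * a)) hg (eig_conj ρ hg hv)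
    intro t ht
    refine (h2 t ht).trans ?_
    show f (a⁻¹ * (a⁻¹ * t * a) * a) • _ = f ((a ^ 2)⁻¹ * t * a ^ 2) • _
    congr 2
    rw [pow_two]; group
  · rw [← h, neg_smul, two_smul]
    abel

theorem mover_kills (ρ : X →* Module.End K V) (hp2 : Odd p) {S : Set X} {f : X → K} {a b : X}
    (hb : ∃ j : ℕ, b ^ p ^ j = 1) (hgb : ∀ s ∈ S, b⁻¹ * s * b ∈ S)
    (haf : ∀ f' : X → K, ∀ v ∈ eig ρ S f', ρ a v ∈ eig ρ S f')
    (hkill : (ρ a - 1) * ((ρ b - 1) * (ρ b - 1)) = 0)
    (hne : ∃ s ∈ S, f s ≠ f (b⁻¹ * s * b)) {v : V} (hv : v ∈ eig ρ S f) : ρ a v = v := by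
  obtain ⟨j, hj⟩ := hb
  have hne2 := moved_twice hp2 hj hgb hne
  have h := LinearMap.congr_fun hkill v
  simp only [Module.End.mul_apply, LinearMap.sub_apply, Module.End.one_apply, map_sub,
    LinearMap.zero_apply] at h
  have hd : ∀ f' : X → K, ∀ w ∈ eig ρ S f', ρ a w - w ∈ eig ρ S f' := fun f' w hw =>
    Submodule.sub_mem _ (haf f' w hw) hw
  have h0 : ρ a v - v = 0 := by
    refine eig_indep ρ (f1 := fun s => f (b⁻¹ * s * b)) (f2 := fun s => f ((b ^ 2)⁻¹ * s * b ^ 2))
      (v1 := (-2 : K) • (ρ a (ρ b v) - ρ b v)) (v2 := ρ a (ρ b (ρ b v)) - ρ b (ρ b v)) hne hne2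
      (hd _ v hv) (Submodule.smul_mem _ _ (hd _ _ (eig_conj ρ hgb hv))) ?_ ?_
    · refine hd _ _ ?_
      have h2 := eig_conj ρ (f := fun s => f (b⁻¹ * s * b)) hgb (eig_conj ρ hgb hv)
      intro t ht
      refine (h2 t ht).trans ?_
      show f (b⁻¹ * (b⁻¹ * t * b) * b) • _ = f ((b ^ 2)⁻¹ * t * b ^ 2) • _
      congr 2
      rw [pow_two]; group
    · rw [← h, neg_smul, two_smul]
      abel
  exact sub_eq_zero.1 h0

end Eigen

set_option maxHeartbeats 1000000 in
/-- The commutators of `A` with a class two group are central in it. -/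
theorem commute_of_quad_commutator [IsAlgClosed K] {p : ℕ} (hp : p.Prime) (hp2 : p ≠ 2)
    (h2 : (2 : K) ≠ 0) (ρ : X →* Module.End K V) (hfaith : Function.Injective ρ)
    {U A B : Subgroup X} (hBp : IsPGroup p B) (hAB : A ≤ B) (hA' : A ≤ ⁅B, B⁆)
    (hBA : B ≤ normalizer (A : Set X)) (hBU : B ≤ normalizer (U : Set X))
    (hcen : ∀ u ∈ U, ∀ u' ∈ U, ∀ w ∈ U, ⁅u, u'⁆ * w = w * ⁅u, u'⁆)
    (hsq : ∀ u ∈ U, ∀ w ∈ U, u * u * w = w * (u * u))
    (hq : ∀ a ∈ A, (ρ a - 1) * (ρ a - 1) = 0)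
    (hkill : ∀ a ∈ A, ∀ b ∈ B, (ρ a - 1) * ((ρ b - 1) * (ρ b - 1)) = 0) :
    ∀ a ∈ A, ∀ u ∈ U, ∀ w ∈ U, ⁅a, u⁆ * w = w * ⁅a, u⁆ := by
  classical
  intro a ha u hu u' hu'
  by_contra hmove
  have hodd : Odd p := hp.odd_of_ne_two hp2
  have hpow : ∀ b ∈ B, ∃ j : ℕ, b ^ p ^ j = 1 := fun b hb => by
    obtain ⟨j, hj⟩ := hBp ⟨b, hb⟩
    exact ⟨j, congrArg Subtype.val hj⟩
  have hconj : ∀ b ∈ B, ∀ s ∈ U, b⁻¹ * s * b ∈ U := fun b hb s hs => by
    have := (mem_normalizer_iff.1 (hBU (B.inv_mem hb)) s).1 hs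
    rwa [inv_inv] at this
  have hconj' : ∀ b ∈ B, ∀ s ∈ U, b * s * b⁻¹ ∈ U := fun b hb s hs =>
    (mem_normalizer_iff.1 (hBU hb) s).1 hs
  -- the centre of `U`
  set W := U ⊓ centralizer (U : Set X) with hW
  have hWc : ∀ s ∈ W, ∀ w ∈ U, s * w = w * s := fun s hs w hw => (mem_centralizer_iff.1 hs.2 w hw).symm
  have hcW : ∀ x ∈ U, ∀ y ∈ U, ⁅x, y⁆ ∈ W := fun x hx y hy => Subgroup.mem_inf.2
    ⟨by rw [commutatorElement_def]; exact mul_mem (mul_mem (mul_mem hx hy) (U.inv_mem hx)) (U.inv_mem hy),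
      mem_centralizer_iff.2 fun w hw => (hcen x hx y hy w hw).symm⟩
  have hWconj : ∀ b ∈ B, ∀ s ∈ (W : Set X), b⁻¹ * s * b ∈ (W : Set X) := fun b hb s hs =>
    Subgroup.mem_inf.2 ⟨hconj b hb s hs.1, mem_centralizer_iff.2 fun y hy => by
      have h1 := hWc s hs _ (hconj' b hb y hy)
      calc y * (b⁻¹ * s * b) = b⁻¹ * ((b * y * b⁻¹) * s) * b := by group
        _ = b⁻¹ * (s * (b * y * b⁻¹)) * b := by rw [h1]
        _ = b⁻¹ * s * b * y := by group⟩
  set w := ⁅a, u⁆ with hwdef
  have hwU : w ∈ U := by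
    rw [hwdef, commutatorElement_def]
    exact mul_mem (hconj' a (hAB ha) u hu) (U.inv_mem hu)
  set z0 := ⁅w, u'⁆ with hz0def
  have hz0W : z0 ∈ W := hcW w hwU u' hu'
  have hz0ne : z0 ≠ 1 := fun h => hmove (commutatorElement_eq_one_iff_mul_comm.1 h)
  have hcsq : ∀ x ∈ U, ∀ y ∈ U, ⁅x, y⁆ * ⁅x, y⁆ = 1 := fun x hx y hy => by
    have e : ⁅x * x, y⁆ = x * ⁅x, y⁆ * x⁻¹ * ⁅x, y⁆ := by simp only [commutatorElement_def]; group
    rw [← hcen x hx y hy x hx, mul_inv_cancel_right] at e
    rw [← e, commutatorElement_eq_one_iff_mul_comm]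
    exact hsq x hx y hy
  -- a common eigenvector with `z0 = -1`
  obtain ⟨f, v0, hv00, hv0, hfz⟩ : ∃ (f : X → K) (v : V), v ≠ 0 ∧ v ∈ eig ρ (W : Set X) f ∧ f z0 = -1 := by
    set V0 := LinearMap.ker (ρ z0 + 1) with hV0
    have hinv : ∀ s : W, ∀ v ∈ V0, ρ (s : X) v ∈ V0 := by
      intro s v hv
      rw [LinearMap.mem_ker] at hv ⊢
      have hcm : (ρ z0 + 1) * ρ (s : X) = ρ (s : X) * (ρ z0 + 1) := by
        rw [add_mul, mul_add, ← map_mul, ← map_mul, hWc z0 hz0W _ s.2.1, one_mul, mul_one]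
      rw [← Module.End.mul_apply, hcm, Module.End.mul_apply, hv, map_zero]
    haveI : Nontrivial V0 := by
      rw [Submodule.nontrivial_iff_ne_bot, Submodule.ne_bot_iff]
      obtain ⟨v, hv⟩ : ∃ v, ρ z0 v ≠ v := by
        by_contra h
        push Not at h
        exact hz0ne (hfaith (by rw [map_one]; exact LinearMap.ext h))
      refine ⟨v - ρ z0 v, ?_, sub_ne_zero.2 hv.symm⟩
      rw [LinearMap.mem_ker, LinearMap.add_apply, Module.End.one_apply, map_sub,
        ← Module.End.mul_apply, ← map_mul, hcsq w hwU u' hu', map_one, Module.End.one_apply]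
      abel
    obtain ⟨lam, v, hv, hlam⟩ := CfsgLib.Core.HHCritical.exists_common_eigenvector
      (fun s : W => (ρ (s : X)).restrict (hinv s)) (fun s t => LinearMap.ext fun v => Subtype.ext (by
        show ρ (s : X) (ρ (t : X) v) = ρ (t : X) (ρ (s : X) v)
        rw [← Module.End.mul_apply, ← Module.End.mul_apply, ← map_mul, ← map_mul,
          hWc _ s.2 _ t.2.1]))
    refine ⟨fun x => if h : x ∈ W then lam ⟨x, h⟩ else 0, (v : V), fun h => hv (Subtype.ext h),
      fun s hs => ?_, ?_⟩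
    · show ρ s (v : V) = (if h : s ∈ W then lam ⟨s, h⟩ else 0) • (v : V)
      rw [dif_pos (show s ∈ W from hs)]
      exact congrArg Subtype.val (hlam ⟨s, hs⟩)
    · show (if h : z0 ∈ W then lam ⟨z0, h⟩ else 0) = -1
      rw [dif_pos hz0W]
      have h1 := congrArg Subtype.val (hlam ⟨z0, hz0W⟩)
      have h2' : ρ z0 (v : V) + (v : V) = 0 := v.2
      change ρ z0 (v : V) = lam ⟨z0, hz0W⟩ • (v : V) at h1
      rw [h1] at h2'
      have h3 : (lam ⟨z0, hz0W⟩ + 1) • (v : V) = 0 := by rw [add_smul, one_smul, h2']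
      exact eq_neg_of_add_eq_zero_left ((smul_eq_zero.1 h3).resolve_right fun h => hv (Subtype.ext h))
  -- the quadratic elements fix the eigenspaces
  have hA_fix : ∀ (S : Subgroup X), (∀ c ∈ A, ∀ s ∈ (S : Set X), c⁻¹ * s * c ∈ (S : Set X)) →
      ∀ c ∈ A, ∀ f' : X → K, ∀ v ∈ eig ρ (S : Set X) f', ρ c v ∈ eig ρ (S : Set X) f' := by
    intro S hS c hc f' v hv s hs
    rcases eq_or_ne v 0 with rfl | hv'
    · rw [map_zero, map_zero, smul_zero]
    · have h := eig_conj ρ (hS c hc) hv s hs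
      change ρ s (ρ c v) = f' (c⁻¹ * s * c) • ρ c v at h
      rwa [quad_fixes ρ hodd (hpow c (hAB hc)) (hS c hc) (hq c hc) hv hv' s hs] at h
  have hAW : ∀ c ∈ A, ∀ f' : X → K, ∀ v ∈ eig ρ (W : Set X) f', ρ c v ∈ eig ρ (W : Set X) f' :=
    hA_fix W fun c hc => hWconj c (hAB hc)
  -- `U` and `A` preserve the eigenspace; the bicharacter
  set Vl := eig ρ (W : Set X) f with hVl
  have hfmulW : ∀ s ∈ W, ∀ t ∈ W, f (s * t) = f s * f t := fun s hs t ht => by
    refine smul_left_injective K hv00 ?_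
    show f (s * t) • v0 = (f s * f t) • v0
    rw [← hv0 _ (mul_mem hs ht), map_mul, Module.End.mul_apply, hv0 t ht, map_smul, hv0 s hs, smul_smul,
      mul_comm]
  have hf1 : f 1 = 1 := smul_left_injective K hv00 (show f 1 • v0 = (1 : K) • v0 by
    rw [← hv0 1 (one_mem W), map_one, Module.End.one_apply, one_smul])
  -- `B` fixes `f`
  let Kl : Subgroup X :=
    { carrier := {x | x ∈ U ∧ ∀ y ∈ U, f ⁅x, y⁆ = 1}
      one_mem' := ⟨one_mem U, fun y _ => by rw [commutatorElement_one_left, hf1]⟩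
      mul_mem' := fun {x x'} hx hx' => ⟨mul_mem hx.1 hx'.1, fun y hy => by
        have e : ⁅x * x', y⁆ = x * ⁅x', y⁆ * x⁻¹ * ⁅x, y⁆ := by simp only [commutatorElement_def]; group
        rw [e, ← hcen x' hx'.1 y hy x hx.1, mul_inv_cancel_right,
          hfmulW _ (hcW x' hx'.1 y hy) _ (hcW x hx.1 y hy), hx'.2 y hy, hx.2 y hy, one_mul]⟩
      inv_mem' := fun {x} hx => ⟨inv_mem hx.1, fun y hy => by
        have e : ⁅x⁻¹, y⁆ = x⁻¹ * ⁅x, y⁆⁻¹ * x := by simp only [commutatorElement_def]; group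
        have h1 := hcW x hx.1 y hy
        have h3 : ⁅x, y⁆⁻¹ * x = x * ⁅x, y⁆⁻¹ :=
          hWc _ (inv_mem h1) x hx.1
        rw [e, mul_assoc, h3, inv_mul_cancel_left]
        have h4 := hfmulW _ h1 _ (inv_mem h1)
        rw [mul_inv_cancel, hf1, hx.2 y hy, one_mul] at h4
        exact h4.symm⟩ }
  have hWKl : W ≤ Kl := fun s hs => ⟨hs.1, fun y hy => by
    rw [commutatorElement_eq_one_iff_mul_comm.2 (hWc s hs y hy), hf1]⟩
  have hwK : w ∉ Kl := fun h => by
    have := h.2 u' hu'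
    rw [← hz0def, hfz] at this
    exact h2 (by linear_combination (-1 : K) * this)
  have hav : ∀ μ : X → K, ∀ v ∈ eig ρ (Kl : Set X) μ, v ∈ Vl → v ≠ 0 →
      ∃ v' : V, v' ∈ eig ρ (Kl : Set X) μ ∧ v' ∈ Vl ∧ ρ a v' ≠ v' := by
    intro μ v hv hvl hv'
    by_contra hall
    push Not at hall
    -- `a` would commute with `u` on the eigenspace
    have hUinv : ∀ y ∈ U, ∀ v' ∈ eig ρ (Kl : Set X) μ, v' ∈ Vl →
        ρ y v' ∈ eig ρ (Kl : Set X) μ ∧ ρ y v' ∈ Vl := by
      intro y hy v' h1 h2'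
      refine ⟨fun s hs => ?_, fun s hs => ?_⟩
      · have e : s * y = ⁅s, y⁆ * (y * s) := by rw [commutatorElement_def]; group
        have hsW : ⁅s, y⁆ ∈ W := hcW s hs.1 y hy
        rw [← Module.End.mul_apply, ← map_mul, e, map_mul, map_mul, Module.End.mul_apply,
          Module.End.mul_apply, h1 s hs, map_smul, map_smul]
        congr 1
        rw [← Module.End.mul_apply, ← map_mul, hWc _ hsW y hy, map_mul, Module.End.mul_apply,
          h2' _ hsW, hs.2 y hy, one_smul]
      · rw [← Module.End.mul_apply, ← map_mul, hWc s hs y hy, map_mul, Module.End.mul_apply, h2' s hs,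
          map_smul]
    have hfixw : ∀ v' ∈ eig ρ (Kl : Set X) μ, v' ∈ Vl → ρ w v' = v' := by
      intro v' h1 h2'
      obtain ⟨g1, g2⟩ := hUinv u⁻¹ (U.inv_mem hu) v' h1 h2'
      have hainv : ρ a⁻¹ (ρ u⁻¹ v') = ρ u⁻¹ v' := by
        conv_lhs => rw [← hall _ g1 g2]
        rw [← Module.End.mul_apply, ← map_mul, inv_mul_cancel, map_one, Module.End.one_apply]
      rw [hwdef, commutatorElement_def, map_mul, map_mul, map_mul]
      simp only [Module.End.mul_apply]
      rw [hainv, ← Module.End.mul_apply (ρ u), ← map_mul, mul_inv_cancel, map_one, Module.End.one_apply]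
      exact hall _ h1 h2'
    obtain ⟨g1, g2⟩ := hUinv u' hu' v hv hvl
    have h1 : ρ z0 v = v := by
      have h3 : ρ w⁻¹ (ρ u'⁻¹ v) = ρ u'⁻¹ v := by
        obtain ⟨k1, k2⟩ := hUinv u'⁻¹ (U.inv_mem hu') v hv hvl
        conv_lhs => rw [← hfixw _ k1 k2]
        rw [← Module.End.mul_apply, ← map_mul, inv_mul_cancel, map_one, Module.End.one_apply]
      rw [hz0def, commutatorElement_def, map_mul, map_mul, map_mul]
      simp only [Module.End.mul_apply]
      rw [h3, ← Module.End.mul_apply (ρ u'), ← map_mul, mul_inv_cancel, map_one, Module.End.one_apply]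
      exact hfixw _ hv hvl
    have h4 := hvl z0 hz0W
    rw [h1, hfz, neg_smul, one_smul] at h4
    refine hv' ((smul_eq_zero.1 (?_ : (2 : K) • v = 0)).resolve_left h2)
    rw [two_smul]
    exact eq_neg_iff_add_eq_zero.1 h4
  -- an eigenvector of the radical
  obtain ⟨μ, v1, hv10, hv1μ, hv1l⟩ : ∃ (μ : X → K) (v : V), v ≠ 0 ∧ v ∈ eig ρ (Kl : Set X) μ ∧ v ∈ Vl := by
    have hinv : ∀ s : Kl, ∀ v ∈ Vl, ρ (s : X) v ∈ Vl := fun s v hv t ht => by
      rw [← Module.End.mul_apply, ← map_mul, hWc t ht _ s.2.1, map_mul, Module.End.mul_apply, hv t ht,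
        map_smul]
    haveI : Nontrivial Vl := Submodule.nontrivial_iff_ne_bot.2
      ((Submodule.ne_bot_iff _).2 ⟨v0, hv0, hv00⟩)
    obtain ⟨lam, v, hv, hlam⟩ := CfsgLib.Core.HHCritical.exists_common_eigenvector
      (fun s : Kl => (ρ (s : X)).restrict (hinv s)) (fun s t => LinearMap.ext fun v => Subtype.ext (by
        show ρ (s : X) (ρ (t : X) v) = ρ (t : X) (ρ (s : X) v)
        have e : (s : X) * (t : X) = ⁅(s : X), (t : X)⁆ * ((t : X) * s) := by
          rw [commutatorElement_def]; group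
        rw [← Module.End.mul_apply, ← map_mul, e, map_mul, Module.End.mul_apply, map_mul,
          Module.End.mul_apply, (hinv t (ρ (s : X) v) (hinv s v v.2)) _ (hcW _ s.2.1 _ t.2.1),
          s.2.2 _ t.2.1, one_smul]))
    refine ⟨fun x => if h : x ∈ Kl then lam ⟨x, h⟩ else 0, (v : V), fun h => hv (Subtype.ext h),
      fun s hs => ?_, v.2⟩
    show ρ s (v : V) = (if h : s ∈ Kl then lam ⟨s, h⟩ else 0) • (v : V)
    rw [dif_pos (show s ∈ Kl from hs)]
    exact congrArg Subtype.val (hlam ⟨s, hs⟩)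
  obtain ⟨v2, hv2μ, hv2l, hav2⟩ := hav μ v1 hv1μ hv1l hv10
  have hBfixf : ∀ b ∈ B, ∀ s ∈ W, f (b⁻¹ * s * b) = f s := by
    intro b hb
    by_contra hne
    push Not at hne
    obtain ⟨s, hs, hs'⟩ := hne
    exact hav2 (mover_kills ρ hodd (hpow b hb) (hWconj b hb) (hAW a ha) (hkill a ha b hb)
      ⟨s, hs, hs'.symm⟩ hv2l)
  have hKlconj : ∀ b ∈ B, ∀ s ∈ (Kl : Set X), b⁻¹ * s * b ∈ (Kl : Set X) := by
    intro b hb s hs
    refine ⟨hconj b hb s hs.1, fun y hy => ?_⟩
    have e : ⁅b⁻¹ * s * b, y⁆ = b⁻¹ * ⁅s, b * y * b⁻¹⁆ * b := by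
      simp only [commutatorElement_def]; group
    rw [e, hBfixf b hb _ (hcW _ hs.1 _ (hconj' b hb y hy)), hs.2 _ (hconj' b hb y hy)]
  have hAK : ∀ c ∈ A, ∀ f' : X → K, ∀ v ∈ eig ρ (Kl : Set X) f', ρ c v ∈ eig ρ (Kl : Set X) f' :=
    hA_fix Kl fun c hc => hKlconj c (hAB hc)
  have hBfixμ : ∀ b ∈ B, ∀ s ∈ Kl, μ (b⁻¹ * s * b) = μ s := by
    intro b hb
    by_contra hne
    push Not at hne
    obtain ⟨s, hs, hs'⟩ := hne
    exact hav2 (mover_kills ρ hodd (hpow b hb) (hKlconj b hb) (hAK a ha) (hkill a ha b hb)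
      ⟨s, hs, hs'.symm⟩ hv2μ)
  -- the restriction to the common eigenspace
  set E := eig ρ (Kl : Set X) μ ⊓ Vl with hE
  haveI : Nontrivial E := Submodule.nontrivial_iff_ne_bot.2
    ((Submodule.ne_bot_iff _).2 ⟨v1, ⟨hv1μ, hv1l⟩, hv10⟩)
  have hEU : ∀ y ∈ U, ∀ v ∈ E, ρ y v ∈ E := by
    intro y hy v hv
    refine ⟨fun s hs => ?_, fun s hs => ?_⟩
    · have e : s * y = ⁅s, y⁆ * (y * s) := by rw [commutatorElement_def]; group
      have hsW : ⁅s, y⁆ ∈ W := hcW s hs.1 y hy
      rw [← Module.End.mul_apply, ← map_mul, e, map_mul, map_mul, Module.End.mul_apply,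
        Module.End.mul_apply, hv.1 s hs, map_smul, map_smul]
      congr 1
      rw [← Module.End.mul_apply, ← map_mul, hWc _ hsW y hy, map_mul, Module.End.mul_apply,
        hv.2 _ hsW, hs.2 y hy, one_smul]
    · rw [← Module.End.mul_apply, ← map_mul, hWc s hs y hy, map_mul, Module.End.mul_apply, hv.2 s hs,
        map_smul]
  have hEB : ∀ b ∈ B, ∀ v ∈ E, ρ b v ∈ E := by
    intro b hb v hv
    refine ⟨fun s hs => ?_, fun s hs => ?_⟩
    · refine (eig_conj ρ (hKlconj b hb) hv.1 s hs).trans ?_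
      show μ (b⁻¹ * s * b) • _ = _
      rw [hBfixμ b hb s hs]
    · refine (eig_conj ρ (hWconj b hb) hv.2 s hs).trans ?_
      show f (b⁻¹ * s * b) • _ = _
      rw [hBfixf b hb s hs]
  haveI hKn : (Kl.subgroupOf U).Normal := ⟨fun n hn g => mem_subgroupOf.2 (by
    have hn' := mem_subgroupOf.1 hn
    have e : ((g * n * g⁻¹ : U) : X) = ⁅(g : X), (n : X)⁆ * (n : X) := by
      rw [coe_mul, coe_mul, coe_inv, commutatorElement_def]; group
    rw [e]
    exact mul_mem (hWKl (hcW _ g.2 _ n.2)) hn')⟩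
  letI : CommGroup (U ⧸ Kl.subgroupOf U) :=
    { (inferInstance : Group (U ⧸ Kl.subgroupOf U)) with
      mul_comm := fun x y => by
        induction x using QuotientGroup.induction_on with
        | H x =>
          induction y using QuotientGroup.induction_on with
          | H y =>
            rw [← QuotientGroup.mk_mul, ← QuotientGroup.mk_mul, QuotientGroup.eq, mem_subgroupOf]
            have e : (((x * y)⁻¹ * (y * x) : U) : X) = ⁅(y : X)⁻¹, (x : X)⁻¹⁆ := by
              simp only [coe_mul, coe_inv, commutatorElement_def]; group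
            rw [e]
            exact hWKl (hcW _ (U.inv_mem y.2) _ (U.inv_mem x.2)) }
  have hMsq : ∀ x : (U ⧸ Kl.subgroupOf U), x ^ 2 = 1 := by
    intro x
    induction x using QuotientGroup.induction_on with
    | H x =>
      rw [← QuotientGroup.mk_pow, QuotientGroup.eq_one_iff, mem_subgroupOf, coe_pow, pow_two]
      exact hWKl (Subgroup.mem_inf.2 ⟨mul_mem x.2 x.2, mem_centralizer_iff.2 fun y hy =>
        (hsq x x.2 y hy).symm⟩)
  let sec : (U ⧸ Kl.subgroupOf U) → U := fun x => x.out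
  have hsec : ∀ x, ((sec x : U) : (U ⧸ Kl.subgroupOf U)) = x := fun x => QuotientGroup.out_eq' x
  let r : ∀ y : X, (∀ v ∈ E, ρ y v ∈ E) → Module.End K E := fun y hy => (ρ y).restrict hy
  let e : (U ⧸ Kl.subgroupOf U) → Module.End K E := fun x => r (sec x : X) (hEU _ (sec x).2)
  let einv : (U ⧸ Kl.subgroupOf U) → Module.End K E := fun x => r ((sec x : X)⁻¹) (hEU _ (U.inv_mem (sec x).2))
  have hev : ∀ x (v : E), ((e x v : E) : V) = ρ (sec x : X) v := fun x v => rfl
  have heiv : ∀ x (v : E), ((einv x v : E) : V) = ρ (sec x : X)⁻¹ v := fun x v => rfl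
  have he : ∀ x, e x * einv x = 1 := fun x => LinearMap.ext fun v => Subtype.ext (by
    rw [Module.End.mul_apply, Module.End.one_apply, hev, heiv, ← Module.End.mul_apply, ← map_mul,
      mul_inv_cancel, map_one]; rfl)
  have he' : ∀ x, einv x * e x = 1 := fun x => LinearMap.ext fun v => Subtype.ext (by
    rw [Module.End.mul_apply, Module.End.one_apply, heiv, hev, ← Module.End.mul_apply, ← map_mul,
      inv_mul_cancel, map_one]; rfl)
  let χ : (U ⧸ Kl.subgroupOf U) → (U ⧸ Kl.subgroupOf U) → K := fun x y => f ⁅(sec x : X), (sec y : X)⁆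
  have hfl : ∀ x : U, ∀ y ∈ U, f ⁅(sec (x : (U ⧸ Kl.subgroupOf U)) : X), y⁆ = f ⁅(x : X), y⁆ := by
    intro x y hy
    have hd : (x : X)⁻¹ * (sec (x : (U ⧸ Kl.subgroupOf U)) : X) ∈ Kl := by
      have h := QuotientGroup.eq.1 (hsec (x : (U ⧸ Kl.subgroupOf U))).symm
      rw [mem_subgroupOf, coe_mul, coe_inv] at h
      exact h
    set d := (x : X)⁻¹ * (sec (x : (U ⧸ Kl.subgroupOf U)) : X) with hdd
    have e : ⁅(sec (x : (U ⧸ Kl.subgroupOf U)) : X), y⁆ = x * ⁅d, y⁆ * (x : X)⁻¹ * ⁅(x : X), y⁆ := by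
      rw [hdd]; simp only [commutatorElement_def]; group
    rw [e, ← hcen d hd.1 y hy x x.2, mul_inv_cancel_right,
      hfmulW _ (hcW d hd.1 y hy) _ (hcW x x.2 y hy), hd.2 y hy, one_mul]
  have hfswap : ∀ x ∈ U, ∀ y ∈ U, f ⁅y, x⁆ = f ⁅x, y⁆ := fun x hx y hy => by
    rw [← commutatorElement_inv, inv_eq_of_mul_eq_one_right (hcsq x hx y hy)]
  have hfr : ∀ x ∈ U, ∀ y : U, f ⁅x, (sec (y : (U ⧸ Kl.subgroupOf U)) : X)⁆ = f ⁅x, (y : X)⁆ := fun x hx y => by
    rw [← hfswap x hx _ (sec (y : (U ⧸ Kl.subgroupOf U))).2, hfl y x hx, hfswap x hx y y.2]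
  have hχ : ∀ x y, e x * e y = χ x y • (e y * e x) := fun x y => LinearMap.ext fun v => Subtype.ext (by
    show ρ (sec x : X) (ρ (sec y : X) v) = f ⁅(sec x : X), (sec y : X)⁆ • ρ (sec y : X) (ρ (sec x : X) v)
    have e1 : (sec x : X) * sec y = ⁅(sec x : X), (sec y : X)⁆ * ((sec y : X) * sec x) := by
      rw [commutatorElement_def]; group
    rw [← Module.End.mul_apply, ← map_mul, e1, map_mul, Module.End.mul_apply, map_mul,
      Module.End.mul_apply,
      (hEU _ (sec y).2 _ (hEU _ (sec x).2 _ v.2)).2 _ (hcW _ (sec x).2 _ (sec y).2)])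
  have hχmul : ∀ x x' y, χ (x * x') y = χ x y * χ x' y := by
    intro x x' y
    show f ⁅(sec (x * x') : X), (sec y : X)⁆ = _
    have hx : x * x' = ((sec x * sec x' : U) : (U ⧸ Kl.subgroupOf U)) := by rw [QuotientGroup.mk_mul, hsec, hsec]
    rw [hx, hfl _ _ (sec y).2, coe_mul]
    have e1 : ⁅(sec x : X) * sec x', (sec y : X)⁆ =
        sec x * ⁅(sec x' : X), (sec y : X)⁆ * (sec x : X)⁻¹ * ⁅(sec x : X), (sec y : X)⁆ := by
      simp only [commutatorElement_def]; group
    rw [e1, ← hcen _ (sec x').2 _ (sec y).2 _ (sec x).2, mul_inv_cancel_right,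
      hfmulW _ (hcW _ (sec x').2 _ (sec y).2) _ (hcW _ (sec x).2 _ (sec y).2), mul_comm]
  have hχne : ∀ x y, χ x y ≠ 0 := fun x y h => by
    have h1 := hfmulW _ (hcW _ (sec x).2 _ (sec y).2) _ (hcW _ (sec x).2 _ (sec y).2)
    rw [hcsq _ (sec x).2 _ (sec y).2, hf1, show f ⁅(sec x : X), (sec y : X)⁆ = 0 from h, mul_zero] at h1
    exact one_ne_zero h1
  have hχnd : ∀ x, x ≠ 1 → ∃ b, χ b x ≠ 1 := by
    intro x hx
    by_contra hall
    push Not at hall
    refine hx ?_
    rw [← hsec x, QuotientGroup.eq_one_iff, mem_subgroupOf]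
    refine ⟨(sec x).2, fun y hy => ?_⟩
    have h := hall ((⟨y, hy⟩ : U) : (U ⧸ Kl.subgroupOf U))
    change f ⁅(sec ((⟨y, hy⟩ : U) : (U ⧸ Kl.subgroupOf U)) : X), (sec x : X)⁆ = 1 at h
    rw [hfl ⟨y, hy⟩ _ (sec x).2] at h
    rw [← hfswap y hy _ (sec x).2] at h
    exact h
  have hNM : (Nat.card (U ⧸ Kl.subgroupOf U) : K) ≠ 0 := by
    haveI := Fact.mk Nat.prime_two
    obtain ⟨j, hj⟩ := IsPGroup.iff_card.1 (show IsPGroup 2 (U ⧸ Kl.subgroupOf U) from fun x => ⟨1, by rw [pow_one]; exact hMsq x⟩)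
    rw [hj, Nat.cast_pow]
    exact pow_ne_zero _ (by exact_mod_cast h2)
  have hμne : ∀ s ∈ Kl, μ s ≠ 0 := fun s hs h => hv10 (by
    have h1 := hv1μ s hs
    rw [h, zero_smul] at h1
    have h3 := congrArg (ρ s⁻¹) h1
    rwa [← Module.End.mul_apply, ← map_mul, inv_mul_cancel, map_one, Module.End.one_apply, map_zero] at h3)
  -- representatives differ by scalars
  have hscal : ∀ (x : U) (v : E), ∃ c : K, c ≠ 0 ∧ ∀ v : E,
      ρ (sec (x : (U ⧸ Kl.subgroupOf U)) : X) v = c • ρ (x : X) v ∧ ρ (sec (x : (U ⧸ Kl.subgroupOf U)) : X)⁻¹ v = c⁻¹ • ρ (x : X)⁻¹ v := by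
    intro x _
    have hd : (x : X)⁻¹ * (sec (x : (U ⧸ Kl.subgroupOf U)) : X) ∈ Kl := by
      have h := QuotientGroup.eq.1 (hsec (x : (U ⧸ Kl.subgroupOf U))).symm
      rw [mem_subgroupOf, coe_mul, coe_inv] at h
      exact h
    refine ⟨μ ((x : X)⁻¹ * (sec (x : (U ⧸ Kl.subgroupOf U)) : X)), hμne _ hd, fun v => ⟨?_, ?_⟩⟩
    · conv_lhs => rw [show (sec (x : (U ⧸ Kl.subgroupOf U)) : X) = (x : X) * ((x : X)⁻¹ * (sec (x : (U ⧸ Kl.subgroupOf U)) : X)) by
        rw [mul_inv_cancel_left]]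
      rw [map_mul, Module.End.mul_apply, v.2.1 _ hd, map_smul]
    · have hd' := Kl.inv_mem hd
      have h1 := (hEU _ (U.inv_mem x.2) _ v.2).1 _ hd'
      rw [← Module.End.mul_apply, ← map_mul,
        show ((x : X)⁻¹ * (sec (x : (U ⧸ Kl.subgroupOf U)) : X))⁻¹ * (x : X)⁻¹ = (sec (x : (U ⧸ Kl.subgroupOf U)) : X)⁻¹ by group] at h1
      rw [h1]
      congr 1
      refine eq_inv_of_mul_eq_one_left (smul_left_injective K hv10 ?_)
      show (μ _ * μ _) • v1 = (1 : K) • v1
      set d := (x : X)⁻¹ * (sec (x : (U ⧸ Kl.subgroupOf U)) : X) with hddef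
      have h5 : ρ d⁻¹ (ρ d v1) = v1 := by
        rw [← Module.End.mul_apply, ← map_mul, inv_mul_cancel, map_one, Module.End.one_apply]
      rw [hv1μ _ hd, map_smul, hv1μ _ hd', smul_smul] at h5
      rw [one_smul, mul_comm]
      exact h5
  have hcj : ∀ x y T, e (x * y) * T * einv (x * y) = e x * (e y * T * einv y) * einv x := by
    intro x y T
    have hxy : x * y = ((sec x * sec y : U) : (U ⧸ Kl.subgroupOf U)) := by rw [QuotientGroup.mk_mul, hsec, hsec]
    obtain ⟨c, hc, hcv⟩ := hscal (sec x * sec y) ⟨v1, hv1μ, hv1l⟩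
    rw [← hxy] at hcv
    refine LinearMap.ext fun v => Subtype.ext ?_
    simp only [Module.End.mul_apply, hev]
    set u0 : E := einv y (einv x v)
    have h1 : ((einv (x * y) v : E) : V) = c⁻¹ • (u0 : V) := by
      rw [heiv, (hcv v).2, show (u0 : V) = ρ (sec y : X)⁻¹ (ρ (sec x : X)⁻¹ v) from rfl]
      rw [coe_mul, mul_inv_rev, map_mul, Module.End.mul_apply]
    have h1' : einv (x * y) v = c⁻¹ • u0 := Subtype.ext h1
    rw [(hcv _).1, h1', map_smul, Submodule.coe_smul, coe_mul, map_mul, Module.End.mul_apply,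
      map_smul, map_smul, smul_smul, mul_inv_cancel₀ hc, one_smul]
  -- the action of `B` on `(U ⧸ Kl.subgroupOf U)`
  have hKlmap : ∀ b ∈ B, ∀ s ∈ Kl, b * s * b⁻¹ ∈ Kl := fun b hb s hs => by
    have h := hKlconj b⁻¹ (B.inv_mem hb) s hs
    rwa [inv_inv] at h
  let cB : B →* MulAut U := U.normalizerMonoidHom.comp (Subgroup.inclusion hBU)
  have hcBK : ∀ b : B, (Kl.subgroupOf U).map (cB b).toMonoidHom = Kl.subgroupOf U := by
    intro b
    ext x
    constructor
    · rintro ⟨y, hy, rfl⟩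
      exact mem_subgroupOf.2 (hKlmap b b.2 _ (mem_subgroupOf.1 hy))
    · intro hx
      refine ⟨cB b⁻¹ x, mem_subgroupOf.2 (hKlmap _ (b⁻¹).2 _ (mem_subgroupOf.1 hx)), ?_⟩
      show cB b (cB b⁻¹ x) = x
      rw [← MulAut.mul_apply, ← map_mul, mul_inv_cancel, map_one]; rfl
  let τ : B → MulAut (U ⧸ Kl.subgroupOf U) := fun b => QuotientGroup.congr _ _ (cB b) (hcBK b)
  have hτ : ∀ (b : B) (x : U), τ b (x : (U ⧸ Kl.subgroupOf U)) = ((cB b x : U) : (U ⧸ Kl.subgroupOf U)) := fun b x => rfl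
  letI : MulAction B (U ⧸ Kl.subgroupOf U) :=
    { smul := fun b x => τ b x
      one_smul := fun x => by
        induction x using QuotientGroup.induction_on with
        | H x => show τ 1 (x : (U ⧸ Kl.subgroupOf U)) = x; rw [hτ, map_one]; rfl
      mul_smul := fun b c x => by
        induction x using QuotientGroup.induction_on with
        | H x => show τ (b * c) (x : (U ⧸ Kl.subgroupOf U)) = τ b (τ c (x : (U ⧸ Kl.subgroupOf U))); rw [hτ, hτ, hτ, map_mul]; rfl }
  have hsmul : ∀ (b : B) (x : (U ⧸ Kl.subgroupOf U)), b • x = τ b x := fun b x => rfl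
  have hsmulmk : ∀ (b : B) (x : U), ((b • (x : (U ⧸ Kl.subgroupOf U)) : (U ⧸ Kl.subgroupOf U))) = ((⟨(b : X) * x * (b : X)⁻¹, hconj' b b.2 x x.2⟩ : U) : (U ⧸ Kl.subgroupOf U)) :=
    fun b x => rfl
  -- a central element of the image
  let fB : B →* Equiv.Perm (U ⧸ Kl.subgroupOf U) := MulAction.toPermHom B (U ⧸ Kl.subgroupOf U)
  set AB : Subgroup fB.range := (A.subgroupOf B).map fB.rangeRestrict with hAB'
  haveI : Finite fB.range := Finite.of_surjective _ fB.rangeRestrict_surjective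
  have hABne : AB ≠ ⊥ := by
    intro h
    apply hwK
    have h1 : fB.rangeRestrict ⟨a, hAB ha⟩ = 1 := (Subgroup.eq_bot_iff_forall _).1 h _
      (mem_map_of_mem _ (mem_subgroupOf.2 ha))
    have h3 : (⟨a, hAB ha⟩ : B) • ((⟨u, hu⟩ : U) : (U ⧸ Kl.subgroupOf U)) = ((⟨u, hu⟩ : U) : (U ⧸ Kl.subgroupOf U)) :=
      Equiv.congr_fun (congrArg Subtype.val h1) _
    rw [hsmulmk, eq_comm, QuotientGroup.eq, mem_subgroupOf, coe_mul, coe_inv] at h3
    have h4 : u * (u⁻¹ * (a * u * a⁻¹)) * u⁻¹ ∈ Kl := by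
      have := hWKl (hcW u hu (u⁻¹ * (a * u * a⁻¹)) (mul_mem (U.inv_mem hu) (hconj' a (hAB ha) u hu)))
      have e1 : u * (u⁻¹ * (a * u * a⁻¹)) * u⁻¹ =
          ⁅u, u⁻¹ * (a * u * a⁻¹)⁆ * (u⁻¹ * (a * u * a⁻¹)) := by
        rw [commutatorElement_def]; group
      rw [e1]
      exact mul_mem this h3
    rw [hwdef, commutatorElement_def]
    convert h4 using 1
    group
  haveI : AB.Normal := ⟨fun y hy g => by
    obtain ⟨z, hz, rfl⟩ := hy
    obtain ⟨g', rfl⟩ := fB.rangeRestrict_surjective g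
    refine ⟨g' * z * g'⁻¹, mem_subgroupOf.2 ?_, by rw [map_mul, map_mul, map_inv]⟩
    exact (mem_normalizer_iff.1 (hBA g'.2) _).1 (mem_subgroupOf.1 hz)⟩
  have hBimg : IsPGroup p fB.range := hBp.of_surjective _ fB.rangeRestrict_surjective
  haveI := Fact.mk hp
  haveI := hBimg.isNilpotent
  obtain ⟨ae, ⟨hae, haec⟩, hae1⟩ : ∃ y ∈ AB ⊓ center fB.range, y ≠ 1 := by
    have h1 : AB ⊓ center fB.range ≠ ⊥ := CfsgLib.PGroups.inf_center_ne_bot hBimg hABne
    obtain ⟨y, hy, hy1⟩ := (Subgroup.bot_or_exists_ne_one _).resolve_left h1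
    exact ⟨y, hy, hy1⟩
  obtain ⟨a1, ha1, rfl⟩ := hae
  have ha1A : (a1 : X) ∈ A := mem_subgroupOf.1 ha1
  set σ : MulAut (U ⧸ Kl.subgroupOf U) := τ a1 with hσdef
  have hσap : ∀ x : (U ⧸ Kl.subgroupOf U), σ x = a1 • x := fun x => rfl
  have hap : (a1 : X) ^ p = 1 := by
    refine hfaith ?_
    haveI : Nontrivial V := ⟨⟨v1, 0, hv10⟩⟩
    have hchar : (p : Module.End K V) • (1 : Module.End K V) = (p : Module.End K V) := by
      rw [smul_eq_mul, mul_one]
    rw [map_pow, map_one]
    have hd : ρ (a1 : X) = 1 + (ρ (a1 : X) - 1) := by abel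
    have hq1 := hq _ ha1A
    have hlin : ∀ n : ℕ, ρ (a1 : X) ^ n = 1 + n • (ρ (a1 : X) - 1) := by
      intro n
      induction n with
      | zero => simp
      | succ n ih =>
        rw [pow_succ, ih]
        conv_lhs => rw [hd, add_mul, one_mul, mul_add, mul_one, smul_mul_assoc, add_sub_cancel_left, hq1,
          smul_zero, add_zero]
        rw [succ_nsmul]; abel
    obtain ⟨j, hj⟩ := hpow _ (hAB ha1A)
    have h5 := hlin (p ^ j)
    rw [← map_pow, hj, map_one, left_eq_add] at h5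
    rw [hlin, add_eq_left]
    by_contra hne
    obtain ⟨v, hv⟩ : ∃ v, (p • (ρ (a1 : X) - 1)) v ≠ 0 := by
      by_contra h; push Not at h; exact hne (LinearMap.ext h)
    have h6 := LinearMap.congr_fun h5 v
    rw [LinearMap.smul_apply, ← Nat.cast_smul_eq_nsmul K, LinearMap.zero_apply] at h6
    rw [LinearMap.smul_apply, ← Nat.cast_smul_eq_nsmul K] at hv
    rcases smul_eq_zero.1 h6 with h7 | h7
    · rw [Nat.cast_pow] at h7
      exact hv (by rw [eq_zero_of_pow_eq_zero h7, zero_smul])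
    · exact hv (by rw [h7, smul_zero])
  have hσp : σ ^ p = 1 := by
    have hk : ∀ (i : ℕ) x, (σ ^ i) x = a1 ^ i • x := by
      intro i
      induction i with
      | zero => intro x; rw [pow_zero, pow_zero, one_smul]; rfl
      | succ i ih => intro x; rw [pow_succ', MulAut.mul_apply, ih, pow_succ', mul_smul]; rfl
    refine MulEquiv.ext fun x => ?_
    rw [hk, show a1 ^ p = 1 from Subtype.ext (by rw [coe_pow, hap]; rfl), one_smul]; rfl
  set Xo := r (a1 : X) (hEB _ a1.2)
  set Xi := r (a1 : X)⁻¹ (hEB _ (B.inv_mem a1.2))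
  have hXX : Xo * Xi = 1 := LinearMap.ext fun v => Subtype.ext (by
    show ρ (a1 : X) (ρ (a1 : X)⁻¹ v) = v
    rw [← Module.End.mul_apply, ← map_mul, mul_inv_cancel, map_one]; rfl)
  have hXX' : Xi * Xo = 1 := LinearMap.ext fun v => Subtype.ext (by
    show ρ (a1 : X)⁻¹ (ρ (a1 : X) v) = v
    rw [← Module.End.mul_apply, ← map_mul, inv_mul_cancel, map_one]; rfl)
  have hqE : (Xo - 1) * (Xo - 1) = 0 := LinearMap.ext fun v => Subtype.ext (by
    show ρ (a1 : X) (ρ (a1 : X) v - v) - (ρ (a1 : X) v - v) = 0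
    have h := LinearMap.congr_fun (hq _ ha1A) (v : V)
    simpa [Module.End.mul_apply] using h)
  have hσsec : ∀ x : (U ⧸ Kl.subgroupOf U), σ x = ((⟨(a1 : X) * sec x * (a1 : X)⁻¹, hconj' _ a1.2 _ (sec x).2⟩ : U) : (U ⧸ Kl.subgroupOf U)) := by
    intro x
    conv_lhs => rw [← hsec x]
    exact hsmulmk a1 (sec x)
  have hχσ : ∀ x y, χ (σ x) (σ y) = χ x y := by
    intro x y
    show f ⁅(sec (σ x) : X), (sec (σ y) : X)⁆ = _
    rw [hσsec x, hσsec y, hfl _ _ (sec _).2, hfr _ (hconj' _ a1.2 _ (sec x).2)]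
    have e1 : ⁅(a1 : X) * sec x * (a1 : X)⁻¹, (a1 : X) * sec y * (a1 : X)⁻¹⁆ =
        (a1 : X)⁻¹⁻¹ * ⁅(sec x : X), (sec y : X)⁆ * (a1 : X)⁻¹ := by
      simp only [commutatorElement_def]; group
    show f ⁅(a1 : X) * sec x * (a1 : X)⁻¹, (a1 : X) * sec y * (a1 : X)⁻¹⁆ = _
    rw [e1, hBfixf _ (B.inv_mem a1.2) _ (hcW _ (sec x).2 _ (sec y).2)]
  have hXe : ∀ x T, Xo * (e x * T * einv x) * Xi = e (σ x) * (Xo * T * Xi) * einv (σ x) := by
    intro x T
    obtain ⟨c, hc, hcv⟩ := hscal ⟨(a1 : X) * sec x * (a1 : X)⁻¹, hconj' _ a1.2 _ (sec x).2⟩ ⟨v1, hv1μ, hv1l⟩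
    rw [← hσsec x] at hcv
    refine LinearMap.ext fun v => Subtype.ext ?_
    simp only [Module.End.mul_apply, hev]
    set u0 : E := Xo (einv x (Xi v))
    have h1 : einv (σ x) v = c⁻¹ • u0 := Subtype.ext (by
      rw [heiv, (hcv v).2, Submodule.coe_smul]
      congr 1
      show _ = ρ (a1 : X) (ρ (sec x : X)⁻¹ (ρ (a1 : X)⁻¹ v))
      rw [← Module.End.mul_apply, ← Module.End.mul_apply, ← map_mul, ← map_mul]
      congr 2
      show ((a1 : X) * sec x * (a1 : X)⁻¹)⁻¹ = _
      group)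
    have h3 : Xi u0 = einv x (Xi v) := by
      show Xi (Xo (einv x (Xi v))) = _
      rw [← Module.End.mul_apply, hXX', Module.End.one_apply]
    rw [(hcv _).1, h1, map_smul, h3, map_smul, map_smul, Submodule.coe_smul, map_smul, smul_smul,
      mul_inv_cancel₀ hc, one_smul]
    show ρ (a1 : X) (ρ (sec x : X) (T (einv x (Xi v)) : V)) =
      ρ ((a1 : X) * sec x * (a1 : X)⁻¹) (ρ (a1 : X) (T (einv x (Xi v)) : V))
    simp only [← Module.End.mul_apply, ← map_mul, inv_mul_cancel_right]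
  have h4 := index_le_four hp hp2 e einv he he' χ hχ hχmul hχne hχnd hcj hNM h2 σ hσp Xo Xi hXX hXX'
    hqE hχσ hXe
  -- the displacement group has at most four elements
  let δ : (U ⧸ Kl.subgroupOf U) →* (U ⧸ Kl.subgroupOf U) := σ.toMonoidHom / MonoidHom.id (U ⧸ Kl.subgroupOf U)
  have hδ : ∀ x, δ x = σ x / x := fun x => rfl
  have hδcard : Nat.card δ.range ≤ 4 := by
    have h5 : Nat.card (U ⧸ Kl.subgroupOf U) = Nat.card δ.range * Nat.card δ.ker := by
      rw [Subgroup.card_eq_card_quotient_mul_card_subgroup δ.ker,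
        Nat.card_congr (QuotientGroup.quotientKerEquivRange δ).toEquiv]
    have h6 : Nat.card {x : (U ⧸ Kl.subgroupOf U) // σ x = x} = Nat.card δ.ker := Nat.card_congr
      (Equiv.subtypeEquivRight fun x => by rw [MonoidHom.mem_ker, hδ, div_eq_one])
    rw [h6, h5] at h4
    exact Nat.le_of_mul_le_mul_right h4 Nat.card_pos
  have hcentral : ∀ (b : B) (x : (U ⧸ Kl.subgroupOf U)), b • a1 • x = a1 • b • x := by
    intro b x
    exact Equiv.congr_fun (congrArg Subtype.val (mem_center_iff.1 haec (fB.rangeRestrict b))) x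
  have hsmulmul : ∀ (b : B) (x y : (U ⧸ Kl.subgroupOf U)), b • (x * y) = (b • x) * (b • y) := fun b x y => map_mul (τ b) x y
  have hsmuldiv : ∀ (b : B) (x y : (U ⧸ Kl.subgroupOf U)), b • (x / y) = (b • x) / (b • y) := fun b x y => map_div (τ b) x y
  letI : MulAction B δ.range :=
    { smul := fun b d => ⟨b • (d : (U ⧸ Kl.subgroupOf U)), by
        obtain ⟨x, hx⟩ := d.2
        refine ⟨b • x, ?_⟩
        rw [← hx, hδ, hδ, hsmuldiv, hσap, hσap, hcentral]⟩
      one_smul := fun d => Subtype.ext (one_smul B (d : (U ⧸ Kl.subgroupOf U)))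
      mul_smul := fun b b' d => Subtype.ext (mul_smul b b' (d : (U ⧸ Kl.subgroupOf U))) }
  have ha1' : a1 ∈ _root_.commutator B := by
    have h7 : (⁅B, B⁆ : Subgroup X).subgroupOf B = _root_.commutator B := by
      rw [subgroupOf, ← map_subtype_commutator, comap_map_eq_self_of_injective B.subtype_injective]
    exact h7.le (mem_subgroupOf.2 (hA' ha1A))
  have hfixD : ∀ x : (U ⧸ Kl.subgroupOf U), σ (δ x) = δ x := fun x =>
    congrArg Subtype.val (commutator_fix_of_small (B := B) (α := δ.range)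
      (by obtain ⟨j, hj⟩ := IsPGroup.iff_card.1 hBp; rw [hj]; exact hodd.pow) (1 : δ.range)
      (fun b => Subtype.ext (map_one (τ b))) hδcard ha1' ⟨δ x, x, rfl⟩)
  apply hae1
  refine Subtype.ext (Equiv.ext fun x => ?_)
  show a1 • x = x
  have hpow' : ∀ k : ℕ, (σ ^ k) x = x * (δ x) ^ k := by
    intro k
    induction k with
    | zero => rw [pow_zero, pow_zero, mul_one]; rfl
    | succ k ih =>
      rw [pow_succ', MulAut.mul_apply, ih, map_mul, map_pow, hfixD,
        show σ x = x * δ x by rw [hδ, mul_div_cancel], pow_succ' (δ x), mul_assoc]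
  have h8 := hpow' p
  rw [hσp] at h8
  have h9 : δ x ^ p = 1 := mul_eq_left.1 h8.symm
  have h10 : δ x = 1 := by
    obtain ⟨t, ht⟩ := hodd
    rwa [ht, pow_succ, pow_mul, hMsq, one_pow, one_mul] at h9
  rw [hδ, div_eq_one] at h10
  exact h10

end CfsgLib.Core.QuadDerived
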