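import Mathlib
import Cfsg.Agent.Lib.Core.HHCritical.QuadraticDerived
import Cfsg.Agent.Lib.Core.HHCritical.ModuleForm
import Cfsg.Agent.Lib.PGroups.FrattiniModule
import Cfsg.Agent.Lib.Transfer.CoprimeAut

/-!
# The last term of a derived series of a `p`-subgroup, `p` odd

* `quadratic_derived_le_pCore`: in a `p`-soluble group with `O_{p'} = 1`, if `B` is a `p`-group
  normalised by `O_p` and `A = [B, B]` is abelian and normalised by `O_p`, then `A ≤ O_p`
-/

set_option autoImplicit false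
set_option linter.all false

namespace CfsgLib.Core.HHCritical

open Subgroup CfsgLib.Core
open scoped TensorProduct commutatorElement

universe u

theorem eq_one_of_pow_prime {X : Type*} [Group X] {p q : ℕ} (hp : p.Prime) (hq : q.Prime)
    (hpq : p ≠ q) {S : Subgroup X} (hS : IsPGroup q S) {c : X} (hc : c ∈ S) (hcp : c ^ p = 1) :
    c = 1 := by
  obtain ⟨j, hj⟩ := hS ⟨c, hc⟩
  have hj' : c ^ q ^ j = 1 := congrArg Subtype.val hj
  have h := pow_gcd_eq_one.mpr (⟨hcp, hj'⟩ : c ^ p = 1 ∧ c ^ q ^ j = 1)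
  rwa [(((Nat.coprime_primes hp hq).2 hpq).pow_right j).gcd_eq_one, pow_one] at h

/-- A quadratic element of order `p` centralises an element it moves by one it fixes. -/
theorem eq_one_of_conj_eq {X : Type*} [Group X] {p q : ℕ} (hp : p.Prime) (hq : q.Prime)
    (hpq : p ≠ q) {S : Subgroup X} (hS : IsPGroup q S) {a u c : X} (hc : c ∈ S)
    (hap : a ^ p = 1) (hac : a * c = c * a) (hau : a * u = c * u * a) : c = 1 := by
  have h : ∀ k : ℕ, a ^ k * u = c ^ k * u * a ^ k := by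
    intro k
    induction k with
    | zero => simp
    | succ k ih =>
      have e : a * c ^ k = c ^ k * a := Commute.pow_right hac k
      calc a ^ (k + 1) * u = a * (a ^ k * u) := by rw [pow_succ', mul_assoc]
        _ = a * c ^ k * u * a ^ k := by rw [ih]; group
        _ = c ^ k * (a * u) * a ^ k := by rw [e]; group
        _ = c ^ k * c * u * (a * a ^ k) := by rw [hau]; group
        _ = c ^ (k + 1) * u * a ^ (k + 1) := by rw [← pow_succ, ← pow_succ']
  have h1 := h p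
  rw [hap, one_mul, mul_one, eq_comm, mul_eq_right] at h1
  exact eq_one_of_pow_prime hp hq hpq hS hc h1

/-- A quadratic operator centralises a `q`-group it normalises, outside the exceptional case. -/
theorem commute_of_quad {X : Type u} [Group X] [Finite X] {p q : ℕ} [hp : Fact p.Prime]
    [hq : Fact q.Prime] (hp2 : p ≠ 2) (hpq : p ≠ q) {M : Type u} [AddCommGroup M] [Finite M]
    (hM : ∀ x : M, p • x = 0) (r0 : X →* AddMonoid.End M) (hinj : Function.Injective r0)
    {U : Subgroup X} (hU : IsPGroup q U) (hno : NoExc p q U) {x : X}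
    (hx : x ∈ normalizer (U : Set X)) (hq2 : (r0 x - 1) * (r0 x - 1) = 0) :
    x ^ p = 1 ∧ ∀ y ∈ U, x * y = y * x := by
  set D := r0 x - 1 with hD
  have hpzero : ∀ f : AddMonoid.End M, p • f = 0 := fun f => DFunLike.ext _ _ fun v => by
    have : ((p • f : AddMonoid.End M)) v = p • f v := rfl
    rw [this, hM]; rfl
  have hlin : ∀ k : ℕ, r0 x ^ k = 1 + k • D := by
    intro k
    induction k with
    | zero => simp
    | succ k ih =>
      rw [pow_succ, ih, show r0 x = 1 + D by rw [hD]; abel, add_mul, one_mul, mul_add, mul_one,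
        smul_mul_assoc, hq2, nsmul_zero, add_zero, succ_nsmul]
      abel
  have hxp : x ^ p = 1 := hinj (by rw [map_pow, map_one, hlin, hpzero, add_zero])
  refine ⟨hxp, fun y hy => ?_⟩
  let θ : MulAut U := U.normalizerMonoidHom ⟨x, hx⟩
  have hθc : ∀ (k : ℕ) (b : U), (((θ ^ k) b : U) : X) = x ^ k * b * (x ^ k)⁻¹ := by
    intro k b
    simp only [θ, ← map_pow]
    rfl
  have hN : ∑ i ∈ Finset.range (p ^ (0 + 1)), r0 x ^ i = 0 := by
    rw [zero_add, pow_one, Finset.sum_congr rfl fun i _ => hlin i, Finset.sum_add_distrib,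
      Finset.sum_const, Finset.card_range, hpzero, zero_add, ← Finset.sum_smul]
    obtain ⟨t, ht⟩ := hp.out.odd_of_ne_two hp2
    have h2 := Finset.sum_range_id_mul_two p
    have h3 : (∑ i ∈ Finset.range p, i) = p * t := by
      rw [ht] at h2 ⊢
      simp only [Nat.add_sub_cancel] at h2
      linarith
    rw [h3, mul_comm, mul_nsmul, hpzero]
  have h := fixed_of_norm_eq_zero' (m := 0) hp2 hpq hM hU hno (r0.comp U.subtype) θ
    (MulEquiv.ext fun b => Subtype.ext (by rw [hθc, zero_add, pow_one, hxp]; simp)) (r0 x)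
    (fun b => by
      show r0 x * r0 b = r0 _ * r0 x
      rw [← map_mul, ← map_mul]
      congr 1
      have e := hθc 1 b
      simp only [pow_one] at e
      show x * b = ((θ b : U) : X) * x
      rw [e, inv_mul_cancel_right]) hN ⟨y, hy⟩
  have h' := hinj h
  rw [Subgroup.subtype_apply, Subgroup.subtype_apply, hθc, pow_zero, pow_one,
    mul_inv_eq_iff_eq_mul] at h'
  exact h'

/-- The crucial step. -/
theorem quadratic_derived_le_pCore {H : Type u} [Group H] [Finite H] {p : ℕ} [hp : Fact p.Prime]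
    (hp2 : p ≠ 2) (hsol : Cfsg.IsPSolvable p H) (hO : Cfsg.pPrimeCore p H = ⊥)
    {A B : Subgroup H} (hB : IsPGroup p B) (hAB : A ≤ B) (hA' : A ≤ ⁅B, B⁆) (hBB : ⁅B, B⁆ ≤ A)
    (hBA : B ≤ normalizer (A : Set H)) (hAab : ∀ a ∈ A, ∀ a' ∈ A, a * a' = a' * a)
    (hBR : ∀ b ∈ B, ∀ v ∈ Cfsg.pCore p H, ⁅b, v⁆ ∈ B)
    (hAR : ∀ a ∈ A, ∀ v ∈ Cfsg.pCore p H, ⁅a, v⁆ ∈ A) :
    A ≤ Cfsg.pCore p H := by
  classical
  obtain ⟨Φ, hΦn, V, hVn, hVR, hΦR, hVc, hVp, hCV, hOX⟩ := CfsgLib.PGroups.frattini_module hsol hO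
  set ψ := QuotientGroup.mk' Φ with hψ
  have hψs := QuotientGroup.mk'_surjective Φ
  set π := QuotientGroup.mk' V with hπ
  set κ := π.comp ψ with hκ
  -- the faithful module
  letI : CommGroup V :=
    { (inferInstance : Group V) with mul_comm := fun v w => Subtype.ext (hVc v v.2 w w.2) }
  let c : (H ⧸ Φ) →* AddMonoid.End (Additive V) :=
    { toFun := fun x => MonoidHom.toAdditive (MulAut.conjNormal x : MulAut V).toMonoidHom
      map_one' := by rw [map_one]; rfl
      map_mul' := fun x y => by rw [map_mul]; rfl }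
  have hc : ∀ (x : H ⧸ Φ) (v : V),
      ((Additive.toMul (c x (Additive.ofMul v)) : V) : H ⧸ Φ) = x * v * x⁻¹ :=
    fun x v => MulAut.conjNormal_apply x v
  have hker : V ≤ c.ker := fun x hx => DFunLike.ext _ _ fun v => by
    apply Additive.toMul.injective
    apply Subtype.ext
    show ((Additive.toMul (c x (Additive.ofMul (Additive.toMul v))) : V) : H ⧸ Φ) = _
    rw [hc, hVc x hx _ (Additive.toMul v).2, mul_inv_cancel_right]; rfl
  let r0 : (H ⧸ Φ) ⧸ V →* AddMonoid.End (Additive V) := QuotientGroup.lift V c hker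
  have hinj : Function.Injective r0 := by
    rw [← MonoidHom.ker_eq_bot_iff, Subgroup.eq_bot_iff_forall]
    intro g hg
    obtain ⟨x, rfl⟩ := QuotientGroup.mk'_surjective V g
    refine (QuotientGroup.eq_one_iff x).mpr (hCV (mem_centralizer_iff.mpr fun v hv => ?_))
    have h1 := hc x ⟨v, hv⟩
    rw [show c x = 1 from hg] at h1
    exact (mul_inv_eq_iff_eq_mul.mp h1.symm).symm
  have hMp : ∀ x : Additive V, p • x = 0 := fun w =>
    Additive.toMul.injective (Subtype.ext (by simpa using hVp _ (Additive.toMul w).2))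
  have hVR' : ∀ r ∈ Cfsg.pCore p H, ψ r ∈ V := fun r hr => hVR.ge hr
  have hRc : ∀ (h : H), ∀ r ∈ Cfsg.pCore p H, ⁅h, r⁆ ∈ Cfsg.pCore p H := fun h r hr => by
    rw [commutatorElement_def]
    exact mul_mem ((normal_pCore p H).conj_mem r hr h) (inv_mem hr)
  -- displacements are commutators
  have hdisp : ∀ (h : H) (r : H) (hr : r ∈ Cfsg.pCore p H),
      (r0 (κ h) - 1) (Additive.ofMul (⟨ψ r, hVR' r hr⟩ : V)) =
        Additive.ofMul (⟨ψ ⁅h, r⁆, hVR' _ (hRc h r hr)⟩ : V) := by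
    intro h r hr
    apply Additive.toMul.injective
    apply Subtype.ext
    rw [show ∀ w, (r0 (κ h) - 1) w = r0 (κ h) w - w from fun w => rfl, toMul_sub, Subgroup.coe_div,
      div_eq_mul_inv]
    show ((Additive.toMul (c (ψ h) (Additive.ofMul (⟨ψ r, hVR' r hr⟩ : V))) : V) : H ⧸ Φ) * (ψ r)⁻¹ =
      ψ ⁅h, r⁆
    rw [hc, commutatorElement_def, map_mul, map_mul, map_mul, map_inv, map_inv]
  have hq : ∀ a ∈ A, (r0 (κ a) - 1) * (r0 (κ a) - 1) = 0 := by
    intro a ha
    refine DFunLike.ext _ _ fun w => ?_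
    obtain ⟨⟨y, hy⟩, rfl⟩ := Additive.ofMul.surjective w
    obtain ⟨r, rfl⟩ := hψs y
    have hr : r ∈ Cfsg.pCore p H := hVR.le hy
    show (r0 (κ a) - 1) ((r0 (κ a) - 1) (Additive.ofMul (⟨ψ r, hVR' r hr⟩ : V))) = 0
    rw [hdisp a r hr, hdisp a _ (hRc a r hr)]
    refine Additive.toMul.injective (Subtype.ext ?_)
    show ψ ⁅a, ⁅a, r⁆⁆ = 1
    rw [commutatorElement_eq_one_iff_mul_comm.2 (hAab a ha _ (hAR a ha r hr)), map_one]
  have hkill : ∀ a ∈ A, ∀ b ∈ B,
      (r0 (κ a) - 1) * ((r0 (κ b) - 1) * (r0 (κ b) - 1)) = 0 := by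
    intro a ha b hb
    refine DFunLike.ext _ _ fun w => ?_
    obtain ⟨⟨y, hy⟩, rfl⟩ := Additive.ofMul.surjective w
    obtain ⟨r, rfl⟩ := hψs y
    have hr : r ∈ Cfsg.pCore p H := hVR.le hy
    show (r0 (κ a) - 1) ((r0 (κ b) - 1) ((r0 (κ b) - 1) (Additive.ofMul (⟨ψ r, hVR' r hr⟩ : V)))) = 0
    rw [hdisp b r hr, hdisp b _ (hRc b r hr), hdisp a _ (hRc b _ (hRc b r hr))]
    refine Additive.toMul.injective (Subtype.ext ?_)
    show ψ ⁅a, ⁅b, ⁅b, r⁆⁆⁆ = 1
    rw [commutatorElement_eq_one_iff_mul_comm.2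
      (hAab a ha _ (hBB (commutator_mem_commutator hb (hBR b hb r hr)))), map_one]
  -- the linear representation over an algebraically closed field
  haveI : Module (ZMod p) (Additive V) := AddCommGroup.zmodModule hMp
  let K := AlgebraicClosure (ZMod p)
  obtain ⟨ee, hee⟩ : ∃ e : AddMonoid.End (Additive V) → Module.End (ZMod p) (Additive V),
      ∀ f v, e f v = f v :=
    ⟨fun f => AddMonoidHom.toZModLinearMap p (f : Additive V →+ Additive V), fun f v => rfl⟩
  let lin : AddMonoid.End (Additive V) →+* Module.End (ZMod p) (Additive V) :=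
    { toFun := ee
      map_one' := LinearMap.ext fun v => by rw [hee, Module.End.one_apply]; rfl
      map_mul' := fun f g => LinearMap.ext fun v => by rw [Module.End.mul_apply, hee, hee, hee]; rfl
      map_zero' := LinearMap.ext fun v => by rw [hee, LinearMap.zero_apply]; rfl
      map_add' := fun f g => LinearMap.ext fun v => by rw [LinearMap.add_apply, hee, hee, hee]; rfl }
  let ι : AddMonoid.End (Additive V) →+* Module.End K (K ⊗[ZMod p] Additive V) :=
    ((Module.End.baseChangeHom (ZMod p) K (Additive V)).toRingHom).comp lin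
  have hι : Function.Injective ι := by
    obtain ⟨l, hl⟩ := LinearMap.exists_leftInverse_of_injective (Algebra.linearMap (ZMod p) K)
      (LinearMap.ker_eq_bot.2 (algebraMap (ZMod p) K).injective)
    have hl1 : l 1 = 1 := by simpa using LinearMap.congr_fun hl 1
    have hmk : Function.Injective fun v : Additive V => (1 : K) ⊗ₜ[ZMod p] v := fun v w h => by
      have := congrArg (fun x => TensorProduct.lid (ZMod p) (Additive V) (l.rTensor (Additive V) x)) h
      simpa [hl1] using this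
    intro f g h
    refine DFunLike.ext _ _ fun v => hmk ?_
    have h' := LinearMap.congr_fun h ((1 : K) ⊗ₜ v)
    change (1 : K) ⊗ₜ[ZMod p] (ee f v) = (1 : K) ⊗ₜ[ZMod p] (ee g v) at h'
    rwa [hee, hee] at h'
  have h2K : (2 : K) ≠ 0 := by
    haveI : CharP K p := inferInstance
    intro h
    have h' : ((2 : ℕ) : K) = 0 := by exact_mod_cast h
    rw [CharP.cast_eq_zero_iff K p] at h'
    exact hp2 ((Nat.prime_dvd_prime_iff_eq hp.out Nat.prime_two).1 h')
  let ρ : (H ⧸ Φ) ⧸ V →* Module.End K (K ⊗[ZMod p] Additive V) := ι.toMonoidHom.comp r0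
  have hρinj : Function.Injective ρ := hι.comp hinj
  have hρd : ∀ x, ρ x - 1 = ι (r0 x - 1) := fun x => by
    have h2 := map_sub ι.toAddMonoidHom (r0 x) 1
    simp only [RingHom.toAddMonoidHom_eq_coe, AddMonoidHom.coe_coe] at h2
    rw [map_one ι] at h2
    exact h2.symm
  -- the images
  set Am := A.map κ with hAm
  set Bm := B.map κ with hBm
  have hBmp : IsPGroup p Bm := hB.map κ
  have hAmp : IsPGroup p Am := (hB.to_le hAB).map κ
  set Q := Cfsg.pPrimeCore p ((H ⧸ Φ) ⧸ V) with hQ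
  have hQc : (Nat.card Q).Coprime p := coprime_card_pPrimeCore p _
  have hsolX : Cfsg.IsPSolvable p ((H ⧸ Φ) ⧸ V) :=
    CfsgLib.PLocal.isPSolvable_quotient (CfsgLib.PLocal.isPSolvable_quotient hsol Φ) V
  have hcop : (Nat.card Bm).Coprime (Nat.card Q) := by
    obtain ⟨j, hj⟩ := IsPGroup.iff_card.1 hBmp
    rw [hj]; exact hQc.symm.pow_left j
  haveI := hBmp.isNilpotent
  have hBmQ : Bm ≤ normalizer (Q : Set ((H ⧸ Φ) ⧸ V)) := le_normalizer_of_normal Bm Q
  have hsyl : ∀ (q : ℕ) [Fact q.Prime] (S : Sylow q Q),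
      Bm ≤ normalizer ((S : Subgroup Q).map Q.subtype : Set ((H ⧸ Φ) ⧸ V)) →
      ∀ a ∈ Am, ∀ s ∈ (S : Subgroup Q).map Q.subtype, a * s = s * a := by
    intro q hq' S hSN a ha s hs
    set S' := (S : Subgroup Q).map Q.subtype with hS'
    have hS'q : IsPGroup q S' := S.2.map _
    by_cases hqp : p = q
    · subst hqp
      have hS1 : S' = ⊥ := by
        obtain ⟨j, hj⟩ := IsPGroup.iff_card.1 hS'q
        rcases j with _ | j
        · exact Subgroup.eq_bot_of_card_eq S' (by rw [hj, pow_zero])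
        · exfalso
          have h1 : p ∣ Nat.card Q := (dvd_pow_self p j.succ_ne_zero).trans
            (hj ▸ Subgroup.card_dvd_of_le (map_subtype_le _))
          exact hp.out.ne_one (Nat.Coprime.eq_one_of_dvd hQc.symm h1)
      rw [hS1, Subgroup.mem_bot] at hs
      rw [hs, mul_one, one_mul]
    obtain ⟨a0, ha0, rfl⟩ := ha
    have haB : κ a0 ∈ Bm := mem_map_of_mem κ (hAB ha0)
    by_cases hq2 : q = 2
    swap
    · exact (commute_of_quad hp2 hqp hMp r0 hinj hS'q (Or.inr fun h => absurd h hq2) (hSN haB)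
        (hq a0 ha0)).2 s hs
    subst hq2
    -- a critical subgroup
    obtain ⟨C, hCc, hCf, hcl, hself⟩ := CfsgLib.Transfer.exists_critical hS'q
    set C' := C.map S'.subtype with hC'
    have hC'2 : IsPGroup 2 C' := (hS'q.to_subgroup C).map _
    have hBC : Bm ≤ normalizer (C' : Set ((H ⧸ Φ) ⧸ V)) := by
      rw [le_normalizer_iff]
      rintro b hb _ ⟨y, hy, rfl⟩
      let φ : MulAut S' := S'.normalizerMonoidHom ⟨b, hSN hb⟩
      exact ⟨φ y, (hCc.fixed φ).ge hy, rfl⟩
    have hcen : ∀ u ∈ C', ∀ u' ∈ C', ∀ w ∈ C', ⁅u, u'⁆ * w = w * ⁅u, u'⁆ := by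
      rintro _ ⟨u, hu, rfl⟩ _ ⟨u', hu', rfl⟩ _ ⟨w, hw, rfl⟩
      have h := mem_centralizer_iff.1 (hcl (commutator_mem_commutator hu (mem_top u'))).2 w hw
      rw [← map_commutatorElement, ← map_mul, ← map_mul, h]
    have hsq : ∀ u ∈ C', ∀ w ∈ C', u * u * w = w * (u * u) := by
      rintro _ ⟨u, hu, rfl⟩ _ ⟨w, hw, rfl⟩
      have h1 := hCf (mem_map_of_mem C.subtype
        (CfsgLib.PGroups.pow_mem_frattini (hS'q.to_subgroup C) (⟨u, hu⟩ : C)))
      have h := mem_centralizer_iff.1 h1 w hw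
      rw [Subgroup.subtype_apply, coe_pow, pow_two] at h
      rw [← map_mul, ← map_mul, ← map_mul, h]
    have hAmB : Am ≤ Bm := map_mono hAB
    have hAm' : Am ≤ ⁅Bm, Bm⁆ := (map_mono hA').trans (map_commutator B B κ).le
    have hBmA : Bm ≤ normalizer (Am : Set ((H ⧸ Φ) ⧸ V)) := by
      rw [le_normalizer_iff]
      rintro _ ⟨b, hb, rfl⟩ _ ⟨y, hy, rfl⟩
      exact ⟨b * y * b⁻¹, (mem_normalizer_iff.1 (hBA hb) y).1 hy, by rw [map_mul, map_mul, map_inv]⟩
    have hcomm := QuadDerived.commute_of_quad_commutator hp.out hp2 h2K ρ hρinj hBmp hAmB hAm' hBmA hBC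
      hcen hsq
      (by
        rintro _ ⟨x, hx, rfl⟩
        rw [hρd, ← RingHom.map_mul, hq x hx, RingHom.map_zero])
      (by
        rintro _ ⟨x, hx, rfl⟩ _ ⟨b, hb, rfl⟩
        rw [hρd, hρd, ← RingHom.map_mul, ← RingHom.map_mul, hkill x hx b hb, RingHom.map_zero])
    set Z := C' ⊓ centralizer (C' : Set ((H ⧸ Φ) ⧸ V)) with hZ
    have hBZ : Bm ≤ normalizer (Z : Set ((H ⧸ Φ) ⧸ V)) := by
      rw [le_normalizer_iff]
      intro b hb z hz
      refine Subgroup.mem_inf.2 ⟨(mem_normalizer_iff.1 (hBC hb) z).1 hz.1,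
        mem_centralizer_iff.2 fun y hy => ?_⟩
      have hy' : b⁻¹ * y * b⁻¹⁻¹ ∈ C' := (mem_normalizer_iff.1 (hBC (Bm.inv_mem hb)) y).1 hy
      have h := mem_centralizer_iff.1 hz.2 _ hy'
      calc y * (b * z * b⁻¹) = b * (b⁻¹ * y * b⁻¹⁻¹ * z) * b⁻¹ := by group
        _ = b * (z * (b⁻¹ * y * b⁻¹⁻¹)) * b⁻¹ := by rw [h]
        _ = b * z * b⁻¹ * y := by group
    obtain ⟨hap, hfixZ⟩ := commute_of_quad (q := 2) hp2 hqp hMp r0 hinj (hC'2.to_le inf_le_left)
      (Or.inr fun _ u v => Subtype.ext (mem_centralizer_iff.1 v.2.2 u u.2.1))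
      (hBZ haB) (hq a0 ha0)
    -- `κ a0` centralises the critical subgroup
    have hfixC : ∀ y ∈ C', κ a0 * y = y * κ a0 := by
      intro y hy
      have hcmem : ⁅κ a0, y⁆ ∈ C' := by
        rw [commutatorElement_def]
        exact mul_mem ((mem_normalizer_iff.1 (hBC haB) y).1 hy) (inv_mem hy)
      have hcZ : ⁅κ a0, y⁆ ∈ Z := Subgroup.mem_inf.2 ⟨hcmem, mem_centralizer_iff.2 fun w hw =>
        (hcomm _ (mem_map_of_mem κ ha0) y hy w hw).symm⟩
      exact commutatorElement_eq_one_iff_mul_comm.1 (eq_one_of_conj_eq hp.out Nat.prime_two hqp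
        hC'2 hcmem hap (hfixZ _ hcZ) (u := y) (by rw [commutatorElement_def]; group))
    -- and hence the whole Sylow subgroup
    have hnorm : ∀ y ∈ C', ∀ t ∈ S', t * y * t⁻¹ ∈ C' := by
      rintro _ ⟨y, hy, rfl⟩ t ht
      haveI := hCc
      exact ⟨⟨t, ht⟩ * y * (⟨t, ht⟩ : S')⁻¹, (inferInstance : C.Normal).conj_mem y hy _, rfl⟩
    set d := ⁅κ a0, s⁆ with hd
    have hdS : d ∈ S' := by
      rw [hd, commutatorElement_def]
      exact mul_mem ((mem_normalizer_iff.1 (hSN haB) s).1 hs) (inv_mem hs)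
    have hdC : d ∈ centralizer (C' : Set ((H ⧸ Φ) ⧸ V)) := by
      rw [mem_centralizer_iff]
      intro y hy
      have h1 := hfixC _ (hnorm y hy s⁻¹ (inv_mem hs))
      rw [inv_inv] at h1
      have h2 := hfixC y hy
      rw [hd, commutatorElement_def]
      have h3 : κ a0 * (s⁻¹ * y * s) * (κ a0)⁻¹ = s⁻¹ * y * s := by rw [h1, mul_inv_cancel_right]
      have h4 : κ a0 * y * (κ a0)⁻¹ = y := by rw [h2, mul_inv_cancel_right]
      calc y * (κ a0 * s * (κ a0)⁻¹ * s⁻¹)
          = κ a0 * y * (κ a0)⁻¹ * (κ a0 * s * (κ a0)⁻¹ * s⁻¹) := by rw [h4]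
        _ = κ a0 * s * (κ a0)⁻¹ * (κ a0 * (s⁻¹ * y * s) * (κ a0)⁻¹) * s⁻¹ := by group
        _ = κ a0 * s * (κ a0)⁻¹ * s⁻¹ * y := by rw [h3]; group
    have hdC' : d ∈ C' := by
      refine ⟨⟨d, hdS⟩, hself (mem_centralizer_iff.2 fun y hy => Subtype.ext ?_), rfl⟩
      exact mem_centralizer_iff.1 hdC _ (mem_map_of_mem S'.subtype hy)
    exact commutatorElement_eq_one_iff_mul_comm.1 (eq_one_of_conj_eq hp.out Nat.prime_two hqp
      hC'2 hdC' hap (hfixC d hdC') (u := s) (by rw [commutatorElement_def]; group))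
  -- `A` centralises `O_{p'}`
  intro a0 ha0
  refine hVR.le ?_
  show ψ a0 ∈ V
  rw [← QuotientGroup.eq_one_iff (N := V)]
  show κ a0 = 1
  have haA : κ a0 ∈ Am := mem_map_of_mem κ ha0
  have hc' : κ a0 ∈ centralizer (Q : Set ((H ⧸ Φ) ⧸ V)) := by
    have htop : (centralizer ({κ a0} : Set ((H ⧸ Φ) ⧸ V))).subgroupOf Q = ⊤ := by
      refine Subgroup.eq_top_of_card_eq _ (Nat.dvd_antisymm (Subgroup.card_subgroup_dvd_card _) ?_)
      refine (Nat.dvd_iff_prime_pow_dvd_dvd _ _).mpr fun q k hq hk => ?_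
      haveI := Fact.mk hq
      obtain ⟨S, hS⟩ := exists_invariant_sylow hBmQ hcop (Or.inl inferInstance) q
      refine (S.pow_dvd_card_of_pow_dvd_card hk).trans (Subgroup.card_dvd_of_le fun s hs => ?_)
      rw [mem_subgroupOf, mem_centralizer_singleton_iff]
      exact (hsyl q S hS _ haA _ (mem_map_of_mem _ hs)).symm
    rw [mem_centralizer_iff]
    intro y hy
    have h1 : (⟨y, hy⟩ : Q) ∈ (centralizer ({κ a0} : Set ((H ⧸ Φ) ⧸ V))).subgroupOf Q :=
      htop.ge (mem_top _)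
    rw [mem_subgroupOf, mem_centralizer_singleton_iff] at h1
    exact h1
  have h1 := CfsgLib.PGroups.centralizer_pPrimeCore_le hsolX hOX hc'
  obtain ⟨j, hj⟩ := hAmp ⟨_, haA⟩
  have hj' : κ a0 ^ p ^ j = 1 := congrArg Subtype.val hj
  have h3 := pow_gcd_eq_one.mpr (⟨orderOf_dvd_iff_pow_eq_one.mp (Subgroup.orderOf_dvd_natCard Q h1),
    hj'⟩ : κ a0 ^ Nat.card Q = 1 ∧ κ a0 ^ p ^ j = 1)
  rwa [(hQc.pow_right j).gcd_eq_one, pow_one] at h3

end CfsgLib.Core.HHCritical
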