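import Mathlib
import Cfsg.Agent.Lib.Core.HHCritical.TheoremB
import Cfsg.Agent.Lib.Core.HHCritical.QuadraticDerived
import Cfsg.Agent.Lib.PGroups.Basic

/-!
# Displacement of the top of an element with small minimal polynomial

* `exists_fixing_power`: a power fixing a system of eigenvalues inherits a vanishing norm
* `card_le_sq_mul_fixed`: if conjugation of order `P = p ^ (m + 1)` has minimal polynomial of degree
  `< P` then the top moves at most `(P - 1) ^ 2` classes
* `commute_of_small_displacement`: such a top lies in the centraliser of every normalised abelian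
  `p`-group of automorphisms
-/

set_option autoImplicit false
set_option linter.all false

namespace CfsgLib.Core.HHTop

open Subgroup
open scoped TensorProduct commutatorElement

/-- A set of exponents closed under addition and containing `P = p ^ n` contains the `p`-part. -/
theorem ppow_mem {p n k : ℕ} (hp : p.Prime) (St : Set ℕ) (hadd : ∀ a ∈ St, ∀ b ∈ St, a + b ∈ St)
    (h0 : 0 ∈ St) (hmod : ∀ a b, a % p ^ n = b % p ^ n → a ∈ St → b ∈ St) (hk : k ∈ St)
    (hkP : ¬ p ^ n ∣ k) : ∃ i < n, p ^ i ∣ k ∧ p ^ i ∈ St := by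
  obtain ⟨i, hin, hi⟩ := (Nat.dvd_prime_pow hp).1 (Nat.gcd_dvd_right k (p ^ n))
  have hlt : i < n := lt_of_le_of_ne hin fun h => hkP (by rw [← h, ← hi]; exact Nat.gcd_dvd_left _ _)
  refine ⟨i, hlt, by rw [← hi]; exact Nat.gcd_dvd_left _ _, ?_⟩
  have hmul : ∀ j, k * j ∈ St := by
    intro j
    induction j with
    | zero => rwa [mul_zero]
    | succ j ih => rw [mul_add, mul_one]; exact hadd _ ih _ hk
  have hltP : p ^ i < p ^ n := Nat.pow_lt_pow_right hp.one_lt hlt
  obtain ⟨j, -, hj⟩ := Nat.exists_mul_mod_eq_gcd (k := p ^ n) (n := k) (by rw [hi]; exact hltP)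
  exact hmod _ _ (by rw [hj, hi, Nat.mod_eq_of_lt hltP]) (hmul j)

theorem sum_range_mul {A : Type*} [AddCommMonoid A] (F : ℕ → A) (q n : ℕ) :
    ∑ i ∈ Finset.range (q * n), F i = ∑ r ∈ Finset.range q, ∑ k ∈ Finset.range n, F (r + q * k) := by
  induction n with
  | zero => simp
  | succ n ih =>
    rw [mul_add, mul_one, Finset.sum_range_add, ih, ← Finset.sum_add_distrib]
    refine Finset.sum_congr rfl fun r _ => ?_
    rw [Finset.sum_range_succ, add_comm (q * n) r]

section Orbit

variable {X : Type*} [Group X] {K : Type*} [Field K] {V : Type*} [AddCommGroup V] [Module K V]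

open QuadDerived

/-- A power fixing a system of eigenvalues, the least one, inherits a vanishing norm. -/
theorem exists_fixing_power_min (ρ : X →* Module.End K V) {p m : ℕ} (hp : p.Prime) {g : X}
    (hgp : g ^ p ^ (m + 1) = 1) {S : Set X} (hg : ∀ s ∈ S, g⁻¹ * s * g ∈ S) (V' : Submodule K V)
    (hV' : ∀ v ∈ V', ρ g v ∈ V')
    (hN : ∀ v ∈ V', ∑ i ∈ Finset.range (p ^ (m + 1)), ρ (g ^ i) v = 0) {f : X → K} {v0 : V}
    (hv0 : v0 ∈ eig ρ S f) (hv0' : v0 ∈ V') (hne : v0 ≠ 0) :
    ∃ l ≤ m, (∀ s ∈ S, f ((g ^ p ^ l)⁻¹ * s * g ^ p ^ l) = f s) ∧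
      (∀ j < l, ¬ ∀ s ∈ S, f ((g ^ p ^ j)⁻¹ * s * g ^ p ^ j) = f s) ∧
      ∀ v ∈ eig ρ S f, v ∈ V' →
        ∑ k ∈ Finset.range (p ^ (m + 1 - l)), ρ ((g ^ p ^ l) ^ k) v = 0 := by
  classical
  have hSi : ∀ (i : ℕ) (s : X), s ∈ S → (g ^ i)⁻¹ * s * g ^ i ∈ S := by
    intro i
    induction i with
    | zero => intro s hs; simpa using hs
    | succ i ih =>
      intro s hs
      have h := hg _ (ih s hs)
      have e : (g ^ (i + 1))⁻¹ * s * g ^ (i + 1) = g⁻¹ * ((g ^ i)⁻¹ * s * g ^ i) * g := by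
        rw [pow_succ]; group
      rwa [e]
  let St : Set ℕ := {k | ∀ s ∈ S, f ((g ^ k)⁻¹ * s * g ^ k) = f s}
  have hadd : ∀ a ∈ St, ∀ b ∈ St, a + b ∈ St := fun a ha b hb s hs => by
    have e : (g ^ (a + b))⁻¹ * s * g ^ (a + b) = (g ^ b)⁻¹ * ((g ^ a)⁻¹ * s * g ^ a) * g ^ b := by
      rw [pow_add]; group
    rw [e, hb _ (hSi a s hs), ha s hs]
  have hpow : ∀ a, g ^ a = g ^ (a % p ^ (m + 1)) := fun a => by
    conv_lhs => rw [← Nat.mod_add_div a (p ^ (m + 1)), pow_add, pow_mul, hgp, one_pow, mul_one]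
  have hmod : ∀ a b, a % p ^ (m + 1) = b % p ^ (m + 1) → a ∈ St → b ∈ St := fun a b h ha s hs => by
    rw [hpow b, ← h, ← hpow a]; exact ha s hs
  have h0 : 0 ∈ St := fun s hs => by simp
  have htop : p ^ (m + 1) ∈ St := hmod 0 _ (by simp) h0
  have hex : ∃ l, p ^ l ∈ St := ⟨_, htop⟩
  set l := Nat.find hex with hl
  have hlmem : p ^ l ∈ St := Nat.find_spec hex
  have hlle : l ≤ m + 1 := Nat.find_min' hex htop
  -- the powers below `p ^ l` give distinct systems
  have hdist : ∀ r r', r < p ^ l → r' < p ^ l →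
      (∀ s ∈ S, f ((g ^ r)⁻¹ * s * g ^ r) = f ((g ^ r')⁻¹ * s * g ^ r')) → r = r' := by
    suffices h : ∀ r r', r ≤ r' → r' < p ^ l →
        (∀ s ∈ S, f ((g ^ r)⁻¹ * s * g ^ r) = f ((g ^ r')⁻¹ * s * g ^ r')) → r = r' by
      intro r r' h1 h2 h3
      rcases le_total r r' with h' | h'
      · exact h r r' h' h2 h3
      · exact (h r' r h' h1 fun s hs => (h3 s hs).symm).symm
    intro r r' hle hlt heq
    by_contra hrr
    have hP : p ^ l ≤ p ^ (m + 1) := Nat.pow_le_pow_right hp.pos hlle
    have hk : r' - r ∈ St := by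
      refine hmod (r' + (p ^ (m + 1) - r)) _ ?_ ?_
      · rw [show r' + (p ^ (m + 1) - r) = (r' - r) + p ^ (m + 1) by omega, Nat.add_mod_right]
      · intro s hs
        have e1 : ∀ t ∈ S, f ((g ^ r')⁻¹ * t * g ^ r') = f ((g ^ r)⁻¹ * t * g ^ r) := fun t ht =>
          (heq t ht).symm
        have e : (g ^ (r' + (p ^ (m + 1) - r)))⁻¹ * s * g ^ (r' + (p ^ (m + 1) - r)) =
            (g ^ r')⁻¹ * ((g ^ (p ^ (m + 1) - r))⁻¹ * s * g ^ (p ^ (m + 1) - r)) * g ^ r' := by
          rw [add_comm r', pow_add]; group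
        have e' : (g ^ r)⁻¹ * ((g ^ (p ^ (m + 1) - r))⁻¹ * s * g ^ (p ^ (m + 1) - r)) * g ^ r = s := by
          rw [show (g ^ r)⁻¹ * ((g ^ (p ^ (m + 1) - r))⁻¹ * s * g ^ (p ^ (m + 1) - r)) * g ^ r =
            (g ^ (p ^ (m + 1) - r) * g ^ r)⁻¹ * s * (g ^ (p ^ (m + 1) - r) * g ^ r) by group,
            ← pow_add, Nat.sub_add_cancel (by omega), hgp, inv_one, one_mul, mul_one]
        rw [e, e1 _ (hSi _ s hs), e']
    obtain ⟨i, him, hik, hiSt⟩ := ppow_mem hp St hadd h0 hmod hk
      (fun h => by have := Nat.le_of_dvd (by omega) h; omega)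
    have hi1 : p ^ i ≤ r' - r := Nat.le_of_dvd (by omega) hik
    have hi2 : l ≤ i := Nat.find_min' hex hiSt
    have := Nat.pow_le_pow_right hp.pos hi2
    omega
  -- split the norm by residues
  have hsplit : ∀ v ∈ eig ρ S f, v ∈ V' →
      ∑ k ∈ Finset.range (p ^ (m + 1 - l)), ρ ((g ^ p ^ l) ^ k) v = 0 := by
    intro v hv hv'
    let w : ℕ → V := fun r => ∑ k ∈ Finset.range (p ^ (m + 1 - l)), ρ (g ^ (r + p ^ l * k)) v
    let lam : ℕ → S → K := fun r s => f ((g ^ r)⁻¹ * (s : X) * g ^ r)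
    have hsum : ∑ r ∈ Finset.range (p ^ l), w r = 0 := by
      rw [← sum_range_mul (fun i => ρ (g ^ i) v), ← pow_add, Nat.add_sub_cancel' hlle]
      exact hN v hv'
    have hkS : ∀ k, p ^ l * k ∈ St := by
      intro k
      induction k with
      | zero => rwa [mul_zero]
      | succ k ih => rw [mul_add, mul_one]; exact hadd _ ih _ hlmem
    have hw : ∀ r ∈ Finset.range (p ^ l), ∀ s : S, ρ (s : X) (w r) = lam r s • w r := by
      intro r _ s
      rw [map_sum, Finset.smul_sum]
      refine Finset.sum_congr rfl fun k _ => ?_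
      refine (eig_conj ρ (hSi (r + p ^ l * k)) hv (s : X) s.2).trans ?_
      show f _ • _ = _
      congr 1
      have e : (g ^ (r + p ^ l * k))⁻¹ * (s : X) * g ^ (r + p ^ l * k) =
          (g ^ (p ^ l * k))⁻¹ * ((g ^ r)⁻¹ * s * g ^ r) * g ^ (p ^ l * k) := by
        rw [pow_add]; group
      rw [e, hkS k _ (hSi r s s.2)]
    have h := HHCritical.common_eigen_indep (fun s : S => ρ (s : X)) lam (Finset.range (p ^ l)) w
      (fun r hr r' hr' he => hdist r r' (Finset.mem_range.1 hr) (Finset.mem_range.1 hr')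
        fun s hs => congrFun he ⟨s, hs⟩) hw hsum 0 (Finset.mem_range.2 (pow_pos hp.pos l))
    rw [← h]
    refine Finset.sum_congr rfl fun k _ => ?_
    rw [zero_add, pow_mul]
  refine ⟨l, ?_, hlmem, fun j hj => Nat.find_min hex hj, hsplit⟩
  by_contra hlm
  have hlm' : l = m + 1 := by omega
  refine hne ?_
  have h := hsplit v0 hv0 hv0'
  rw [hlm', Nat.sub_self, pow_zero, Finset.sum_range_one, pow_zero, map_one, Module.End.one_apply] at h
  exact h

theorem exists_fixing_power (ρ : X →* Module.End K V) {p m : ℕ} (hp : p.Prime) {g : X}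
    (hgp : g ^ p ^ (m + 1) = 1) {S : Set X} (hg : ∀ s ∈ S, g⁻¹ * s * g ∈ S) (V' : Submodule K V)
    (hV' : ∀ v ∈ V', ρ g v ∈ V')
    (hN : ∀ v ∈ V', ∑ i ∈ Finset.range (p ^ (m + 1)), ρ (g ^ i) v = 0) {f : X → K} {v0 : V}
    (hv0 : v0 ∈ eig ρ S f) (hv0' : v0 ∈ V') (hne : v0 ≠ 0) :
    ∃ l ≤ m, (∀ s ∈ S, f ((g ^ p ^ l)⁻¹ * s * g ^ p ^ l) = f s) ∧
      ∀ v ∈ eig ρ S f, v ∈ V' →
        ∑ k ∈ Finset.range (p ^ (m + 1 - l)), ρ ((g ^ p ^ l) ^ k) v = 0 := by
  obtain ⟨l, hl, hf, -, hN'⟩ := exists_fixing_power_min ρ hp hgp hg V' hV' hN hv0 hv0' hne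
  exact ⟨l, hl, hf, hN'⟩

end Orbit

section Count

variable {K : Type*} [Field K] {V : Type*} [AddCommGroup V] [Module K V] [FiniteDimensional K V]

/-- The classes moved by the top. -/
theorem card_le_sq_mul_fixed {p m : ℕ} (hp : p.Prime) {M : Type*} [CommGroup M] [Finite M]
    (e : M → Module.End K V) (einv : M → Module.End K V) (he : ∀ v, e v * einv v = 1)
    (he' : ∀ v, einv v * e v = 1)
    (χ : M → M → K) (hχ : ∀ a v, e a * e v = χ a v • (e v * e a))
    (hχmul : ∀ a a' v, χ (a * a') v = χ a v * χ a' v)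
    (hχne : ∀ a v, χ a v ≠ 0)
    (hχnd : ∀ w, w ≠ 1 → ∃ b, χ b w ≠ 1)
    (hcj : ∀ a b T, e (a * b) * T * einv (a * b) = e a * (e b * T * einv b) * einv a)
    (hN : (Nat.card M : K) ≠ 0) (σ : MulAut M) (hσ : σ ^ p ^ (m + 1) = 1)
    (Xo Xi : Module.End K V) (hXX : Xo * Xi = 1) (hXX' : Xi * Xo = 1)
    (hq : (Xo - 1) ^ (p ^ (m + 1) - 1) = 0)
    (hχσ : ∀ a v, χ (σ a) (σ v) = χ a v)
    (hXe : ∀ a T, Xo * (e a * T * einv a) * Xi = e (σ a) * (Xo * T * Xi) * einv (σ a))
    [Nontrivial V] :
    Nat.card M ≤ (p ^ (m + 1) - 1) ^ 2 * Nat.card {v : M // (σ ^ p ^ m) v = v} := by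
  classical
  haveI : Fintype M := Fintype.ofFinite M
  let cj : M → (Module.End K V →ₗ[K] Module.End K V) := fun g =>
    (LinearMap.mulLeft K (e g)).comp (LinearMap.mulRight K (einv g))
  have hcjd : ∀ g T, cj g T = e g * T * einv g := fun g T => (mul_assoc _ _ _).symm
  let P : M → (Module.End K V →ₗ[K] Module.End K V) := fun v =>
    (Nat.card M : K)⁻¹ • ∑ a : M, (χ a v)⁻¹ • cj a
  have hP : ∀ v T, P v T = (Nat.card M : K)⁻¹ • ∑ a : M, (χ a v)⁻¹ • cj a T := fun v T => by
    simp only [P, LinearMap.smul_apply, LinearMap.sum_apply]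
  have hcancel : ∀ (g : M) {c c' : K}, c • e g = c' • e g → c = c' := by
    intro g c c' h
    by_contra hne
    obtain ⟨v, hv⟩ := exists_ne (0 : V)
    have h1 := congrArg (fun T => T * einv g) h
    simp only [smul_mul_assoc, he] at h1
    have h2' := LinearMap.congr_fun h1 v
    simp only [LinearMap.smul_apply, Module.End.one_apply] at h2'
    exact hne (smul_left_injective K hv h2')
  have hswap : ∀ a b, χ a b * χ b a = 1 := by
    intro a b
    have h1 : (1 : K) • (e a * e b) = (χ a b * χ b a) • (e a * e b) := by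
      rw [one_smul, ← smul_smul, ← hχ b a, ← hχ a b]
    have h2' := congrArg (fun T => T * einv b) h1
    simp only [smul_mul_assoc, mul_assoc, he, mul_one] at h2'
    exact (hcancel a h2').symm
  have hχmul' : ∀ a v v', χ a (v * v') = χ a v * χ a v' := by
    intro a v v'
    have h1 := hswap (v * v') a
    rw [hχmul] at h1
    refine mul_left_cancel₀ (mul_ne_zero (hχne v a) (hχne v' a)) ?_
    rw [h1]
    calc (1 : K) = (χ v a * χ a v) * (χ v' a * χ a v') := by rw [hswap, hswap, one_mul]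
      _ = χ v a * χ v' a * (χ a v * χ a v') := by ring
  have hχ1 : ∀ a, χ a 1 = 1 := fun a => by
    have h := hχmul' a 1 1
    rw [mul_one] at h
    exact (mul_eq_left₀ (hχne a 1)).1 h.symm
  have hsum0 : ∀ w : M, w ≠ 1 → ∑ a : M, χ a w = 0 := by
    intro w hw
    obtain ⟨b, hb⟩ := hχnd w hw
    have h1 : ∑ a : M, χ a w = χ b w * ∑ a : M, χ a w := by
      rw [Finset.mul_sum]
      conv_lhs => rw [← Equiv.sum_comp (Equiv.mulLeft b)]
      exact Finset.sum_congr rfl fun a _ => hχmul b a w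
    by_contra hne
    exact hb ((mul_eq_right₀ hne).1 h1.symm)
  have hcjP : ∀ b v T, cj b (P v T) = χ b v • P v T := by
    intro b v T
    rw [hP, map_smul, map_sum, smul_comm (χ b v)]
    congr 1
    rw [Finset.smul_sum]
    conv_rhs => rw [← Equiv.sum_comp (Equiv.mulLeft b)]
    refine Finset.sum_congr rfl fun a _ => ?_
    rw [map_smul, Equiv.coe_mulLeft, smul_smul]
    have hc2 : cj b (cj a T) = cj (b * a) T := by simp only [hcjd]; exact (hcj b a T).symm
    rw [hc2]
    congr 1
    rw [hχmul]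
    field_simp [hχne b v]
  have hPP : ∀ w v T, P w (P v T) = if w = v then P v T else 0 := by
    intro w v T
    conv_lhs => rw [hP]
    simp only [hcjP, smul_smul, ← Finset.sum_smul]
    have ee : ∀ a, (χ a w)⁻¹ * χ a v = χ a (w⁻¹ * v) := by
      intro a
      rw [hχmul']
      congr 1
      refine (eq_inv_of_mul_eq_one_left ?_).symm
      rw [← hχmul', inv_mul_cancel, hχ1]
    simp only [ee]
    by_cases h : w = v
    · rw [if_pos h, h, inv_mul_cancel, Finset.sum_congr rfl (fun a _ => hχ1 a), Finset.sum_const,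
        Finset.card_univ, nsmul_one, ← Nat.card_eq_fintype_card, inv_mul_cancel₀ hN, one_smul]
    · rw [if_neg h, hsum0 _ (fun h' => h (inv_mul_eq_one.1 h')), mul_zero, zero_smul]
  have htw : ∀ v U, P v (e v * U) = e v * P 1 U := by
    intro v U
    rw [hP, hP, mul_smul_comm, Finset.mul_sum]
    congr 1
    refine Finset.sum_congr rfl fun a _ => ?_
    rw [hχ1, inv_one, one_smul, hcjd, hcjd, ← mul_assoc (e a), hχ a v]
    simp only [smul_mul_assoc, smul_smul, inv_mul_cancel₀ (hχne _ _), one_smul, mul_assoc]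
  have hdim : ∀ v, Module.finrank K (LinearMap.range (P v)) = Module.finrank K (LinearMap.range (P 1)) := by
    intro v
    have e' : LinearMap.range (P v) = (LinearMap.range (P 1)).map (LinearMap.mulLeft K (e v)) := by
      apply le_antisymm
      · rintro _ ⟨T, rfl⟩
        refine ⟨P 1 (einv v * T), ⟨_, rfl⟩, ?_⟩
        show e v * P 1 (einv v * T) = P v T
        rw [← htw, ← mul_assoc, he, one_mul]
      · rintro _ ⟨_, ⟨U, rfl⟩, rfl⟩
        exact ⟨_, htw v U⟩
    rw [e']
    refine (Submodule.equivMapOfInjective _ (fun T U h => ?_) _).finrank_eq.symm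
    have := congrArg (einv v * ·) h
    simpa only [LinearMap.mulLeft_apply, ← mul_assoc, he', one_mul] using this
  set e₁ := Module.finrank K (LinearMap.range (P 1)) with he₁
  have hdec : ∀ T, ∑ v, P v T = T := by
    intro T
    simp only [hP, ← Finset.smul_sum]
    rw [Finset.sum_comm]
    simp only [← Finset.sum_smul]
    have hinv : ∀ a v, (χ a v)⁻¹ = χ v a := fun a v => by
      rw [eq_comm]; exact eq_inv_of_mul_eq_one_left (hswap v a)
    simp only [hinv]
    rw [Finset.sum_eq_single (1 : M)]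
    · have hone : cj 1 T = T := by
        have h := hcj 1 1 T
        rw [one_mul] at h
        have h' := congrArg (fun Y => einv 1 * Y * e 1) h
        simp only [mul_assoc, he', mul_one] at h'
        simp only [← mul_assoc, he', one_mul] at h'
        rw [hcjd]; exact h'.symm
      rw [hone, Finset.sum_congr rfl (fun v _ => hχ1 v), Finset.sum_const, Finset.card_univ,
        nsmul_one, ← Nat.card_eq_fintype_card, smul_smul, inv_mul_cancel₀ hN, one_smul]
    · intro a _ ha
      rw [hsum0 a ha, zero_smul]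
    · simp
  have htotal : Nat.card M * e₁ = Module.finrank K V * Module.finrank K V := by
    let f : Module.End K V →ₗ[K] ((v : M) → LinearMap.range (P v)) :=
      LinearMap.pi fun v => (P v).rangeRestrict
    have hf : Function.Bijective f := by
      constructor
      · intro T U h
        rw [← hdec T, ← hdec U]
        exact Finset.sum_congr rfl fun v _ => congrArg Subtype.val (congrFun h v)
      · intro y
        refine ⟨∑ v, (y v : Module.End K V), funext fun w => Subtype.ext ?_⟩
        show P w (∑ v, (y v : Module.End K V)) = y w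
        rw [map_sum, Finset.sum_eq_single w]
        · obtain ⟨U, hU⟩ := (y w).2
          rw [← hU, hPP, if_pos rfl]
        · intro v _ hv
          obtain ⟨U, hU⟩ := (y v).2
          rw [← hU, hPP, if_neg (Ne.symm hv)]
        · simp
    have h1 := (LinearEquiv.ofBijective f hf).finrank_eq
    rw [Module.finrank_linearMap, Module.finrank_pi_fintype] at h1
    rw [h1, Finset.sum_congr rfl (fun v _ => hdim v), Finset.sum_const, Finset.card_univ,
      smul_eq_mul, ← Nat.card_eq_fintype_card]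
  -- conjugation by the operator permutes the components
  let c : Module.End K V →ₗ[K] Module.End K V :=
    (LinearMap.mulLeft K Xo).comp (LinearMap.mulRight K Xi)
  have hc : ∀ T, c T = Xo * T * Xi := fun T => (mul_assoc _ _ _).symm
  have hcP : ∀ v T, c (P v T) = P (σ v) (c T) := by
    intro v T
    rw [hP, hP, map_smul, map_sum]
    congr 1
    conv_rhs => rw [← Equiv.sum_comp σ.toEquiv]
    refine Finset.sum_congr rfl fun a _ => ?_
    rw [map_smul, MulEquiv.toEquiv_eq_coe, MulEquiv.coe_toEquiv, hχσ]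
    congr 1
    rw [hc, hc, hcjd, hcjd]
    exact hXe a T
  set PP := p ^ (m + 1) with hPPdef
  have hPP0 : 0 < PP := pow_pos hp.pos _
  let π : Equiv.Perm M := σ.toEquiv
  have hπ : ∀ (i : ℕ) a, (π ^ i) a = (σ ^ i) a := by
    intro i
    induction i with
    | zero => intro a; rfl
    | succ i ih => intro a; rw [pow_succ', Equiv.Perm.mul_apply, ih, pow_succ']; rfl
  have hπp : π ^ PP = 1 := Equiv.ext fun a => by rw [hπ, hσ]; rfl
  let free : M → Prop := fun a => (σ ^ p ^ m) a ≠ a
  have hfree : ∀ a, free a → ∀ i, 0 < i → i < PP → (π ^ i) a ≠ a := by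
    intro a ha i hi0 hiP hfix
    rw [hπ] at hfix
    obtain ⟨j, hj, -, hjSt⟩ := ppow_mem hp (n := m + 1) {k | (σ ^ k) a = a}
      (fun k hk k' hk' => by
        show (σ ^ (k + k')) a = a
        rw [pow_add, MulAut.mul_apply, show (σ ^ k') a = a from hk', show (σ ^ k) a = a from hk])
      (show (σ ^ 0) a = a by rw [pow_zero]; rfl)
      (fun k k' h hk => by
        show (σ ^ k') a = a
        rw [← Nat.mod_add_div k' (p ^ (m + 1)), ← h, pow_add, pow_mul, hσ, one_pow, mul_one]
        conv_rhs => rw [← (show (σ ^ k) a = a from hk), ← Nat.mod_add_div k (p ^ (m + 1)), pow_add,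
          pow_mul, hσ, one_pow, mul_one])
      hfix (fun h => by have := Nat.le_of_dvd hi0 h; omega)
    refine ha ?_
    have h2 : ∀ n : ℕ, ((σ ^ p ^ j) ^ n) a = a := by
      intro n
      induction n with
      | zero => rfl
      | succ n ih => rw [pow_succ, MulAut.mul_apply, show (σ ^ p ^ j) a = a from hjSt, ih]
    have := h2 (p ^ (m - j))
    rwa [← pow_mul, ← pow_add, Nat.add_sub_cancel' (by omega)] at this
  obtain ⟨R, hR⟩ := HHCritical.exists_orbit_reps π PP hPP0 hπp free hfree
  set Fx : Finset M := Finset.univ.filter fun a => ¬ free a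
  set Rf : Finset M := R.filter free
  set Reps : Finset M := Fx ∪ Rf
  have hcover : ∀ v : M, ∃ r ∈ Reps, ∃ i : ℕ, (σ ^ i) r = v := by
    intro v
    by_cases hv : free v
    · obtain ⟨i, ⟨hiP, hiR⟩, -⟩ := hR v hv
      rw [hπ] at hiR
      refine ⟨_, Finset.mem_union_right _ (Finset.mem_filter.2 ⟨hiR, fun h => hv ?_⟩), PP - i, ?_⟩
      · refine (σ ^ i).injective ?_
        rwa [← MulAut.mul_apply, ← pow_add, add_comm, pow_add, MulAut.mul_apply]
      · rw [← MulAut.mul_apply, ← pow_add, Nat.sub_add_cancel hiP.le, hσ]; rfl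
    · exact ⟨v, Finset.mem_union_left _ (Finset.mem_filter.2 ⟨Finset.mem_univ _, hv⟩), 0, rfl⟩
  have hcount : PP * Reps.card ≤ Nat.card M + (PP - 1) * Fx.card := by
    have h1 : PP * Rf.card ≤ (Finset.univ.filter free).card := by
      rw [mul_comm, ← Finset.card_range PP, ← Finset.card_product]
      refine Finset.card_le_card_of_injOn (fun z => (σ ^ z.2) z.1) (fun z hz => ?_) ?_
      · obtain ⟨hz1, hz2⟩ := Finset.mem_product.1 hz
        refine Finset.mem_filter.2 ⟨Finset.mem_univ _, fun h => (Finset.mem_filter.1 hz1).2 ?_⟩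
        refine (σ ^ z.2).injective ?_
        rwa [← MulAut.mul_apply, ← pow_add, add_comm, pow_add, MulAut.mul_apply]
      · rintro ⟨r, k⟩ hz ⟨r', k'⟩ hz' heq
        obtain ⟨hr, hk⟩ := Finset.mem_product.1 hz
        obtain ⟨hr', hk'⟩ := Finset.mem_product.1 hz'
        simp only [Finset.mem_range] at hk hk'
        change (σ ^ k) r = (σ ^ k') r' at heq
        have key : ∀ r ∈ Rf, ∀ k < PP, (π ^ ((PP - k) % PP)) ((σ ^ k) r) = r := by
          intro r _ k hk
          rw [hπ, ← MulAut.mul_apply, ← pow_add]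
          rcases Nat.eq_zero_or_pos k with rfl | hk0
          · rw [Nat.sub_zero, Nat.mod_self, add_zero, pow_zero]; rfl
          · rw [Nat.mod_eq_of_lt (by omega), Nat.sub_add_cancel hk.le, hσ]; rfl
        have hfr : free ((σ ^ k) r) := fun h => (Finset.mem_filter.1 hr).2 ((σ ^ k).injective (by
          rwa [← MulAut.mul_apply, ← pow_add, add_comm, pow_add, MulAut.mul_apply]))
        obtain ⟨i, -, huniq⟩ := hR _ hfr
        have u1 := huniq ((PP - k) % PP) ⟨Nat.mod_lt _ hPP0, by
          rw [key r hr k hk]; exact (Finset.mem_filter.1 hr).1⟩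
        have u2 := huniq ((PP - k') % PP) ⟨Nat.mod_lt _ hPP0, by
          rw [heq, key r' hr' k' hk']; exact (Finset.mem_filter.1 hr').1⟩
        have hkk : k = k' := by
          have h := u1.trans u2.symm
          rcases Nat.eq_zero_or_pos k with rfl | hk0 <;> rcases Nat.eq_zero_or_pos k' with rfl | hk0'
          · rfl
          · rw [Nat.sub_zero, Nat.mod_self, Nat.mod_eq_of_lt (by omega)] at h; omega
          · rw [Nat.sub_zero, Nat.mod_self, Nat.mod_eq_of_lt (by omega)] at h; omega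
          · rw [Nat.mod_eq_of_lt (by omega), Nat.mod_eq_of_lt (by omega)] at h; omega
        subst hkk
        rw [(σ ^ k).injective heq]
    have h2 : Fx.card + (Finset.univ.filter free).card = Nat.card M := by
      rw [Nat.card_eq_fintype_card, ← Finset.card_univ, add_comm]
      exact Finset.card_filter_add_card_filter_not _
    have h3 : Reps.card ≤ Fx.card + Rf.card := Finset.card_union_le _ _
    obtain ⟨w, hw⟩ : ∃ w, PP = w + 1 := ⟨PP - 1, by omega⟩
    rw [hw, Nat.add_sub_cancel]
    calc (w + 1) * Reps.card ≤ (w + 1) * (Fx.card + Rf.card) := Nat.mul_le_mul_left _ h3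
      _ = w * Fx.card + (Fx.card + (w + 1) * Rf.card) := by ring
      _ ≤ w * Fx.card + Nat.card M := by rw [← hw]; omega
      _ = Nat.card M + w * Fx.card := add_comm _ _
  -- the commutant embeds in the components at the representatives
  have hcomm : Module.finrank K (HHCritical.commutant (Xo - 1)) ≤ Reps.card * e₁ := by
    let Φ : HHCritical.commutant (Xo - 1) →ₗ[K] ((r : Reps) → LinearMap.range (P r)) :=
      (LinearMap.pi fun r : Reps => (P (r : M)).rangeRestrict).comp (HHCritical.commutant (Xo - 1)).subtype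
    have hinj : Function.Injective Φ := by
      rw [← LinearMap.ker_eq_bot, LinearMap.ker_eq_bot']
      intro T hT
      have hfix : c (T : Module.End K V) = T := by
        have h := HHCritical.mem_commutant.1 T.2
        rw [sub_mul, mul_sub, one_mul, mul_one, sub_left_inj] at h
        rw [hc, h, mul_assoc, hXX, mul_one]
      have hiter : ∀ (i : ℕ) r, P r (T : Module.End K V) = 0 → P ((σ ^ i) r) (T : Module.End K V) = 0 := by
        intro i
        induction i with
        | zero => intro r h; exact h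
        | succ i ih =>
          intro r h
          rw [pow_succ', MulAut.mul_apply, ← hfix, ← hcP, ih r h, map_zero]
      refine Subtype.ext ?_
      rw [Submodule.coe_zero, ← hdec (T : Module.End K V)]
      refine Finset.sum_eq_zero fun v _ => ?_
      obtain ⟨r, hr, i, rfl⟩ := hcover v
      exact hiter i r (congrArg Subtype.val (congrFun hT ⟨r, hr⟩))
    have h := LinearMap.finrank_le_finrank_of_injective hinj
    rwa [Module.finrank_pi_fintype, Finset.sum_congr rfl (fun (r : Reps) _ => hdim r.1),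
      Finset.sum_const, Finset.card_univ, Fintype.card_coe, smul_eq_mul] at h
  have hsq := HHCritical.sq_finrank_le_mul_commutant hq
  rw [pow_two, ← htotal] at hsq
  have he1 : 0 < e₁ := Nat.pos_of_ne_zero fun h => by
    rw [h, mul_zero] at htotal
    exact (Nat.mul_pos Module.finrank_pos Module.finrank_pos).ne htotal
  have hMR : Nat.card M ≤ (PP - 1) * Reps.card := by
    refine Nat.le_of_mul_le_mul_right ?_ he1
    rw [mul_assoc]
    exact hsq.trans (Nat.mul_le_mul_left _ hcomm)
  have hFx : Fx.card = Nat.card {v : M // (σ ^ p ^ m) v = v} := by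
    rw [Nat.card_eq_fintype_card, Fintype.card_subtype]
    exact congrArg _ (Finset.filter_congr fun a _ => not_not)
  rw [← hFx]
  obtain ⟨w, hw⟩ : ∃ w, PP = w + 1 := ⟨PP - 1, by omega⟩
  rw [hw, Nat.add_sub_cancel] at hcount hMR ⊢
  nlinarith [Nat.mul_le_mul_left (w + 1) hMR, Nat.mul_le_mul_left w hcount]

end Count

section Weights

variable {M : Type*} [CommGroup M] [Finite M]

theorem pow_sub_ge {p m : ℕ} (hp : p.Prime) (hp2 : p ≠ 2) :
    p ^ (m + 1) ≤ 2 ^ (p ^ (m + 1) - p ^ m) := by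
  have h1 : p ≤ 2 ^ (p - 1) := by
    have := Nat.lt_two_pow_self (n := p - 1)
    omega
  have h2 : m + 1 ≤ p ^ m := Nat.lt_pow_self hp.one_lt
  calc p ^ (m + 1) ≤ (2 ^ (p - 1)) ^ (m + 1) := Nat.pow_le_pow_left h1 _
    _ ≤ (2 ^ (p - 1)) ^ p ^ m := Nat.pow_le_pow_right (pow_pos two_pos _) h2
    _ = 2 ^ (p ^ (m + 1) - p ^ m) := by
      rw [← pow_mul, Nat.sub_mul, one_mul, ← pow_succ']

/-- A top with small displacement centralises a normalised abelian `p`-group. -/
theorem commute_of_small_displacement {p m : ℕ} (hp : p.Prime) (hp2 : p ≠ 2)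
    (hM : ∀ x : M, x * x = 1) (A0 : Subgroup (MulAut M)) (hA0p : IsPGroup p A0)
    (hA0c : ∀ a ∈ A0, ∀ b ∈ A0, a * b = b * a) {x : MulAut M}
    (hxA : ∀ c ∈ A0, x⁻¹ * c * x ∈ A0) (hx : x ^ p ^ (m + 1) = 1)
    (hd : Nat.card ((x ^ p ^ m).toMonoidHom / MonoidHom.id M).range ≤ (p ^ (m + 1) - 1) ^ 2) :
    ∀ c ∈ A0, x ^ p ^ m * c = c * x ^ p ^ m := by
  classical
  intro c hc
  by_contra hne
  haveI := Fact.mk Nat.prime_two
  have hM2 : ∀ y : Additive M, 2 • y = 0 := fun y =>
    Additive.toMul.injective (by rw [toMul_nsmul, pow_two]; exact hM _)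
  letI : Module (ZMod 2) (Additive M) := AddCommGroup.zmodModule hM2
  haveI : Module.Finite (ZMod 2) (Additive M) := Module.Finite.of_finite
  let K := AlgebraicClosure (ZMod 2)
  let lz : AddMonoid.End (Additive M) → Module.End (ZMod 2) (Additive M) := fun f =>
    AddMonoidHom.toZModLinearMap 2 (f : Additive M →+ Additive M)
  have hlz : ∀ f v, lz f v = f v := fun f v => rfl
  let lin : MulAut M →* Module.End (ZMod 2) (Additive M) :=
    { toFun := fun g => lz (MonoidHom.toAdditive g.toMonoidHom)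
      map_one' := LinearMap.ext fun v => rfl
      map_mul' := fun g g' => LinearMap.ext fun v => rfl }
  have hlin : ∀ (g : MulAut M) (v : Additive M), lin g v = Additive.ofMul (g v.toMul) := fun g v => rfl
  let L : MulAut M →* Module.End K (K ⊗[ZMod 2] Additive M) :=
    ((Module.End.baseChangeHom (ZMod 2) K (Additive M)).toRingHom.toMonoidHom).comp lin
  have hL : ∀ g k v, L g (k ⊗ₜ v) = k ⊗ₜ (lin g v) := fun g k v => rfl
  -- a commutator in `A0`
  set a := x ^ p ^ m with ha
  have hxAi : ∀ (i : ℕ) (d : MulAut M), d ∈ A0 → (x ^ i)⁻¹ * d * x ^ i ∈ A0 := by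
    intro i
    induction i with
    | zero => intro d hd; simpa using hd
    | succ i ih =>
      intro d hd
      have h := hxA _ (ih d hd)
      have e : (x ^ (i + 1))⁻¹ * d * x ^ (i + 1) = x⁻¹ * ((x ^ i)⁻¹ * d * x ^ i) * x := by
        rw [pow_succ]; group
      rwa [e]
  have hxP : ∀ (i j : ℕ), i % p ^ (m + 1) = j % p ^ (m + 1) → x ^ i = x ^ j := fun i j h => by
    rw [← Nat.mod_add_div i (p ^ (m + 1)), ← Nat.mod_add_div j (p ^ (m + 1)), h, pow_add x, pow_add x,
      pow_mul x, pow_mul x, hx, one_pow, one_pow]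
  have hmP : p ^ m < p ^ (m + 1) := Nat.pow_lt_pow_right hp.one_lt (Nat.lt_succ_self m)
  set t := a * c * a⁻¹ * c⁻¹ with ht
  have hac : a * c * a⁻¹ ∈ A0 := by
    have h := hxAi (p ^ (m + 1) - p ^ m) c hc
    have e : x ^ (p ^ (m + 1) - p ^ m) = a⁻¹ := by
      rw [eq_inv_iff_mul_eq_one, ha, ← pow_add, Nat.sub_add_cancel hmP.le, hx]
    rwa [e, inv_inv] at h
  have htA : t ∈ A0 := mul_mem hac (inv_mem hc)
  have ht1 : t ≠ 1 := fun h => hne (by
    rwa [ht, mul_inv_eq_one, mul_inv_eq_iff_eq_mul] at h)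
  obtain ⟨j, hj⟩ := hA0p ⟨t, htA⟩
  have hj' : t ^ p ^ j = 1 := congrArg Subtype.val hj
  -- a weight which is nontrivial on it
  have hcomm : ∀ d ∈ A0, L d * L t = L t * L d := fun d hd => by
    rw [← map_mul, ← map_mul, hA0c d hd t htA]
  obtain ⟨W', hW'⟩ : ∃ W' : Submodule K (K ⊗[ZMod 2] Additive M), W' = LinearMap.range (L t - 1) := ⟨_, rfl⟩
  have hW'inv : ∀ d : A0, ∀ w ∈ W', L (d : MulAut M) w ∈ W' := by
    subst hW'
    rintro d _ ⟨w, rfl⟩
    refine ⟨L (d : MulAut M) w, ?_⟩
    rw [LinearMap.sub_apply, LinearMap.sub_apply, Module.End.one_apply, Module.End.one_apply, map_sub,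
      ← Module.End.mul_apply, ← Module.End.mul_apply, hcomm d d.2]
  haveI : Nontrivial W' := by
    rw [Submodule.nontrivial_iff_ne_bot]
    intro h
    rw [hW', LinearMap.range_eq_bot] at h
    refine ht1 (MulEquiv.ext fun y => ?_)
    obtain ⟨l, hl⟩ := LinearMap.exists_leftInverse_of_injective (Algebra.linearMap (ZMod 2) K)
      (LinearMap.ker_eq_bot.2 (algebraMap (ZMod 2) K).injective)
    have hl1 : l 1 = 1 := by simpa using LinearMap.congr_fun hl 1
    have h1 := LinearMap.congr_fun h ((1 : K) ⊗ₜ Additive.ofMul y)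
    rw [LinearMap.sub_apply, LinearMap.zero_apply, Module.End.one_apply, sub_eq_zero, hL] at h1
    have h2 := congrArg (fun z => TensorProduct.lid (ZMod 2) (Additive M) (l.rTensor (Additive M) z)) h1
    simpa [hl1, hlin] using h2
  let Ld : A0 → Module.End K W' := fun d => LinearMap.restrict (L (d : MulAut M)) (hW'inv d)
  have hLd : ∀ d d', Ld d * Ld d' = Ld d' * Ld d := fun d d' => LinearMap.ext fun w =>
      Subtype.ext (by
        show L (d : MulAut M) (L (d' : MulAut M) w) = L (d' : MulAut M) (L (d : MulAut M) w)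
        rw [← Module.End.mul_apply, ← Module.End.mul_apply, ← map_mul, ← map_mul, hA0c d d.2 d' d'.2])
  haveI : FiniteDimensional K W' := FiniteDimensional.finiteDimensional_submodule W'
  obtain ⟨lam, v, hv, hlam⟩ := HHCritical.exists_common_eigenvector (K := K) (V := W') Ld hLd
  have hv0 : (v : K ⊗[ZMod 2] Additive M) ≠ 0 := fun h => hv (Subtype.ext h)
  have hev : ∀ d : A0, L (d : MulAut M) (v : K ⊗[ZMod 2] Additive M) = lam d • (v : K ⊗[ZMod 2] Additive M) :=
    fun d => congrArg Subtype.val (hlam d)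
  have hlmul : ∀ d d' : A0, lam (d * d') = lam d * lam d' := fun d d' => by
    refine smul_left_injective K hv0 ?_
    show lam (d * d') • (v : K ⊗[ZMod 2] Additive M) = (lam d * lam d') • _
    rw [← hev, coe_mul, map_mul, Module.End.mul_apply, hev, map_smul, hev, smul_smul, mul_comm]
  have hl1 : lam 1 = 1 := by
    refine smul_left_injective K hv0 ?_
    show lam 1 • (v : K ⊗[ZMod 2] Additive M) = (1 : K) • _
    rw [← hev, coe_one, map_one, Module.End.one_apply, one_smul]
  have hlpow : ∀ (d : A0) (n : ℕ), lam (d ^ n) = lam d ^ n := by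
    intro d n
    induction n with
    | zero => rw [pow_zero, pow_zero, hl1]
    | succ n ih => rw [pow_succ, pow_succ, hlmul, ih]
  have hodd : ∀ j : ℕ, Odd (p ^ j) := fun j => (hp.odd_of_ne_two hp2).pow
  have hlt : lam ⟨t, htA⟩ ≠ 1 := by
    intro h
    obtain ⟨w, hw⟩ := hW'.le v.2
    have h1 := hev ⟨t, htA⟩
    rw [h, one_smul] at h1
    have hfix : L t (L t w - w) = L t w - w := by
      have hw' : L t w - w = v := hw
      rw [hw']; exact h1
    have hk : ∀ k : ℕ, (L t ^ k) w = w + k • (L t w - w) := by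
      intro k
      induction k with
      | zero => simp
      | succ k ih =>
        rw [pow_succ', Module.End.mul_apply, ih, map_add, map_nsmul, hfix, succ_nsmul]
        abel
    have h2 := hk (p ^ j)
    rw [← map_pow, hj', map_one, Module.End.one_apply, left_eq_add, ← Nat.cast_smul_eq_nsmul K] at h2
    rcases smul_eq_zero.1 h2 with h3 | h3
    · obtain ⟨k, hk'⟩ := hodd j
      rw [hk', Nat.cast_add, Nat.cast_mul, Nat.cast_one,
        show ((2 : ℕ) : K) = 0 from CharP.cast_eq_zero K 2, zero_mul, zero_add] at h3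
      exact one_ne_zero h3
    · exact hv0 (hw.symm.trans h3)
  -- the weights of the orbit and their squares
  let cnj : ℕ → A0 → A0 := fun i d => ⟨(x ^ i)⁻¹ * d * x ^ i, hxAi i d d.2⟩
  let wt : Bool × Fin (p ^ (m + 1)) → A0 → K := fun z d =>
    bif z.1 then lam (cnj z.2 d) ^ 2 else lam (cnj z.2 d)
  let frob : K →ₗ[ZMod 2] K := (AddMonoidHom.toZModLinearMap 2 (frobenius K 2).toAddMonoidHom)
  have hfrob : ∀ k, frob k = k ^ 2 := fun k => rfl
  let φ : K ⊗[ZMod 2] Additive M →ₗ[ZMod 2] K ⊗[ZMod 2] Additive M :=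
    LinearMap.rTensor (Additive M) frob
  have hφinj : Function.Injective φ :=
    Module.Flat.rTensor_preserves_injective_linearMap frob (frobenius_inj K 2)
  have hφcomm : ∀ g w, φ (L g w) = L g (φ w) := by
    intro g w
    induction w using TensorProduct.induction_on with
    | zero => simp
    | tmul k y => rw [hL]; show frob k ⊗ₜ[ZMod 2] (lin g y) = L g (frob k ⊗ₜ[ZMod 2] y); rw [hL]
    | add w w' hw hw' => rw [map_add, map_add, hw, hw', map_add, map_add]
  have hφsmul : ∀ (k : K) w, φ (k • w) = k ^ 2 • φ w := by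
    intro k w
    induction w using TensorProduct.induction_on with
    | zero => simp
    | tmul k' y =>
      rw [TensorProduct.smul_tmul']
      show frob (k • k') ⊗ₜ[ZMod 2] y = k ^ 2 • (frob k' ⊗ₜ[ZMod 2] y)
      rw [TensorProduct.smul_tmul', hfrob, hfrob, smul_eq_mul, smul_eq_mul, mul_pow]
    | add w w' hw hw' => rw [smul_add, map_add, map_add, hw, hw', smul_add]
  let vv : ℕ → K ⊗[ZMod 2] Additive M := fun i => L (x ^ i) v
  have hvv : ∀ (i : ℕ) (d : A0), L (d : MulAut M) (vv i) = lam (cnj i d) • vv i := by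
    intro i d
    show L (d : MulAut M) (L (x ^ i) v) = lam (cnj i d) • L (x ^ i) v
    have e : (d : MulAut M) * x ^ i = x ^ i * (cnj i d : MulAut M) := by
      show _ = x ^ i * ((x ^ i)⁻¹ * d * x ^ i)
      group
    rw [← Module.End.mul_apply, ← map_mul, e, map_mul, Module.End.mul_apply, hev, map_smul]
  let u : Bool × Fin (p ^ (m + 1)) → K ⊗[ZMod 2] Additive M := fun z =>
    bif z.1 then φ (vv z.2) else vv z.2
  have hu : ∀ z (d : A0), L (d : MulAut M) (u z) = wt z d • u z := by
    rintro ⟨b, i⟩ d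
    cases b
    · exact hvv i d
    · show L (d : MulAut M) (φ (vv i)) = lam (cnj i d) ^ 2 • φ (vv i)
      rw [← hφcomm, hvv, hφsmul]
  have hu0 : ∀ z, u z ≠ 0 := by
    have hvv0 : ∀ i, vv i ≠ 0 := fun i h => hv0 (by
      have h1 := congrArg (L (x ^ i)⁻¹) h
      rwa [map_zero, ← Module.End.mul_apply, ← map_mul, inv_mul_cancel, map_one,
        Module.End.one_apply] at h1)
    rintro ⟨b, i⟩
    cases b
    · exact hvv0 i
    · exact fun h => hvv0 i (hφinj (h.trans (map_zero φ).symm))
  -- the weights are distinct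
  have hcnj : ∀ (i k : ℕ) (d : A0), cnj i (cnj k d) = cnj (k + i) d := fun i k d => Subtype.ext (by
    show (x ^ i)⁻¹ * ((x ^ k)⁻¹ * d * x ^ k) * x ^ i = (x ^ (k + i))⁻¹ * d * x ^ (k + i)
    rw [pow_add]; group)
  have hcnjP : ∀ i k, i % p ^ (m + 1) = k % p ^ (m + 1) → ∀ d, cnj i d = cnj k d := fun i k h d =>
    Subtype.ext (by show (x ^ i)⁻¹ * _ * x ^ i = _; rw [hxP i k h])
  have hcnj0 : ∀ d, cnj (p ^ (m + 1)) d = d := fun d => Subtype.ext (by
    show (x ^ p ^ (m + 1))⁻¹ * (d : MulAut M) * x ^ p ^ (m + 1) = d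
    rw [hx, inv_one, one_mul, mul_one])
  have hnost : ∀ k, 0 < k → k < p ^ (m + 1) → ¬ ∀ d, lam (cnj k d) = lam d := by
    intro k hk0 hkP hall
    obtain ⟨i, hi, -, hiSt⟩ := ppow_mem hp (n := m + 1) {k | ∀ d, lam (cnj k d) = lam d}
      (fun k hk k' hk' d => by rw [← hcnj, hk', hk])
      (fun d => congrArg lam (Subtype.ext (by simp [cnj])))
      (fun k k' h hk d => by rw [← hcnjP k k' h]; exact hk d)
      hall (fun h => by have := Nat.le_of_dvd hk0 h; omega)
    have h2 : ∀ n : ℕ, ∀ d, lam (cnj (p ^ i * n) d) = lam d := by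
      intro n
      induction n with
      | zero => intro d; exact congrArg lam (Subtype.ext (by simp [cnj]))
      | succ n ih => intro d; rw [mul_add, mul_one, ← hcnj, hiSt, ih]
    refine hlt ?_
    have h3 := h2 (p ^ (m - i)) ⟨a * c * a⁻¹, hac⟩
    rw [← pow_add, Nat.add_sub_cancel' (by omega)] at h3
    have e : cnj (p ^ m) ⟨a * c * a⁻¹, hac⟩ = ⟨c, hc⟩ := Subtype.ext (by
      show a⁻¹ * (a * c * a⁻¹) * a = c
      group)
    rw [e] at h3
    have e2 : (⟨a * c * a⁻¹, hac⟩ : A0) = ⟨t, htA⟩ * ⟨c, hc⟩ := Subtype.ext (by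
      show a * c * a⁻¹ = t * c
      rw [ht, inv_mul_cancel_right])
    rw [e2, hlmul] at h3
    have hcne : lam ⟨c, hc⟩ ≠ 0 := fun h0 => by
      have h4 := hlmul ⟨c, hc⟩ (⟨c, hc⟩⁻¹)
      rw [mul_inv_cancel, hl1, h0, zero_mul] at h4
      exact one_ne_zero h4
    exact (mul_eq_right₀ hcne).1 h3.symm
  have hroot : ∀ d : A0, ∃ n : ℕ, lam d ^ p ^ n = 1 := fun d => by
    obtain ⟨n, hn⟩ := hA0p d
    exact ⟨n, by rw [← hlpow, hn, hl1]⟩
  have hsqinj : ∀ d d' : A0, lam d ^ 2 = lam d' ^ 2 → lam d = lam d' := fun d d' h =>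
    frobenius_inj K 2 h
  have hnosq : ∀ k, ¬ ∀ d, lam (cnj k d) = lam d ^ 2 := by
    intro k hall
    have hit : ∀ n : ℕ, ∀ d, lam (cnj (k * n) d) = lam d ^ 2 ^ n := by
      intro n
      induction n with
      | zero => intro d; rw [pow_zero, pow_one]; exact congrArg lam (Subtype.ext (by simp [cnj]))
      | succ n ih => intro d; rw [mul_add, mul_one, ← hcnj, hall, ih, ← pow_mul, ← pow_succ]
    have h1 := hit (p ^ (m + 1)) ⟨t, htA⟩
    rw [hcnjP (k * p ^ (m + 1)) (p ^ (m + 1)) (by simp), hcnj0] at h1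
    obtain ⟨n, hn⟩ := hroot ⟨t, htA⟩
    set z := lam ⟨t, htA⟩
    have hz0 : z ≠ 0 := fun h => by
      rw [h, zero_pow (pow_pos hp.pos n).ne'] at hn
      exact zero_ne_one hn
    have h2 : z ^ (2 ^ p ^ (m + 1) - 1) = 1 := by
      refine mul_right_cancel₀ hz0 ?_
      rw [← pow_succ, Nat.sub_add_cancel Nat.one_le_two_pow, one_mul, ← h1]
    have hcop : (2 ^ p ^ (m + 1) - 1).Coprime (p ^ n) := by
      refine Nat.Coprime.pow_right n ?_
      rw [Nat.coprime_comm, hp.coprime_iff_not_dvd]
      intro hdiv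
      haveI := Fact.mk hp
      have hF : ((2 : ZMod p)) ^ p ^ (m + 1) = 2 := by
        induction (m + 1) with
        | zero => rw [pow_zero, pow_one]
        | succ r ih => rw [pow_succ, pow_mul, ih, ZMod.pow_card]
      have h5 := (CharP.cast_eq_zero_iff (ZMod p) p _).2 hdiv
      rw [Nat.cast_sub Nat.one_le_two_pow, Nat.cast_pow, Nat.cast_ofNat, hF, Nat.cast_one] at h5
      norm_num at h5
    exact hlt (by
      have h3 := pow_gcd_eq_one.mpr (⟨h2, hn⟩ : z ^ (2 ^ p ^ (m + 1) - 1) = 1 ∧ z ^ p ^ n = 1)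
      rwa [hcop.gcd_eq_one, pow_one] at h3)
  have hwt : Function.Injective wt := by
    have hsh : ∀ (i i' : Fin (p ^ (m + 1))) (d : A0),
        cnj (i : ℕ) (cnj (p ^ (m + 1) - (i : ℕ)) d) = d ∧
          cnj (i' : ℕ) (cnj (p ^ (m + 1) - (i : ℕ)) d) = cnj (p ^ (m + 1) - (i : ℕ) + (i' : ℕ)) d := by
      intro i i' d
      exact ⟨by rw [hcnj, Nat.sub_add_cancel i.2.le, hcnj0], hcnj _ _ _⟩
    have hsame : ∀ i i' : Fin (p ^ (m + 1)),
        (∀ d, lam (cnj i' d) = lam (cnj i d)) → i = i' := by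
      intro i i' h
      by_contra hne'
      set k := (p ^ (m + 1) - (i : ℕ) + (i' : ℕ)) % p ^ (m + 1) with hk
      refine hnost k (Nat.pos_of_ne_zero fun hk0 => hne' (Fin.ext ?_)) (Nat.mod_lt _ (pow_pos hp.pos _))
        fun d => ?_
      · have := i.2
        have := i'.2
        obtain ⟨q, hq⟩ := Nat.dvd_of_mod_eq_zero hk0
        rcases q with _ | _ | q
        · omega
        · omega
        · rw [mul_add, mul_one, mul_add, mul_one] at hq; omega
      · obtain ⟨h1, h2⟩ := hsh i i' d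
        rw [hcnjP k _ (Nat.mod_mod _ _), ← h2, h, h1]
    have hcross : ∀ i i' : Fin (p ^ (m + 1)), ¬ ∀ d, lam (cnj i' d) = lam (cnj i d) ^ 2 := by
      intro i i' h
      refine hnosq (p ^ (m + 1) - (i : ℕ) + (i' : ℕ)) fun d => ?_
      obtain ⟨h1, h2⟩ := hsh i i' d
      rw [← h2, h, h1]
    rintro ⟨b, i⟩ ⟨b', i'⟩ h
    cases b <;> cases b'
    · rw [hsame i i' fun d => (congrFun h d).symm]
    · exact absurd (fun d => (congrFun h d)) (hcross i' i)
    · exact absurd (fun d => (congrFun h d).symm) (hcross i i')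
    · rw [hsame i i' fun d => hsqinj _ _ (congrFun h d).symm]
  -- count the displacement
  let Lc : (Bool × Fin (p ^ (m + 1)) → K) →ₗ[K] K ⊗[ZMod 2] Additive M := Fintype.linearCombination K u
  have hLc : Function.Injective Lc := by
    rw [← LinearMap.ker_eq_bot, LinearMap.ker_eq_bot']
    intro f hf
    funext z
    have h := HHCritical.common_eigen_indep (fun d : A0 => L (d : MulAut M)) wt Finset.univ
      (fun z => f z • u z) hwt.injOn (fun z _ d => by rw [map_smul, hu, smul_comm])
      (by simpa [Lc, Fintype.linearCombination_apply] using hf) z (Finset.mem_univ _)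
    exact (smul_eq_zero.1 h).resolve_right (hu0 z)
  let sh : Bool × Fin (p ^ (m + 1)) ≃ Bool × Fin (p ^ (m + 1)) :=
    Equiv.prodCongr (Equiv.refl Bool) (finRotate (p ^ (m + 1)) ^ p ^ m)
  have hrot : ∀ (n : ℕ) (i : Fin (p ^ (m + 1))),
      (((finRotate (p ^ (m + 1)) ^ n) i : Fin (p ^ (m + 1))) : ℕ) = ((i : ℕ) + n) % p ^ (m + 1) := by
    haveI : NeZero (p ^ (m + 1)) := ⟨(pow_pos hp.pos _).ne'⟩
    intro n
    induction n with
    | zero => intro i; rw [pow_zero, add_zero, Nat.mod_eq_of_lt i.2]; rfl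
    | succ n ih =>
      intro i
      rw [pow_succ' (finRotate _), Equiv.Perm.mul_apply, finRotate_apply, Fin.val_add, ih, Fin.val_one',
        Nat.add_mod_mod, Nat.mod_add_mod, add_assoc]
  have hsh : ∀ z, L a (u z) = u (sh z) := by
    have hstep : ∀ i : Fin (p ^ (m + 1)),
        L a (vv i) = vv ((finRotate (p ^ (m + 1)) ^ p ^ m) i : Fin (p ^ (m + 1))) := by
      intro i
      show L a (L (x ^ (i : ℕ)) v) = L (x ^ _) v
      rw [← Module.End.mul_apply, ← map_mul, ha, ← pow_add, hrot]
      rw [hxP (p ^ m + (i : ℕ)) (((i : ℕ) + p ^ m) % p ^ (m + 1)) (by rw [Nat.mod_mod, add_comm])]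
    rintro ⟨b, i⟩
    cases b
    · exact hstep i
    · show L a (φ (vv i)) = φ (vv _)
      rw [← hφcomm, hstep i]
      rfl
  let D : (Bool × Fin (p ^ (m + 1)) → K) →ₗ[K] (Bool × Fin (p ^ (m + 1)) → K) :=
    LinearMap.funLeft K K sh.symm - LinearMap.id
  have hDL : (L a - 1).comp Lc = Lc.comp D := by
    refine LinearMap.ext fun f => ?_
    have e1 : Lc (f ∘ sh.symm) = L a (Lc f) := by
      simp only [Lc, Fintype.linearCombination_apply, map_sum, map_smul, hsh]
      rw [← Equiv.sum_comp sh]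
      simp
    show L a (Lc f) - Lc f = Lc (f ∘ sh.symm - f)
    rw [map_sub, e1]
  have hrankD : 2 * (p ^ (m + 1) - p ^ m) ≤ Module.finrank K (LinearMap.range D) := by
    have h1 := LinearMap.finrank_range_add_finrank_ker D
    rw [Module.finrank_fintype_fun_eq_card, Fintype.card_prod, Fintype.card_bool, Fintype.card_fin] at h1
    have h2 : Module.finrank K (LinearMap.ker D) ≤ 2 * p ^ m := by
      let res : LinearMap.ker D →ₗ[K] (Bool × Fin (p ^ m) → K) :=
        (LinearMap.funLeft K K fun z : Bool × Fin (p ^ m) =>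
          ((z.1, ⟨z.2, z.2.2.trans hmP⟩) : Bool × Fin (p ^ (m + 1)))).comp (LinearMap.ker D).subtype
      have hres : Function.Injective res := by
        rw [← LinearMap.ker_eq_bot, LinearMap.ker_eq_bot']
        intro f hf
        refine Subtype.ext (funext fun z => ?_)
        obtain ⟨b, i⟩ := z
        have hper : ∀ z, (f : Bool × Fin (p ^ (m + 1)) → K) (sh z) = (f : Bool × Fin (p ^ (m + 1)) → K) z := by
          intro z
          have h := congrFun (LinearMap.mem_ker.1 f.2) (sh z)
          simp only [D, LinearMap.sub_apply, LinearMap.funLeft_apply, LinearMap.id_apply,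
            Equiv.symm_apply_apply, Pi.sub_apply, Pi.zero_apply, sub_eq_zero] at h
          exact h.symm
        have hres' : ∀ i : Fin (p ^ m), (f : Bool × Fin (p ^ (m + 1)) → K) (b, ⟨i, i.2.trans hmP⟩) = 0 := fun i => congrFun hf (b, i)
        suffices h : ∀ (n : ℕ) (i : Fin (p ^ (m + 1))), (i : ℕ) = n → (f : Bool × Fin (p ^ (m + 1)) → K) (b, i) = 0 from h _ i rfl
        intro n
        induction n using Nat.strongRecOn with
        | ind n ih =>
          intro i hi
          by_cases hlt' : (i : ℕ) < p ^ m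
          · exact hres' ⟨i, hlt'⟩
          · have hpm : 0 < p ^ m := pow_pos hp.pos m
            set i' : Fin (p ^ (m + 1)) := ⟨(i : ℕ) - p ^ m, by omega⟩ with hi'
            have e : sh (b, i') = (b, i) := by
              refine Prod.ext rfl (Fin.ext ?_)
              show (((finRotate (p ^ (m + 1)) ^ p ^ m) i' : Fin (p ^ (m + 1))) : ℕ) = i
              rw [hrot]
              show ((i : ℕ) - p ^ m + p ^ m) % p ^ (m + 1) = i
              rw [Nat.sub_add_cancel (not_lt.1 hlt'), Nat.mod_eq_of_lt i.2]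
            rw [← e, hper]
            exact ih ((i : ℕ) - p ^ m) (by omega) i' rfl
      have h3 := LinearMap.finrank_le_finrank_of_injective hres
      rwa [Module.finrank_fintype_fun_eq_card, Fintype.card_prod, Fintype.card_bool, Fintype.card_fin] at h3
    omega
  have hrange : Module.finrank K (LinearMap.range D) ≤ Module.finrank K (LinearMap.range (L a - 1)) := by
    have h1 : Module.finrank K (LinearMap.range (Lc.comp D)) = Module.finrank K (LinearMap.range D) := by
      rw [LinearMap.range_comp]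
      exact (Submodule.equivMapOfInjective Lc hLc _).finrank_eq.symm
    rw [← h1, ← hDL]
    exact Submodule.finrank_mono (LinearMap.range_comp_le_range _ _)
  set R0 := LinearMap.range (lin a - 1) with hR0
  have hle : Module.finrank K (LinearMap.range (L a - 1)) ≤ Module.finrank (ZMod 2) R0 := by
    have h1 : LinearMap.range (L a - 1) ≤ LinearMap.range (R0.subtype.baseChange K) := by
      rintro _ ⟨w, rfl⟩
      induction w using TensorProduct.induction_on with
      | zero => simp
      | tmul k y =>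
        refine ⟨k ⊗ₜ ⟨(lin a - 1) y, LinearMap.mem_range_self _ y⟩, ?_⟩
        rw [LinearMap.baseChange_tmul]
        show k ⊗ₜ[ZMod 2] (lin a y - y) = L a (k ⊗ₜ[ZMod 2] y) - k ⊗ₜ[ZMod 2] y
        rw [hL, TensorProduct.tmul_sub]
      | add w w' hw hw' => rw [map_add]; exact add_mem hw hw'
    refine (Submodule.finrank_mono h1).trans ((LinearMap.finrank_range_le _).trans (le_of_eq ?_))
    exact Module.finrank_baseChange
  have hcard : 2 ^ Module.finrank (ZMod 2) R0 ≤
      Nat.card (a.toMonoidHom / MonoidHom.id M).range := by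
    have h2 := Module.natCard_eq_pow_finrank (K := ZMod 2) (V := R0)
    rw [Nat.card_zmod] at h2
    rw [← h2]
    refine Nat.card_le_card_of_injective (fun r => ⟨(r : Additive M).toMul, ?_⟩) ?_
    · obtain ⟨y, hy⟩ := r.2
      refine ⟨y.toMul, ?_⟩
      rw [← hy]
      rfl
    · intro r r' h
      exact Subtype.ext (Additive.toMul.injective (congrArg Subtype.val h))
  have h1 : 2 ^ (2 * (p ^ (m + 1) - p ^ m)) ≤ (p ^ (m + 1) - 1) ^ 2 :=
    (Nat.pow_le_pow_right two_pos (hrankD.trans (hrange.trans hle))).trans (hcard.trans hd)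
  have h2 : (p ^ (m + 1)) ^ 2 ≤ 2 ^ (2 * (p ^ (m + 1) - p ^ m)) := by
    rw [mul_comm 2, pow_mul 2]
    exact Nat.pow_le_pow_left (pow_sub_ge (m := m) hp hp2) 2
  have h3 : (p ^ (m + 1) - 1) ^ 2 < (p ^ (m + 1)) ^ 2 :=
    Nat.pow_lt_pow_left (by have := pow_pos hp.pos (m + 1); omega) two_ne_zero
  omega

end Weights

end CfsgLib.Core.HHTop
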