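import Mathlib
import Cfsg.Agent.Lib.Core.HHCritical.TopDisplacement
import Cfsg.Agent.Lib.Core.HHCritical.Main
import Cfsg.Agent.Lib.PGroups.MaxAbelian

/-!
# Tops of exceptional elements commute on a `2`-group of class two

* `commute_of_tops`
-/

set_option autoImplicit false
set_option linter.all false

namespace CfsgLib.Core.HHTop

open Subgroup QuadDerived
open scoped commutatorElement

variable {X : Type*} [Group X] [Finite X] {K : Type*} [Field K] {V : Type*} [AddCommGroup V]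
  [Module K V] [FiniteDimensional K V]

set_option maxHeartbeats 1000000 in
/-- The commutator of two tops is central on a class two `2`-group. -/
theorem commute_of_tops [IsAlgClosed K] {p m : ℕ} [hpf : Fact p.Prime] [CharP K p] (hp2 : p ≠ 2)
    (ρ : X →* Module.End K V) (hfaith : Function.Injective ρ)
    {U B : Subgroup X} (hBp : IsPGroup p B) (hBU : B ≤ normalizer (U : Set X))
    (hcen : ∀ u ∈ U, ∀ u' ∈ U, ∀ w ∈ U, ⁅u, u'⁆ * w = w * ⁅u, u'⁆)
    (hsq : ∀ u ∈ U, ∀ w ∈ U, u * u * w = w * (u * u))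
    {g h : X} (hgB : g ∈ B) (hhB : h ∈ B) (hgP : g ^ p ^ (m + 1) = 1) (hhP : h ^ p ^ (m + 1) = 1)
    (hNg : ∑ i ∈ Finset.range (p ^ (m + 1)), ρ (g ^ i) = 0)
    (hNh : ∑ i ∈ Finset.range (p ^ (m + 1)), ρ (h ^ i) = 0) :
    ∀ u ∈ U, ∀ w ∈ U, ⁅⁅g ^ p ^ m, h ^ p ^ m⁆, u⁆ * w = w * ⁅⁅g ^ p ^ m, h ^ p ^ m⁆, u⁆ := by
  classical
  intro u hu u' hu'
  by_contra hmove
  have hp : p.Prime := hpf.out
  have h2 : (2 : K) ≠ 0 := by
    intro h
    have h' : ((2 : ℕ) : K) = 0 := by exact_mod_cast h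
    rw [CharP.cast_eq_zero_iff K p] at h'
    exact hp2 ((Nat.prime_dvd_prime_iff_eq hp Nat.prime_two).1 h')
  have hodd : Odd p := hp.odd_of_ne_two hp2
  have hconj : ∀ b ∈ B, ∀ s ∈ U, b⁻¹ * s * b ∈ U := fun b hb s hs => by
    have := (mem_normalizer_iff.1 (hBU (B.inv_mem hb)) s).1 hs
    rwa [inv_inv] at this
  have hconj' : ∀ b ∈ B, ∀ s ∈ U, b * s * b⁻¹ ∈ U := fun b hb s hs =>
    (mem_normalizer_iff.1 (hBU hb) s).1 hs
  set cc := ⁅g ^ p ^ m, h ^ p ^ m⁆ with hccdef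
  have hccB : cc ∈ B := by
    rw [hccdef, commutatorElement_def]
    exact mul_mem (mul_mem (mul_mem (pow_mem hgB _) (pow_mem hhB _)) (inv_mem (pow_mem hgB _)))
      (inv_mem (pow_mem hhB _))
  -- the centre of `U`
  set W := U ⊓ centralizer (U : Set X) with hW
  have hWc : ∀ s ∈ W, ∀ w ∈ U, s * w = w * s := fun s hs w hw => (mem_centralizer_iff.1 hs.2 w hw).symm
  have hcW : ∀ x ∈ U, ∀ y ∈ U, ⁅x, y⁆ ∈ W := fun x hx y hy => Subgroup.mem_inf.2
    ⟨by rw [commutatorElement_def]; exact mul_mem (mul_mem (mul_mem hx hy) (U.inv_mem hx)) (U.inv_mem hy),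
      mem_centralizer_iff.2 fun w hw => (hcen x hx y hy w hw).symm⟩
  have hWconj : ∀ b ∈ B, ∀ s ∈ (W : Set X), b⁻¹ * s * b ∈ (W : Set X) := fun b hb s hs =>
    Subgroup.mem_inf.2 ⟨hconj b hb s hs.1, mem_centralizer_iff.2 fun y hy => by
      have h1 := hWc s hs _ (hconj' b hb y hy)
      calc y * (b⁻¹ * s * b) = b⁻¹ * ((b * y * b⁻¹) * s) * b := by group
        _ = b⁻¹ * (s * (b * y * b⁻¹)) * b := by rw [h1]
        _ = b⁻¹ * s * b * y := by group⟩
  set w := ⁅cc, u⁆ with hwdef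
  have hwU : w ∈ U := by
    rw [hwdef, commutatorElement_def]
    exact mul_mem (hconj' cc hccB u hu) (U.inv_mem hu)
  set z0 := ⁅w, u'⁆ with hz0def
  have hz0W : z0 ∈ W := hcW w hwU u' hu'
  have hz0ne : z0 ≠ 1 := fun h => hmove (commutatorElement_eq_one_iff_mul_comm.1 h)
  have hcsq : ∀ x ∈ U, ∀ y ∈ U, ⁅x, y⁆ * ⁅x, y⁆ = 1 := fun x hx y hy => by
    have e : ⁅x * x, y⁆ = x * ⁅x, y⁆ * x⁻¹ * ⁅x, y⁆ := by simp only [commutatorElement_def]; group
    rw [← hcen x hx y hy x hx, mul_inv_cancel_right] at e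
    rw [← e, commutatorElement_eq_one_iff_mul_comm]
    exact hsq x hx y hy
  -- a common eigenvector with `z0 = -1`
  obtain ⟨f, v0, hv00, hv0, hfz⟩ : ∃ (f : X → K) (v : V), v ≠ 0 ∧ v ∈ eig ρ (W : Set X) f ∧ f z0 = -1 := by
    set V0 := LinearMap.ker (ρ z0 + 1) with hV0
    have hinv : ∀ s : W, ∀ v ∈ V0, ρ (s : X) v ∈ V0 := by
      intro s v hv
      rw [LinearMap.mem_ker] at hv ⊢
      have hcm : (ρ z0 + 1) * ρ (s : X) = ρ (s : X) * (ρ z0 + 1) := by
        rw [add_mul, mul_add, ← map_mul, ← map_mul, hWc z0 hz0W _ s.2.1, one_mul, mul_one]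
      rw [← Module.End.mul_apply, hcm, Module.End.mul_apply, hv, map_zero]
    haveI : Nontrivial V0 := by
      rw [Submodule.nontrivial_iff_ne_bot, Submodule.ne_bot_iff]
      obtain ⟨v, hv⟩ : ∃ v, ρ z0 v ≠ v := by
        by_contra h
        push Not at h
        exact hz0ne (hfaith (by rw [map_one]; exact LinearMap.ext h))
      refine ⟨v - ρ z0 v, ?_, sub_ne_zero.2 hv.symm⟩
      rw [LinearMap.mem_ker, LinearMap.add_apply, Module.End.one_apply, map_sub,
        ← Module.End.mul_apply, ← map_mul, hcsq w hwU u' hu', map_one, Module.End.one_apply]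
      abel
    obtain ⟨lam, v, hv, hlam⟩ := CfsgLib.Core.HHCritical.exists_common_eigenvector
      (fun s : W => (ρ (s : X)).restrict (hinv s)) (fun s t => LinearMap.ext fun v => Subtype.ext (by
        show ρ (s : X) (ρ (t : X) v) = ρ (t : X) (ρ (s : X) v)
        rw [← Module.End.mul_apply, ← Module.End.mul_apply, ← map_mul, ← map_mul,
          hWc _ s.2 _ t.2.1]))
    refine ⟨fun x => if h : x ∈ W then lam ⟨x, h⟩ else 0, (v : V), fun h => hv (Subtype.ext h),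
      fun s hs => ?_, ?_⟩
    · show ρ s (v : V) = (if h : s ∈ W then lam ⟨s, h⟩ else 0) • (v : V)
      rw [dif_pos (show s ∈ W from hs)]
      exact congrArg Subtype.val (hlam ⟨s, hs⟩)
    · show (if h : z0 ∈ W then lam ⟨z0, h⟩ else 0) = -1
      rw [dif_pos hz0W]
      have h1 := congrArg Subtype.val (hlam ⟨z0, hz0W⟩)
      have h2' : ρ z0 (v : V) + (v : V) = 0 := v.2
      change ρ z0 (v : V) = lam ⟨z0, hz0W⟩ • (v : V) at h1
      rw [h1] at h2'
      have h3 : (lam ⟨z0, hz0W⟩ + 1) • (v : V) = 0 := by rw [add_smul, one_smul, h2']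
      exact eq_neg_of_add_eq_zero_left ((smul_eq_zero.1 h3).resolve_right fun h => hv (Subtype.ext h))
  set Vl := eig ρ (W : Set X) f with hVl
  have hfmulW : ∀ s ∈ W, ∀ t ∈ W, f (s * t) = f s * f t := fun s hs t ht => by
    refine smul_left_injective K hv00 ?_
    show f (s * t) • v0 = (f s * f t) • v0
    rw [← hv0 _ (mul_mem hs ht), map_mul, Module.End.mul_apply, hv0 t ht, map_smul, hv0 s hs, smul_smul,
      mul_comm]
  have hf1 : f 1 = 1 := smul_left_injective K hv00 (show f 1 • v0 = (1 : K) • v0 by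
    rw [← hv0 1 (one_mem W), map_one, Module.End.one_apply, one_smul])
  -- `B` fixes `f`
  let Kl : Subgroup X :=
    { carrier := {x | x ∈ U ∧ ∀ y ∈ U, f ⁅x, y⁆ = 1}
      one_mem' := ⟨one_mem U, fun y _ => by rw [commutatorElement_one_left, hf1]⟩
      mul_mem' := fun {x x'} hx hx' => ⟨mul_mem hx.1 hx'.1, fun y hy => by
        have e : ⁅x * x', y⁆ = x * ⁅x', y⁆ * x⁻¹ * ⁅x, y⁆ := by simp only [commutatorElement_def]; group
        rw [e, ← hcen x' hx'.1 y hy x hx.1, mul_inv_cancel_right,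
          hfmulW _ (hcW x' hx'.1 y hy) _ (hcW x hx.1 y hy), hx'.2 y hy, hx.2 y hy, one_mul]⟩
      inv_mem' := fun {x} hx => ⟨inv_mem hx.1, fun y hy => by
        have e : ⁅x⁻¹, y⁆ = x⁻¹ * ⁅x, y⁆⁻¹ * x := by simp only [commutatorElement_def]; group
        have h1 := hcW x hx.1 y hy
        have h3 : ⁅x, y⁆⁻¹ * x = x * ⁅x, y⁆⁻¹ :=
          hWc _ (inv_mem h1) x hx.1
        rw [e, mul_assoc, h3, inv_mul_cancel_left]
        have h4 := hfmulW _ h1 _ (inv_mem h1)
        rw [mul_inv_cancel, hf1, hx.2 y hy, one_mul] at h4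
        exact h4.symm⟩ }
  have hWKl : W ≤ Kl := fun s hs => ⟨hs.1, fun y hy => by
    rw [commutatorElement_eq_one_iff_mul_comm.2 (hWc s hs y hy), hf1]⟩
  have hwK : w ∉ Kl := fun h => by
    have := h.2 u' hu'
    rw [← hz0def, hfz] at this
    exact h2 (by linear_combination (-1 : K) * this)
  -- an eigenvector of the radical
  obtain ⟨μ, v1, hv10, hv1μ, hv1l⟩ : ∃ (μ : X → K) (v : V), v ≠ 0 ∧ v ∈ eig ρ (Kl : Set X) μ ∧ v ∈ Vl := by
    have hinv : ∀ s : Kl, ∀ v ∈ Vl, ρ (s : X) v ∈ Vl := fun s v hv t ht => by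
      rw [← Module.End.mul_apply, ← map_mul, hWc t ht _ s.2.1, map_mul, Module.End.mul_apply, hv t ht,
        map_smul]
    haveI : Nontrivial Vl := Submodule.nontrivial_iff_ne_bot.2
      ((Submodule.ne_bot_iff _).2 ⟨v0, hv0, hv00⟩)
    obtain ⟨lam, v, hv, hlam⟩ := CfsgLib.Core.HHCritical.exists_common_eigenvector
      (fun s : Kl => (ρ (s : X)).restrict (hinv s)) (fun s t => LinearMap.ext fun v => Subtype.ext (by
        show ρ (s : X) (ρ (t : X) v) = ρ (t : X) (ρ (s : X) v)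
        have e : (s : X) * (t : X) = ⁅(s : X), (t : X)⁆ * ((t : X) * s) := by
          rw [commutatorElement_def]; group
        rw [← Module.End.mul_apply, ← map_mul, e, map_mul, Module.End.mul_apply, map_mul,
          Module.End.mul_apply, (hinv t (ρ (s : X) v) (hinv s v v.2)) _ (hcW _ s.2.1 _ t.2.1),
          s.2.2 _ t.2.1, one_smul]))
    refine ⟨fun x => if h : x ∈ Kl then lam ⟨x, h⟩ else 0, (v : V), fun h => hv (Subtype.ext h),
      fun s hs => ?_, v.2⟩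
    show ρ s (v : V) = (if h : s ∈ Kl then lam ⟨s, h⟩ else 0) • (v : V)
    rw [dif_pos (show s ∈ Kl from hs)]
    exact congrArg Subtype.val (hlam ⟨s, hs⟩)
  -- conjugation preserves what is fixed
  have hVlinv : ∀ b ∈ B, (∀ s ∈ W, f (b⁻¹ * s * b) = f s) → ∀ v ∈ Vl, ρ b v ∈ Vl := by
    intro b hb hfix v hv s hs
    refine (eig_conj ρ (hWconj b hb) hv s hs).trans ?_
    show f (b⁻¹ * s * b) • _ = _
    rw [hfix s hs]
  have hKlinv : ∀ b ∈ B, (∀ s ∈ W, f (b⁻¹ * s * b) = f s) → ∀ s ∈ (Kl : Set X), b⁻¹ * s * b ∈ (Kl : Set X) := by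
    intro b hb hfix s hs
    refine ⟨hconj b hb s hs.1, fun y hy => ?_⟩
    have e : ⁅b⁻¹ * s * b, y⁆ = b⁻¹ * ⁅s, b * y * b⁻¹⁆ * b := by
      simp only [commutatorElement_def]; group
    rw [e, hfix _ (hcW _ hs.1 _ (hconj' b hb y hy)), hs.2 _ (hconj' b hb y hy)]
  -- the stabiliser of both systems
  let B' : Subgroup X := Subgroup.closure
    {b | b ∈ B ∧ (∀ s ∈ W, f (b⁻¹ * s * b) = f s) ∧ ∀ s ∈ Kl, μ (b⁻¹ * s * b) = μ s}
  have hB' : ∀ b ∈ B', b ∈ B ∧ (∀ s ∈ W, f (b⁻¹ * s * b) = f s) ∧ ∀ s ∈ Kl, μ (b⁻¹ * s * b) = μ s := by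
    have hone : ∀ s : X, (1 : X)⁻¹ * s * 1 = s := fun s => by simp
    have hmul : ∀ b b', (b ∈ B ∧ (∀ s ∈ W, f (b⁻¹ * s * b) = f s) ∧ ∀ s ∈ Kl, μ (b⁻¹ * s * b) = μ s) →
        (b' ∈ B ∧ (∀ s ∈ W, f (b'⁻¹ * s * b') = f s) ∧ ∀ s ∈ Kl, μ (b'⁻¹ * s * b') = μ s) →
        (b * b' ∈ B ∧ (∀ s ∈ W, f ((b * b')⁻¹ * s * (b * b')) = f s) ∧
          ∀ s ∈ Kl, μ ((b * b')⁻¹ * s * (b * b')) = μ s) := by
      intro b b' hb hb'
      have e : ∀ s : X, (b * b')⁻¹ * s * (b * b') = b'⁻¹ * (b⁻¹ * s * b) * b' := fun s => by group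
      exact ⟨mul_mem hb.1 hb'.1, fun s hs => by rw [e, hb'.2.1 _ (hWconj b hb.1 s hs), hb.2.1 s hs],
        fun s hs => by rw [e, hb'.2.2 _ (hKlinv b hb.1 hb.2.1 s hs), hb.2.2 s hs]⟩
    intro b hb
    change b ∈ (Subgroup.closure _).toSubmonoid at hb
    rw [Subgroup.closure_toSubmonoid_of_finite] at hb
    induction hb using Submonoid.closure_induction with
    | mem b hb => exact hb
    | one => exact ⟨one_mem B, fun s _ => by rw [hone], fun s _ => by rw [hone]⟩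
    | mul b b' _ _ hb hb' => exact hmul b b' hb hb'
  have hB'B : B' ≤ B := fun b hb => (hB' b hb).1
  have hB'U : B' ≤ normalizer (U : Set X) := hB'B.trans hBU
  have hBfixf : ∀ b ∈ B', ∀ s ∈ W, f (b⁻¹ * s * b) = f s := fun b hb => (hB' b hb).2.1
  have hBfixμ : ∀ b ∈ B', ∀ s ∈ Kl, μ (b⁻¹ * s * b) = μ s := fun b hb => (hB' b hb).2.2
  have hKlconj : ∀ b ∈ B', ∀ s ∈ (Kl : Set X), b⁻¹ * s * b ∈ (Kl : Set X) := fun b hb =>
    hKlinv b (hB'B hb) (hBfixf b hb)
  -- a power of each of the two elements fixes both systems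
  have horb : ∀ y ∈ B, y ^ p ^ (m + 1) = 1 → ∑ i ∈ Finset.range (p ^ (m + 1)), ρ (y ^ i) = 0 →
      ∃ n, n ≤ m ∧ y ^ p ^ (m - n) ∈ B' ∧ ∀ v ∈ eig ρ (Kl : Set X) μ, v ∈ Vl →
        ∑ k ∈ Finset.range (p ^ (n + 1)), ρ ((y ^ p ^ (m - n)) ^ k) v = 0 := by
    intro y hy hyP hyN
    obtain ⟨l, hl, hfix, hN1⟩ := exists_fixing_power ρ hp hyP (hWconj y hy) ⊤
      (fun v _ => Submodule.mem_top)
      (fun v _ => by
        have h := LinearMap.congr_fun hyN v
        rwa [LinearMap.sum_apply, LinearMap.zero_apply] at h)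
      hv0 Submodule.mem_top hv00
    have hy1 : y ^ p ^ l ∈ B := pow_mem hy _
    obtain ⟨l', hl', hfix', hN2⟩ := exists_fixing_power ρ hp (m := m - l) (g := y ^ p ^ l)
      (by rw [← pow_mul, ← pow_add, show l + (m - l + 1) = m + 1 by omega, hyP])
      (hKlinv _ hy1 hfix) Vl (hVlinv _ hy1 hfix)
      (fun v hv => by
        have h := hN1 v hv Submodule.mem_top
        rw [show m + 1 - l = m - l + 1 by omega] at h
        simpa only [map_pow] using h)
      hv1μ hv1l hv10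
    refine ⟨m - (l + l'), by omega, Subgroup.subset_closure ?_, fun v hv hv' => ?_⟩
    · rw [show m - (m - (l + l')) = l + l' by omega, pow_add, pow_mul]
      refine ⟨pow_mem hy1 _, fun s hs => ?_, hfix'⟩
      -- powers keep the first system
      have hk : ∀ k : ℕ, ∀ s ∈ W, f (((y ^ p ^ l) ^ k)⁻¹ * s * (y ^ p ^ l) ^ k) = f s := by
        intro k
        induction k with
        | zero => intro s _; simp
        | succ k ih =>
          intro s hs
          have e : ((y ^ p ^ l) ^ (k + 1))⁻¹ * s * (y ^ p ^ l) ^ (k + 1) =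
              (y ^ p ^ l)⁻¹ * (((y ^ p ^ l) ^ k)⁻¹ * s * (y ^ p ^ l) ^ k) * y ^ p ^ l := by
            rw [pow_succ]; group
          rw [e, hfix _ (hWconj _ (pow_mem hy1 _) s hs), ih s hs]
      exact hk _ s hs
    · have h := hN2 v hv hv'
      rw [show m - (m - (l + l')) = l + l' by omega, show m - (l + l') + 1 = m - l + 1 - l' by omega,
        pow_add p l l', pow_mul y]
      exact h
  -- the restriction to the common eigenspace
  set E := eig ρ (Kl : Set X) μ ⊓ Vl with hE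
  haveI : Nontrivial E := Submodule.nontrivial_iff_ne_bot.2
    ((Submodule.ne_bot_iff _).2 ⟨v1, ⟨hv1μ, hv1l⟩, hv10⟩)
  have hEU : ∀ y ∈ U, ∀ v ∈ E, ρ y v ∈ E := by
    intro y hy v hv
    refine ⟨fun s hs => ?_, fun s hs => ?_⟩
    · have e : s * y = ⁅s, y⁆ * (y * s) := by rw [commutatorElement_def]; group
      have hsW : ⁅s, y⁆ ∈ W := hcW s hs.1 y hy
      rw [← Module.End.mul_apply, ← map_mul, e, map_mul, map_mul, Module.End.mul_apply,
        Module.End.mul_apply, hv.1 s hs, map_smul, map_smul]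
      congr 1
      rw [← Module.End.mul_apply, ← map_mul, hWc _ hsW y hy, map_mul, Module.End.mul_apply,
        hv.2 _ hsW, hs.2 y hy, one_smul]
    · rw [← Module.End.mul_apply, ← map_mul, hWc s hs y hy, map_mul, Module.End.mul_apply, hv.2 s hs,
        map_smul]
  have hEB : ∀ b ∈ B', ∀ v ∈ E, ρ b v ∈ E := by
    intro b hb v hv
    refine ⟨fun s hs => ?_, fun s hs => ?_⟩
    · refine (eig_conj ρ (hKlconj b hb) hv.1 s hs).trans ?_
      show μ (b⁻¹ * s * b) • _ = _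
      rw [hBfixμ b hb s hs]
    · refine (eig_conj ρ (hWconj b (hB'B hb)) hv.2 s hs).trans ?_
      show f (b⁻¹ * s * b) • _ = _
      rw [hBfixf b hb s hs]
  haveI hKn : (Kl.subgroupOf U).Normal := ⟨fun n hn g => mem_subgroupOf.2 (by
    have hn' := mem_subgroupOf.1 hn
    have e : ((g * n * g⁻¹ : U) : X) = ⁅(g : X), (n : X)⁆ * (n : X) := by
      rw [coe_mul, coe_mul, coe_inv, commutatorElement_def]; group
    rw [e]
    exact mul_mem (hWKl (hcW _ g.2 _ n.2)) hn')⟩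
  letI : CommGroup (U ⧸ Kl.subgroupOf U) :=
    { (inferInstance : Group (U ⧸ Kl.subgroupOf U)) with
      mul_comm := fun x y => by
        induction x using QuotientGroup.induction_on with
        | H x =>
          induction y using QuotientGroup.induction_on with
          | H y =>
            rw [← QuotientGroup.mk_mul, ← QuotientGroup.mk_mul, QuotientGroup.eq, mem_subgroupOf]
            have e : (((x * y)⁻¹ * (y * x) : U) : X) = ⁅(y : X)⁻¹, (x : X)⁻¹⁆ := by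
              simp only [coe_mul, coe_inv, commutatorElement_def]; group
            rw [e]
            exact hWKl (hcW _ (U.inv_mem y.2) _ (U.inv_mem x.2)) }
  have hMsq : ∀ x : (U ⧸ Kl.subgroupOf U), x ^ 2 = 1 := by
    intro x
    induction x using QuotientGroup.induction_on with
    | H x =>
      rw [← QuotientGroup.mk_pow, QuotientGroup.eq_one_iff, mem_subgroupOf, coe_pow, pow_two]
      exact hWKl (Subgroup.mem_inf.2 ⟨mul_mem x.2 x.2, mem_centralizer_iff.2 fun y hy =>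
        (hsq x x.2 y hy).symm⟩)
  let sec : (U ⧸ Kl.subgroupOf U) → U := fun x => x.out
  have hsec : ∀ x, ((sec x : U) : (U ⧸ Kl.subgroupOf U)) = x := fun x => QuotientGroup.out_eq' x
  let r : ∀ y : X, (∀ v ∈ E, ρ y v ∈ E) → Module.End K E := fun y hy => (ρ y).restrict hy
  let e : (U ⧸ Kl.subgroupOf U) → Module.End K E := fun x => r (sec x : X) (hEU _ (sec x).2)
  let einv : (U ⧸ Kl.subgroupOf U) → Module.End K E := fun x => r ((sec x : X)⁻¹) (hEU _ (U.inv_mem (sec x).2))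
  have hev : ∀ x (v : E), ((e x v : E) : V) = ρ (sec x : X) v := fun x v => rfl
  have heiv : ∀ x (v : E), ((einv x v : E) : V) = ρ (sec x : X)⁻¹ v := fun x v => rfl
  have he : ∀ x, e x * einv x = 1 := fun x => LinearMap.ext fun v => Subtype.ext (by
    rw [Module.End.mul_apply, Module.End.one_apply, hev, heiv, ← Module.End.mul_apply, ← map_mul,
      mul_inv_cancel, map_one]; rfl)
  have he' : ∀ x, einv x * e x = 1 := fun x => LinearMap.ext fun v => Subtype.ext (by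
    rw [Module.End.mul_apply, Module.End.one_apply, heiv, hev, ← Module.End.mul_apply, ← map_mul,
      inv_mul_cancel, map_one]; rfl)
  let χ : (U ⧸ Kl.subgroupOf U) → (U ⧸ Kl.subgroupOf U) → K := fun x y => f ⁅(sec x : X), (sec y : X)⁆
  have hfl : ∀ x : U, ∀ y ∈ U, f ⁅(sec (x : (U ⧸ Kl.subgroupOf U)) : X), y⁆ = f ⁅(x : X), y⁆ := by
    intro x y hy
    have hd : (x : X)⁻¹ * (sec (x : (U ⧸ Kl.subgroupOf U)) : X) ∈ Kl := by
      have h := QuotientGroup.eq.1 (hsec (x : (U ⧸ Kl.subgroupOf U))).symm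
      rw [mem_subgroupOf, coe_mul, coe_inv] at h
      exact h
    set d := (x : X)⁻¹ * (sec (x : (U ⧸ Kl.subgroupOf U)) : X) with hdd
    have e : ⁅(sec (x : (U ⧸ Kl.subgroupOf U)) : X), y⁆ = x * ⁅d, y⁆ * (x : X)⁻¹ * ⁅(x : X), y⁆ := by
      rw [hdd]; simp only [commutatorElement_def]; group
    rw [e, ← hcen d hd.1 y hy x x.2, mul_inv_cancel_right,
      hfmulW _ (hcW d hd.1 y hy) _ (hcW x x.2 y hy), hd.2 y hy, one_mul]
  have hfswap : ∀ x ∈ U, ∀ y ∈ U, f ⁅y, x⁆ = f ⁅x, y⁆ := fun x hx y hy => by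
    rw [← commutatorElement_inv, inv_eq_of_mul_eq_one_right (hcsq x hx y hy)]
  have hfr : ∀ x ∈ U, ∀ y : U, f ⁅x, (sec (y : (U ⧸ Kl.subgroupOf U)) : X)⁆ = f ⁅x, (y : X)⁆ := fun x hx y => by
    rw [← hfswap x hx _ (sec (y : (U ⧸ Kl.subgroupOf U))).2, hfl y x hx, hfswap x hx y y.2]
  have hχ : ∀ x y, e x * e y = χ x y • (e y * e x) := fun x y => LinearMap.ext fun v => Subtype.ext (by
    show ρ (sec x : X) (ρ (sec y : X) v) = f ⁅(sec x : X), (sec y : X)⁆ • ρ (sec y : X) (ρ (sec x : X) v)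
    have e1 : (sec x : X) * sec y = ⁅(sec x : X), (sec y : X)⁆ * ((sec y : X) * sec x) := by
      rw [commutatorElement_def]; group
    rw [← Module.End.mul_apply, ← map_mul, e1, map_mul, Module.End.mul_apply, map_mul,
      Module.End.mul_apply,
      (hEU _ (sec y).2 _ (hEU _ (sec x).2 _ v.2)).2 _ (hcW _ (sec x).2 _ (sec y).2)])
  have hχmul : ∀ x x' y, χ (x * x') y = χ x y * χ x' y := by
    intro x x' y
    show f ⁅(sec (x * x') : X), (sec y : X)⁆ = _
    have hx : x * x' = ((sec x * sec x' : U) : (U ⧸ Kl.subgroupOf U)) := by rw [QuotientGroup.mk_mul, hsec, hsec]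
    rw [hx, hfl _ _ (sec y).2, coe_mul]
    have e1 : ⁅(sec x : X) * sec x', (sec y : X)⁆ =
        sec x * ⁅(sec x' : X), (sec y : X)⁆ * (sec x : X)⁻¹ * ⁅(sec x : X), (sec y : X)⁆ := by
      simp only [commutatorElement_def]; group
    rw [e1, ← hcen _ (sec x').2 _ (sec y).2 _ (sec x).2, mul_inv_cancel_right,
      hfmulW _ (hcW _ (sec x').2 _ (sec y).2) _ (hcW _ (sec x).2 _ (sec y).2), mul_comm]
  have hχne : ∀ x y, χ x y ≠ 0 := fun x y h => by
    have h1 := hfmulW _ (hcW _ (sec x).2 _ (sec y).2) _ (hcW _ (sec x).2 _ (sec y).2)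
    rw [hcsq _ (sec x).2 _ (sec y).2, hf1, show f ⁅(sec x : X), (sec y : X)⁆ = 0 from h, mul_zero] at h1
    exact one_ne_zero h1
  have hχnd : ∀ x, x ≠ 1 → ∃ b, χ b x ≠ 1 := by
    intro x hx
    by_contra hall
    push Not at hall
    refine hx ?_
    rw [← hsec x, QuotientGroup.eq_one_iff, mem_subgroupOf]
    refine ⟨(sec x).2, fun y hy => ?_⟩
    have h := hall ((⟨y, hy⟩ : U) : (U ⧸ Kl.subgroupOf U))
    change f ⁅(sec ((⟨y, hy⟩ : U) : (U ⧸ Kl.subgroupOf U)) : X), (sec x : X)⁆ = 1 at h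
    rw [hfl ⟨y, hy⟩ _ (sec x).2] at h
    rw [← hfswap y hy _ (sec x).2] at h
    exact h
  have hNM : (Nat.card (U ⧸ Kl.subgroupOf U) : K) ≠ 0 := by
    haveI := Fact.mk Nat.prime_two
    obtain ⟨j, hj⟩ := IsPGroup.iff_card.1 (show IsPGroup 2 (U ⧸ Kl.subgroupOf U) from fun x => ⟨1, by rw [pow_one]; exact hMsq x⟩)
    rw [hj, Nat.cast_pow]
    exact pow_ne_zero _ (by exact_mod_cast h2)
  have hμne : ∀ s ∈ Kl, μ s ≠ 0 := fun s hs h => hv10 (by
    have h1 := hv1μ s hs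
    rw [h, zero_smul] at h1
    have h3 := congrArg (ρ s⁻¹) h1
    rwa [← Module.End.mul_apply, ← map_mul, inv_mul_cancel, map_one, Module.End.one_apply, map_zero] at h3)
  -- representatives differ by scalars
  have hscal : ∀ (x : U) (v : E), ∃ c : K, c ≠ 0 ∧ ∀ v : E,
      ρ (sec (x : (U ⧸ Kl.subgroupOf U)) : X) v = c • ρ (x : X) v ∧ ρ (sec (x : (U ⧸ Kl.subgroupOf U)) : X)⁻¹ v = c⁻¹ • ρ (x : X)⁻¹ v := by
    intro x _
    have hd : (x : X)⁻¹ * (sec (x : (U ⧸ Kl.subgroupOf U)) : X) ∈ Kl := by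
      have h := QuotientGroup.eq.1 (hsec (x : (U ⧸ Kl.subgroupOf U))).symm
      rw [mem_subgroupOf, coe_mul, coe_inv] at h
      exact h
    refine ⟨μ ((x : X)⁻¹ * (sec (x : (U ⧸ Kl.subgroupOf U)) : X)), hμne _ hd, fun v => ⟨?_, ?_⟩⟩
    · conv_lhs => rw [show (sec (x : (U ⧸ Kl.subgroupOf U)) : X) = (x : X) * ((x : X)⁻¹ * (sec (x : (U ⧸ Kl.subgroupOf U)) : X)) by
        rw [mul_inv_cancel_left]]
      rw [map_mul, Module.End.mul_apply, v.2.1 _ hd, map_smul]
    · have hd' := Kl.inv_mem hd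
      have h1 := (hEU _ (U.inv_mem x.2) _ v.2).1 _ hd'
      rw [← Module.End.mul_apply, ← map_mul,
        show ((x : X)⁻¹ * (sec (x : (U ⧸ Kl.subgroupOf U)) : X))⁻¹ * (x : X)⁻¹ = (sec (x : (U ⧸ Kl.subgroupOf U)) : X)⁻¹ by group] at h1
      rw [h1]
      congr 1
      refine eq_inv_of_mul_eq_one_left (smul_left_injective K hv10 ?_)
      show (μ _ * μ _) • v1 = (1 : K) • v1
      set d := (x : X)⁻¹ * (sec (x : (U ⧸ Kl.subgroupOf U)) : X) with hddef
      have h5 : ρ d⁻¹ (ρ d v1) = v1 := by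
        rw [← Module.End.mul_apply, ← map_mul, inv_mul_cancel, map_one, Module.End.one_apply]
      rw [hv1μ _ hd, map_smul, hv1μ _ hd', smul_smul] at h5
      rw [one_smul, mul_comm]
      exact h5
  have hcj : ∀ x y T, e (x * y) * T * einv (x * y) = e x * (e y * T * einv y) * einv x := by
    intro x y T
    have hxy : x * y = ((sec x * sec y : U) : (U ⧸ Kl.subgroupOf U)) := by rw [QuotientGroup.mk_mul, hsec, hsec]
    obtain ⟨c, hc, hcv⟩ := hscal (sec x * sec y) ⟨v1, hv1μ, hv1l⟩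
    rw [← hxy] at hcv
    refine LinearMap.ext fun v => Subtype.ext ?_
    simp only [Module.End.mul_apply, hev]
    set u0 : E := einv y (einv x v)
    have h1 : ((einv (x * y) v : E) : V) = c⁻¹ • (u0 : V) := by
      rw [heiv, (hcv v).2, show (u0 : V) = ρ (sec y : X)⁻¹ (ρ (sec x : X)⁻¹ v) from rfl]
      rw [coe_mul, mul_inv_rev, map_mul, Module.End.mul_apply]
    have h1' : einv (x * y) v = c⁻¹ • u0 := Subtype.ext h1
    rw [(hcv _).1, h1', map_smul, Submodule.coe_smul, coe_mul, map_mul, Module.End.mul_apply,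
      map_smul, map_smul, smul_smul, mul_inv_cancel₀ hc, one_smul]
  -- the action of `B'` on `(U ⧸ Kl.subgroupOf U)`
  have hKlmap : ∀ b ∈ B', ∀ s ∈ Kl, b * s * b⁻¹ ∈ Kl := fun b hb s hs => by
    have h := hKlconj b⁻¹ (B'.inv_mem hb) s hs
    rwa [inv_inv] at h
  let cB : B' →* MulAut U := U.normalizerMonoidHom.comp (Subgroup.inclusion hB'U)
  have hcBK : ∀ b : B', (Kl.subgroupOf U).map (cB b).toMonoidHom = Kl.subgroupOf U := by
    intro b
    ext x
    constructor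
    · rintro ⟨y, hy, rfl⟩
      exact mem_subgroupOf.2 (hKlmap b b.2 _ (mem_subgroupOf.1 hy))
    · intro hx
      refine ⟨cB b⁻¹ x, mem_subgroupOf.2 (hKlmap _ (b⁻¹).2 _ (mem_subgroupOf.1 hx)), ?_⟩
      show cB b (cB b⁻¹ x) = x
      rw [← MulAut.mul_apply, ← map_mul, mul_inv_cancel, map_one]; rfl
  let τ : B' → MulAut (U ⧸ Kl.subgroupOf U) := fun b => QuotientGroup.congr _ _ (cB b) (hcBK b)
  have hτ : ∀ (b : B') (x : U), τ b (x : (U ⧸ Kl.subgroupOf U)) = ((cB b x : U) : (U ⧸ Kl.subgroupOf U)) := fun b x => rfl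
  letI : MulAction B' (U ⧸ Kl.subgroupOf U) :=
    { smul := fun b x => τ b x
      one_smul := fun x => by
        induction x using QuotientGroup.induction_on with
        | H x => show τ 1 (x : (U ⧸ Kl.subgroupOf U)) = x; rw [hτ, map_one]; rfl
      mul_smul := fun b c x => by
        induction x using QuotientGroup.induction_on with
        | H x => show τ (b * c) (x : (U ⧸ Kl.subgroupOf U)) = τ b (τ c (x : (U ⧸ Kl.subgroupOf U))); rw [hτ, hτ, hτ, map_mul]; rfl }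
  have hsmul : ∀ (b : B') (x : (U ⧸ Kl.subgroupOf U)), b • x = τ b x := fun b x => rfl
  have hsmulmk : ∀ (b : B') (x : U), ((b • (x : (U ⧸ Kl.subgroupOf U)) : (U ⧸ Kl.subgroupOf U))) = ((⟨(b : X) * x * (b : X)⁻¹, hconj' b (hB'B b.2) x x.2⟩ : U) : (U ⧸ Kl.subgroupOf U)) :=
    fun b x => rfl
  -- the displacement of a top
  have hτmul : ∀ b b' : B', τ (b * b') = τ b * τ b' := fun b b' => MulEquiv.ext fun x => mul_smul b b' x
  let τh : B' →* MulAut (U ⧸ Kl.subgroupOf U) := MonoidHom.mk' τ hτmul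
  have hdispl : ∀ (a1 : B') (n : ℕ), (a1 : X) ^ p ^ (n + 1) = 1 →
      (∀ v ∈ E, ∑ k ∈ Finset.range (p ^ (n + 1)), ρ ((a1 : X) ^ k) v = 0) →
      Nat.card ((τh a1 ^ p ^ n).toMonoidHom / MonoidHom.id (U ⧸ Kl.subgroupOf U)).range ≤
        (p ^ (n + 1) - 1) ^ 2 := by
    intro a1 n hap hN2
    set σ : MulAut (U ⧸ Kl.subgroupOf U) := τ a1 with hσdef
    have hσap : ∀ x : (U ⧸ Kl.subgroupOf U), σ x = a1 • x := fun x => rfl
    have hσp : σ ^ p ^ (n + 1) = 1 := by
      show τh a1 ^ p ^ (n + 1) = 1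
      rw [← map_pow, show a1 ^ p ^ (n + 1) = 1 from Subtype.ext (by rw [coe_pow, hap]; rfl), map_one]
    set Xo := r (a1 : X) (hEB _ a1.2)
    set Xi := r (a1 : X)⁻¹ (hEB _ (B'.inv_mem a1.2))
    have hXX : Xo * Xi = 1 := LinearMap.ext fun v => Subtype.ext (by
      show ρ (a1 : X) (ρ (a1 : X)⁻¹ v) = v
      rw [← Module.End.mul_apply, ← map_mul, mul_inv_cancel, map_one]; rfl)
    have hXX' : Xi * Xo = 1 := LinearMap.ext fun v => Subtype.ext (by
      show ρ (a1 : X)⁻¹ (ρ (a1 : X) v) = v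
      rw [← Module.End.mul_apply, ← map_mul, inv_mul_cancel, map_one]; rfl)
    have hqE : (Xo - 1) ^ (p ^ (n + 1) - 1) = 0 := by
      have h1 := congrArg (Polynomial.aeval Xo) (HHCritical.poly_sub_one_pow (K := K) p (n + 1))
      simp only [map_pow, map_sub, Polynomial.aeval_X, map_one, map_sum] at h1
      rw [h1]
      have hk : ∀ (k : ℕ) (v : E), (((Xo ^ k) v : E) : V) = ρ ((a1 : X) ^ k) v := by
        intro k
        induction k with
        | zero => intro v; rw [pow_zero, pow_zero, map_one]; rfl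
        | succ k ih =>
          intro v
          rw [pow_succ' Xo, Module.End.mul_apply, pow_succ' (a1 : X), map_mul, Module.End.mul_apply, ← ih]
          rfl
      refine LinearMap.ext fun v => Subtype.ext ?_
      rw [LinearMap.sum_apply, AddSubmonoidClass.coe_finsetSum, LinearMap.zero_apply, Submodule.coe_zero]
      simp only [hk]
      exact hN2 v v.2
    have hσsec : ∀ x : (U ⧸ Kl.subgroupOf U), σ x = ((⟨(a1 : X) * sec x * (a1 : X)⁻¹, hconj' _ (hB'B a1.2) _ (sec x).2⟩ : U) : (U ⧸ Kl.subgroupOf U)) := by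
      intro x
      conv_lhs => rw [← hsec x]
      exact hsmulmk a1 (sec x)
    have hχσ : ∀ x y, χ (σ x) (σ y) = χ x y := by
      intro x y
      show f ⁅(sec (σ x) : X), (sec (σ y) : X)⁆ = _
      rw [hσsec x, hσsec y, hfl _ _ (sec _).2, hfr _ (hconj' _ (hB'B a1.2) _ (sec x).2)]
      have e1 : ⁅(a1 : X) * sec x * (a1 : X)⁻¹, (a1 : X) * sec y * (a1 : X)⁻¹⁆ =
          (a1 : X)⁻¹⁻¹ * ⁅(sec x : X), (sec y : X)⁆ * (a1 : X)⁻¹ := by
        simp only [commutatorElement_def]; group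
      show f ⁅(a1 : X) * sec x * (a1 : X)⁻¹, (a1 : X) * sec y * (a1 : X)⁻¹⁆ = _
      rw [e1, hBfixf _ (B'.inv_mem a1.2) _ (hcW _ (sec x).2 _ (sec y).2)]
    have hXe : ∀ x T, Xo * (e x * T * einv x) * Xi = e (σ x) * (Xo * T * Xi) * einv (σ x) := by
      intro x T
      obtain ⟨c, hc, hcv⟩ := hscal ⟨(a1 : X) * sec x * (a1 : X)⁻¹, hconj' _ (hB'B a1.2) _ (sec x).2⟩ ⟨v1, hv1μ, hv1l⟩
      rw [← hσsec x] at hcv
      refine LinearMap.ext fun v => Subtype.ext ?_
      simp only [Module.End.mul_apply, hev]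
      set u0 : E := Xo (einv x (Xi v))
      have h1 : einv (σ x) v = c⁻¹ • u0 := Subtype.ext (by
        rw [heiv, (hcv v).2, Submodule.coe_smul]
        congr 1
        show _ = ρ (a1 : X) (ρ (sec x : X)⁻¹ (ρ (a1 : X)⁻¹ v))
        rw [← Module.End.mul_apply, ← Module.End.mul_apply, ← map_mul, ← map_mul]
        congr 2
        show ((a1 : X) * sec x * (a1 : X)⁻¹)⁻¹ = _
        group)
      have h3 : Xi u0 = einv x (Xi v) := by
        show Xi (Xo (einv x (Xi v))) = _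
        rw [← Module.End.mul_apply, hXX', Module.End.one_apply]
      rw [(hcv _).1, h1, map_smul, h3, map_smul, map_smul, Submodule.coe_smul, map_smul, smul_smul,
        mul_inv_cancel₀ hc, one_smul]
      show ρ (a1 : X) (ρ (sec x : X) (T (einv x (Xi v)) : V)) =
        ρ ((a1 : X) * sec x * (a1 : X)⁻¹) (ρ (a1 : X) (T (einv x (Xi v)) : V))
      simp only [← Module.End.mul_apply, ← map_mul, inv_mul_cancel_right]
    have h4 := card_le_sq_mul_fixed hp e einv he he' χ hχ hχmul hχne hχnd hcj hNM σ hσp Xo Xi hXX hXX'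
      hqE hχσ hXe
    let δ : (U ⧸ Kl.subgroupOf U) →* (U ⧸ Kl.subgroupOf U) :=
      (τh a1 ^ p ^ n).toMonoidHom / MonoidHom.id (U ⧸ Kl.subgroupOf U)
    show Nat.card δ.range ≤ _
    have hδ : ∀ x, δ x = (σ ^ p ^ n) x / x := fun x => rfl
    have h5 : Nat.card (U ⧸ Kl.subgroupOf U) = Nat.card δ.range * Nat.card δ.ker := by
      rw [Subgroup.card_eq_card_quotient_mul_card_subgroup δ.ker,
        Nat.card_congr (QuotientGroup.quotientKerEquivRange δ).toEquiv]
    have h6 : Nat.card {x : (U ⧸ Kl.subgroupOf U) // (σ ^ p ^ n) x = x} = Nat.card δ.ker := Nat.card_congr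
      (Equiv.subtypeEquivRight fun x => by rw [MonoidHom.mem_ker, hδ, div_eq_one])
    rw [h6, h5] at h4
    exact Nat.le_of_mul_le_mul_right h4 Nat.card_pos
  -- tops lie in a self centralising abelian normal subgroup
  have hP1 : IsPGroup p τh.range :=
    (hBp.to_le hB'B).of_surjective _ τh.rangeRestrict_surjective
  haveI : Finite τh.range := Finite.of_surjective _ τh.rangeRestrict_surjective
  obtain ⟨A, hAn, hAc, hAcen⟩ := CfsgLib.PGroups.exists_selfCentralizing' hP1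
  have htop : ∀ y ∈ B, y ^ p ^ (m + 1) = 1 → ∑ i ∈ Finset.range (p ^ (m + 1)), ρ (y ^ i) = 0 →
      ∃ ha : y ^ p ^ m ∈ B', τh.rangeRestrict ⟨y ^ p ^ m, ha⟩ ∈ A := by
    intro y hy hyP hyN
    obtain ⟨n, hn, hy2, hN2⟩ := horb y hy hyP hyN
    have hyn : y ^ p ^ m = (y ^ p ^ (m - n)) ^ p ^ n := by
      rw [← pow_mul, ← pow_add, Nat.sub_add_cancel hn]
    have ha : y ^ p ^ m ∈ B' := hyn ▸ pow_mem hy2 _
    refine ⟨ha, ?_⟩
    have hy2P : (y ^ p ^ (m - n)) ^ p ^ (n + 1) = 1 := by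
      rw [← pow_mul, ← pow_add, show m - n + (n + 1) = m + 1 by omega, hyP]
    have e : τh.rangeRestrict ⟨y ^ p ^ m, ha⟩ = τh.rangeRestrict ⟨_, hy2⟩ ^ p ^ n := by
      rw [← map_pow]
      exact congrArg _ (Subtype.ext hyn)
    rw [e, ← hAcen, mem_centralizer_iff]
    intro c hc
    refine Subtype.ext ?_
    have h := commute_of_small_displacement hp hp2 (fun x => by rw [← pow_two]; exact hMsq x)
      (A.map τh.range.subtype)
      ((hP1.to_subgroup A).map _)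
      (by
        rintro _ ⟨c, hc, rfl⟩ _ ⟨c', hc', rfl⟩
        exact congrArg Subtype.val (congrArg Subtype.val (hAc.is_comm.comm (⟨c, hc⟩ : A) ⟨c', hc'⟩)))
      (x := τh ⟨_, hy2⟩)
      (by
        rintro _ ⟨c, hc, rfl⟩
        refine ⟨(τh.rangeRestrict ⟨_, hy2⟩)⁻¹ * c * τh.rangeRestrict ⟨_, hy2⟩, ?_, rfl⟩
        have := hAn.conj_mem c hc (τh.rangeRestrict ⟨_, hy2⟩)⁻¹
        rwa [inv_inv] at this)
      (m := n)
      (by rw [← map_pow, show (⟨_, hy2⟩ : B') ^ p ^ (n + 1) = 1 from Subtype.ext (by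
        rw [coe_pow, hy2P]; rfl), map_one])
      (hdispl ⟨_, hy2⟩ n hy2P fun v hv => hN2 v hv.1 hv.2) _ (mem_map_of_mem _ hc)
    exact h.symm
  obtain ⟨hga, hgA⟩ := htop g hgB hgP hNg
  obtain ⟨hha, hhA⟩ := htop h hhB hhP hNh
  have hcc : cc ∈ B' := by
    rw [hccdef, commutatorElement_def]
    exact mul_mem (mul_mem (mul_mem hga hha) (inv_mem hga)) (inv_mem hha)
  have hτcc : τh ⟨cc, hcc⟩ = 1 := by
    have e : (⟨cc, hcc⟩ : B') = ⁅(⟨_, hga⟩ : B'), (⟨_, hha⟩ : B')⁆ := Subtype.ext rfl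
    rw [e, map_commutatorElement, commutatorElement_eq_one_iff_mul_comm]
    exact congrArg Subtype.val (congrArg Subtype.val (hAc.is_comm.comm (⟨_, hgA⟩ : A) ⟨_, hhA⟩))
  have h3 : (⟨cc, hcc⟩ : B') • ((⟨u, hu⟩ : U) : (U ⧸ Kl.subgroupOf U)) =
      ((⟨u, hu⟩ : U) : (U ⧸ Kl.subgroupOf U)) := by
    show τh ⟨cc, hcc⟩ _ = _
    rw [hτcc]; rfl
  apply hwK
  rw [hsmulmk, eq_comm, QuotientGroup.eq, mem_subgroupOf, coe_mul, coe_inv] at h3
  have h4 : u * (u⁻¹ * (cc * u * cc⁻¹)) * u⁻¹ ∈ Kl := by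
    have := hWKl (hcW u hu (u⁻¹ * (cc * u * cc⁻¹)) (mul_mem (U.inv_mem hu) (hconj' cc hccB u hu)))
    have e1 : u * (u⁻¹ * (cc * u * cc⁻¹)) * u⁻¹ =
        ⁅u, u⁻¹ * (cc * u * cc⁻¹)⁆ * (u⁻¹ * (cc * u * cc⁻¹)) := by
      rw [commutatorElement_def]; group
    rw [e1]
    exact mul_mem this h3
  rw [hwdef, commutatorElement_def]
  convert h4 using 1
  group

end CfsgLib.Core.HHTop
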