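import Mathlib
import Cfsg.Agent.Lib.Core.HHCritical.TopsCommute
import Cfsg.Agent.Lib.Core.HHCritical.DerivedStep
import Cfsg.Agent.Lib.Core.Cores

/-!
# The Hall–Higman bound `l ≤ 2e`

* `frattini_rep`: `H / O_p(H)` acts faithfully on the Frattini quotient of `O_p(H)`
* `tops_commutator_mem_pCore`: tops in a `p`-subgroup commute modulo `O_p`
* `pow_mem_pCore_of_tops_commute`: if tops commute then they lie in `O_p`
-/

set_option autoImplicit false
set_option linter.all false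

namespace CfsgLib.Core.HHTop

open Subgroup CfsgLib.Core
open scoped TensorProduct commutatorElement

universe u

theorem frattini_rep {H : Type u} [Group H] [Finite H] {p : ℕ} [hp : Fact p.Prime]
    (hsol : Cfsg.IsPSolvable p H) (hO : Cfsg.pPrimeCore p H = ⊥) :
    ∃ (M : Type u) (_ : AddCommGroup M) (_ : Finite M)
      (r0 : H ⧸ Cfsg.pCore p H →* AddMonoid.End M) (em : Cfsg.pCore p H → M),
      (∀ x : M, p • x = 0) ∧ Function.Injective r0 ∧ Function.Surjective em ∧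
        (∀ r r', em (r * r') = em r + em r') ∧
        ∀ (h : H) (r : Cfsg.pCore p H),
          r0 (h : H ⧸ Cfsg.pCore p H) (em r) =
            em ⟨h * r * h⁻¹, (normal_pCore p H).conj_mem r r.2 h⟩ := by
  obtain ⟨Φ, hΦn, V, hVn, hVR, hΦR, hVc, hVp, hCV, -⟩ := CfsgLib.PGroups.frattini_module hsol hO
  set ψ := QuotientGroup.mk' Φ with hψ
  have hψs := QuotientGroup.mk'_surjective Φ
  letI : CommGroup V :=
    { (inferInstance : Group V) with mul_comm := fun v w => Subtype.ext (hVc v v.2 w w.2) }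
  let c : (H ⧸ Φ) →* AddMonoid.End (Additive V) :=
    { toFun := fun x => MonoidHom.toAdditive (MulAut.conjNormal x : MulAut V).toMonoidHom
      map_one' := by rw [map_one]; rfl
      map_mul' := fun x y => by rw [map_mul]; rfl }
  have hc : ∀ (x : H ⧸ Φ) (v : V),
      ((Additive.toMul (c x (Additive.ofMul v)) : V) : H ⧸ Φ) = x * v * x⁻¹ :=
    fun x v => MulAut.conjNormal_apply x v
  have hker : Cfsg.pCore p H ≤ (c.comp ψ).ker := fun x hx => DFunLike.ext _ _ fun v => by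
    have hxV : ψ x ∈ V := hVR.ge hx
    apply Additive.toMul.injective
    apply Subtype.ext
    show ((Additive.toMul (c (ψ x) (Additive.ofMul (Additive.toMul v))) : V) : H ⧸ Φ) = _
    rw [hc, hVc _ hxV _ (Additive.toMul v).2, mul_inv_cancel_right]; rfl
  let em : Cfsg.pCore p H → Additive V := fun r => Additive.ofMul ⟨ψ r, hVR.ge r.2⟩
  refine ⟨Additive V, inferInstance, inferInstance, QuotientGroup.lift _ (c.comp ψ) hker, em, fun w =>
    Additive.toMul.injective (Subtype.ext (by simpa using hVp _ (Additive.toMul w).2)), ?_, ?_, ?_, ?_⟩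
  · rw [← MonoidHom.ker_eq_bot_iff, Subgroup.eq_bot_iff_forall]
    intro g hg
    obtain ⟨x, rfl⟩ := QuotientGroup.mk'_surjective _ g
    refine (QuotientGroup.eq_one_iff x).mpr (hVR.le (hCV (mem_centralizer_iff.mpr fun v hv => ?_)))
    have h1 := hc (ψ x) ⟨v, hv⟩
    rw [show c (ψ x) = 1 from hg] at h1
    exact (mul_inv_eq_iff_eq_mul.mp h1.symm).symm
  · intro w
    obtain ⟨⟨y, hy⟩, rfl⟩ := Additive.ofMul.surjective w
    obtain ⟨r, rfl⟩ := hψs y
    exact ⟨⟨r, hVR.le hy⟩, rfl⟩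
  · intro r r'
    exact Additive.toMul.injective (Subtype.ext (map_mul ψ (r : H) r'))
  · intro h r
    refine Additive.toMul.injective (Subtype.ext ?_)
    show ((Additive.toMul (c (ψ h) (Additive.ofMul ⟨ψ r, hVR.ge r.2⟩)) : V) : H ⧸ Φ) = ψ (h * r * h⁻¹)
    rw [hc, map_mul, map_mul, map_inv]

theorem rpow_div_mem {H : Type*} [Group H] (R : Subgroup H) [hR : R.Normal] (h r : H) (hr : r ∈ R) :
    ∀ k : ℕ, (r * h) ^ k * (h ^ k)⁻¹ ∈ R := by
  intro k
  induction k with
  | zero => simp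
  | succ k ih =>
    have e : (r * h) ^ (k + 1) * (h ^ (k + 1))⁻¹ =
        (r * h) ^ k * (h ^ k)⁻¹ * (h ^ k * r * (h ^ k)⁻¹) := by
      rw [pow_succ, pow_succ]; group
    rw [e]
    exact mul_mem ih (hR.conj_mem r hr _)

/-- The norm is a quotient of powers. -/
theorem norm_apply {H : Type u} [Group H] {R : Subgroup H} [R.Normal] {M : Type u} [AddCommGroup M]
    (r0 : H ⧸ R →* AddMonoid.End M) (em : R → M) (hadd : ∀ r r', em (r * r') = em r + em r')
    (hact : ∀ (h : H) (r : R), r0 (h : H ⧸ R) (em r) = em ⟨h * r * h⁻¹, ‹R.Normal›.conj_mem r r.2 h⟩)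
    (h : H) (r : R) (k : ℕ) :
    (∑ i ∈ Finset.range k, r0 (h : H ⧸ R) ^ i) (em r) =
      em ⟨((r : H) * h) ^ k * (h ^ k)⁻¹, rpow_div_mem R h r r.2 k⟩ := by
  induction k with
  | zero =>
    have h1 := hadd 1 1
    rw [mul_one, left_eq_add] at h1
    rw [Finset.range_zero, Finset.sum_empty]
    refine h1.symm.trans (congrArg em (Subtype.ext ?_))
    simp
  | succ k ih =>
    rw [Finset.sum_range_succ]
    show (∑ i ∈ Finset.range k, r0 (h : H ⧸ R) ^ i) (em r) + (r0 (h : H ⧸ R) ^ k) (em r) = _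
    rw [ih, ← map_pow, ← QuotientGroup.mk_pow, hact, ← hadd]
    refine congrArg em (Subtype.ext ?_)
    show ((r : H) * h) ^ k * (h ^ k)⁻¹ * (h ^ k * r * (h ^ k)⁻¹) = ((r : H) * h) ^ (k + 1) * (h ^ (k + 1))⁻¹
    rw [pow_succ, pow_succ]; group

theorem eq_one_of_conj_eq' {X : Type*} [Group X] {p q j : ℕ} (hp : p.Prime) (hq : q.Prime)
    (hpq : p ≠ q) {S : Subgroup X} (hS : IsPGroup q S) {a u c : X} (hc : c ∈ S)
    (hap : a ^ p ^ j = 1) (hac : a * c = c * a) (hau : a * u = c * u * a) : c = 1 := by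
  have h : ∀ k : ℕ, a ^ k * u = c ^ k * u * a ^ k := by
    intro k
    induction k with
    | zero => simp
    | succ k ih =>
      have e : a * c ^ k = c ^ k * a := Commute.pow_right hac k
      calc a ^ (k + 1) * u = a * (a ^ k * u) := by rw [pow_succ', mul_assoc]
        _ = a * c ^ k * u * a ^ k := by rw [ih]; group
        _ = c ^ k * (a * u) * a ^ k := by rw [e]; group
        _ = c ^ k * c * u * (a * a ^ k) := by rw [hau]; group
        _ = c ^ (k + 1) * u * a ^ (k + 1) := by rw [← pow_succ, ← pow_succ']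
  have h1 := h (p ^ j)
  rw [hap, one_mul, mul_one, eq_comm, mul_eq_right] at h1
  obtain ⟨i, hi⟩ := hS ⟨c, hc⟩
  have hi' : c ^ q ^ i = 1 := congrArg Subtype.val hi
  have h2 := pow_gcd_eq_one.mpr (⟨h1, hi'⟩ : c ^ p ^ j = 1 ∧ c ^ q ^ i = 1)
  rwa [(Nat.Coprime.pow j i ((Nat.coprime_primes hp hq).2 hpq)).gcd_eq_one, pow_one] at h2

/-- An element centralising every invariant Sylow subgroup of `O_{p'}` is trivial. -/
theorem eq_one_of_centralize {X : Type u} [Group X] [Finite X] {p : ℕ} [hp : Fact p.Prime]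
    (hsol : Cfsg.IsPSolvable p X) (hO : Cfsg.pCore p X = ⊥) {B : Subgroup X} (hB : IsPGroup p B)
    {a : X} (ha : a ∈ B)
    (h : ∀ (q : ℕ) [Fact q.Prime], p ≠ q → ∀ S : Subgroup X, IsPGroup q S →
      B ≤ normalizer (S : Set X) → ∀ s ∈ S, a * s = s * a) : a = 1 := by
  classical
  set Q := Cfsg.pPrimeCore p X with hQ
  have hQc : (Nat.card Q).Coprime p := coprime_card_pPrimeCore p _
  have hcop : (Nat.card B).Coprime (Nat.card Q) := by
    obtain ⟨j, hj⟩ := IsPGroup.iff_card.1 hB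
    rw [hj]; exact hQc.symm.pow_left j
  haveI := hB.isNilpotent
  have hsyl : ∀ (q : ℕ) [Fact q.Prime] (S : Sylow q Q),
      B ≤ normalizer ((S : Subgroup Q).map Q.subtype : Set X) →
      ∀ s ∈ (S : Subgroup Q).map Q.subtype, a * s = s * a := by
    intro q hq' S hSN s hs
    by_cases hqp : p = q
    · subst hqp
      have hS'q : IsPGroup p ((S : Subgroup Q).map Q.subtype) := S.2.map _
      have hS1 : (S : Subgroup Q).map Q.subtype = ⊥ := by
        obtain ⟨j, hj⟩ := IsPGroup.iff_card.1 hS'q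
        rcases j with _ | j
        · exact Subgroup.eq_bot_of_card_eq _ (by rw [hj, pow_zero])
        · exfalso
          have h1 : p ∣ Nat.card Q := (dvd_pow_self p j.succ_ne_zero).trans
            (hj ▸ Subgroup.card_dvd_of_le (map_subtype_le _))
          exact hp.out.ne_one (Nat.Coprime.eq_one_of_dvd hQc.symm h1)
      rw [hS1, Subgroup.mem_bot] at hs
      rw [hs, mul_one, one_mul]
    · exact h q hqp _ (S.2.map _) hSN s hs
  have hc' : a ∈ centralizer (Q : Set X) := by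
    have htop : (centralizer ({a} : Set X)).subgroupOf Q = ⊤ := by
      refine Subgroup.eq_top_of_card_eq _ (Nat.dvd_antisymm (Subgroup.card_subgroup_dvd_card _) ?_)
      refine (Nat.dvd_iff_prime_pow_dvd_dvd _ _).mpr fun q k hq hk => ?_
      haveI := Fact.mk hq
      obtain ⟨S, hS⟩ := exists_invariant_sylow (A := B) (K := Q) (le_normalizer_of_normal B Q) hcop
        (Or.inl inferInstance) q
      refine (S.pow_dvd_card_of_pow_dvd_card hk).trans (Subgroup.card_dvd_of_le fun s hs => ?_)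
      rw [mem_subgroupOf, mem_centralizer_singleton_iff]
      exact (hsyl q S hS _ (mem_map_of_mem _ hs)).symm
    rw [mem_centralizer_iff]
    intro y hy
    have h1 : (⟨y, hy⟩ : Q) ∈ (centralizer ({a} : Set X)).subgroupOf Q := htop.ge (mem_top _)
    rw [mem_subgroupOf, mem_centralizer_singleton_iff] at h1
    exact h1
  have h1 := CfsgLib.PGroups.centralizer_pPrimeCore_le hsol hO hc'
  obtain ⟨j, hj⟩ := hB ⟨_, ha⟩
  have hj' : a ^ p ^ j = 1 := congrArg Subtype.val hj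
  have h3 := pow_gcd_eq_one.mpr (⟨orderOf_dvd_iff_pow_eq_one.mp (Subgroup.orderOf_dvd_natCard Q h1),
    hj'⟩ : a ^ Nat.card Q = 1 ∧ a ^ p ^ j = 1)
  rwa [(hQc.pow_right j).gcd_eq_one, pow_one] at h3

/-- The top centralises a normalised `q`-group outside the exceptional case. -/
theorem commute_of_norm {X : Type u} [Group X] [Finite X] {p q m : ℕ} [hp : Fact p.Prime]
    [hq : Fact q.Prime] (hp2 : p ≠ 2) (hpq : p ≠ q) {M : Type u} [AddCommGroup M] [Finite M]
    (hM : ∀ x : M, p • x = 0) (r0 : X →* AddMonoid.End M) (hinj : Function.Injective r0)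
    {U : Subgroup X} (hU : IsPGroup q U) (hno : HHCritical.NoExc p q U) {x : X}
    (hx : x ∈ normalizer (U : Set X)) (hxp : x ^ p ^ (m + 1) = 1)
    (hN : ∑ i ∈ Finset.range (p ^ (m + 1)), r0 x ^ i = 0) :
    ∀ y ∈ U, x ^ p ^ m * y = y * x ^ p ^ m := by
  intro y hy
  let θ : MulAut U := U.normalizerMonoidHom ⟨x, hx⟩
  have hθc : ∀ (k : ℕ) (b : U), (((θ ^ k) b : U) : X) = x ^ k * b * (x ^ k)⁻¹ := by
    intro k b
    simp only [θ, ← map_pow]
    rfl
  have h := HHCritical.fixed_of_norm_eq_zero' (m := m) hp2 hpq hM hU hno (r0.comp U.subtype) θ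
    (MulEquiv.ext fun b => Subtype.ext (by rw [hθc, hxp]; simp)) (r0 x)
    (fun b => by
      show r0 x * r0 b = r0 _ * r0 x
      rw [← map_mul, ← map_mul]
      congr 1
      have e := hθc 1 b
      simp only [pow_one] at e
      show x * b = ((θ b : U) : X) * x
      rw [e, inv_mul_cancel_right]) hN ⟨y, hy⟩
  have h' := hinj h
  rw [Subgroup.subtype_apply, Subgroup.subtype_apply, hθc, mul_inv_eq_iff_eq_mul] at h'
  exact h'

/-- A linear representation over an algebraically closed field. -/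
theorem exists_linear {M : Type u} [AddCommGroup M] [Finite M] {p : ℕ} [hp : Fact p.Prime]
    (hM : ∀ x : M, p • x = 0) :
    ∃ (W : Type u) (_ : AddCommGroup W) (_ : Module (AlgebraicClosure (ZMod p)) W)
      (_ : FiniteDimensional (AlgebraicClosure (ZMod p)) W)
      (ι : AddMonoid.End M →+* Module.End (AlgebraicClosure (ZMod p)) W), Function.Injective ι := by
  haveI : Module (ZMod p) M := AddCommGroup.zmodModule hM
  haveI : Module.Finite (ZMod p) M := Module.Finite.of_finite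
  let K := AlgebraicClosure (ZMod p)
  obtain ⟨ee, hee⟩ : ∃ e : AddMonoid.End M → Module.End (ZMod p) M, ∀ f v, e f v = f v :=
    ⟨fun f => AddMonoidHom.toZModLinearMap p (f : M →+ M), fun f v => rfl⟩
  let lin : AddMonoid.End M →+* Module.End (ZMod p) M :=
    { toFun := ee
      map_one' := LinearMap.ext fun v => by rw [hee, Module.End.one_apply]; rfl
      map_mul' := fun f g => LinearMap.ext fun v => by rw [Module.End.mul_apply, hee, hee, hee]; rfl
      map_zero' := LinearMap.ext fun v => by rw [hee, LinearMap.zero_apply]; rfl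
      map_add' := fun f g => LinearMap.ext fun v => by rw [LinearMap.add_apply, hee, hee, hee]; rfl }
  let ι : AddMonoid.End M →+* Module.End K (K ⊗[ZMod p] M) :=
    ((Module.End.baseChangeHom (ZMod p) K M).toRingHom).comp lin
  have hι : Function.Injective ι := by
    obtain ⟨l, hl⟩ := LinearMap.exists_leftInverse_of_injective (Algebra.linearMap (ZMod p) K)
      (LinearMap.ker_eq_bot.2 (algebraMap (ZMod p) K).injective)
    have hl1 : l 1 = 1 := by simpa using LinearMap.congr_fun hl 1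
    have hmk : Function.Injective fun v : M => (1 : K) ⊗ₜ[ZMod p] v := fun v w h => by
      have := congrArg (fun x => TensorProduct.lid (ZMod p) M (l.rTensor M x)) h
      simpa [hl1] using this
    intro f g h
    refine DFunLike.ext _ _ fun v => hmk ?_
    have h' := LinearMap.congr_fun h ((1 : K) ⊗ₜ v)
    change (1 : K) ⊗ₜ[ZMod p] (ee f v) = (1 : K) ⊗ₜ[ZMod p] (ee g v) at h'
    rwa [hee, hee] at h'
  exact ⟨_, inferInstance, inferInstance, inferInstance, ι, hι⟩

/-- Tops in a `p`-subgroup commute modulo `O_p`. -/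
theorem tops_commutator_mem_pCore {H : Type u} [Group H] [Finite H] {p : ℕ} [hp : Fact p.Prime]
    (hp2 : p ≠ 2) (hsol : Cfsg.IsPSolvable p H) (hO : Cfsg.pPrimeCore p H = ⊥) {e : ℕ}
    (hexp : ∀ x : H, (∃ k, x ^ p ^ k = 1) → x ^ p ^ (e + 1) = 1)
    {P : Subgroup H} (hP : IsPGroup p P) {x y : H} (hx : x ∈ P) (hy : y ∈ P) :
    ⁅x ^ p ^ e, y ^ p ^ e⁆ ∈ Cfsg.pCore p H := by
  classical
  obtain ⟨M, _, _, r0, em, hM, hinj, hem, hadd, hact⟩ := frattini_rep hsol hO
  obtain ⟨W, _, _, _, ι, hι⟩ := exists_linear hM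
  set κ := QuotientGroup.mk' (Cfsg.pCore p H) with hκ
  have hPmp : IsPGroup p (P.map κ) := hP.map κ
  -- the norms vanish
  have hnorm : ∀ z ∈ P, κ z ^ p ^ (e + 1) = 1 ∧
      ∑ i ∈ Finset.range (p ^ (e + 1)), r0 (κ z) ^ i = 0 := by
    intro z hz
    have hzp : ∃ k, z ^ p ^ k = 1 := by
      obtain ⟨k, hk⟩ := hP ⟨z, hz⟩
      exact ⟨k, congrArg Subtype.val hk⟩
    refine ⟨by rw [← map_pow, hexp z hzp, map_one], DFunLike.ext _ _ fun w => ?_⟩
    obtain ⟨r, rfl⟩ := hem w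
    rw [show κ z = (z : H ⧸ Cfsg.pCore p H) from rfl, norm_apply r0 em hadd hact]
    have hrz : ∃ k, ((r : H) * z) ^ p ^ k = 1 := by
      obtain ⟨k, hk⟩ := hzp
      have hmem : ((r : H) * z) ^ p ^ k ∈ Cfsg.pCore p H := by
        have h := rpow_div_mem (Cfsg.pCore p H) z r r.2 (p ^ k)
        rwa [hk, inv_one, mul_one] at h
      obtain ⟨l, hl⟩ := (isPGroup_pCore p H) ⟨_, hmem⟩
      exact ⟨k + l, by rw [pow_add, pow_mul]; simpa using congrArg Subtype.val hl⟩
    have h1 := hadd 1 1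
    rw [mul_one, left_eq_add] at h1
    refine Eq.trans (congrArg em (Subtype.ext ?_)) h1
    show ((r : H) * z) ^ p ^ (e + 1) * (z ^ p ^ (e + 1))⁻¹ = 1
    rw [hexp _ hrz, hexp z hzp, inv_one, mul_one]
  obtain ⟨hgP, hgN⟩ := hnorm x hx
  obtain ⟨hhP, hhN⟩ := hnorm y hy
  set a := κ x ^ p ^ e with ha
  set b := κ y ^ p ^ e with hb
  rw [← QuotientGroup.eq_one_iff]
  show κ ⁅x ^ p ^ e, y ^ p ^ e⁆ = 1
  rw [map_commutatorElement, map_pow, map_pow, ← ha, ← hb]
  have haP : a ∈ P.map κ := pow_mem (mem_map_of_mem κ hx) _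
  have hbP : b ∈ P.map κ := pow_mem (mem_map_of_mem κ hy) _
  have hcP : ⁅a, b⁆ ∈ P.map κ := by
    rw [commutatorElement_def]
    exact mul_mem (mul_mem (mul_mem haP hbP) (inv_mem haP)) (inv_mem hbP)
  refine eq_one_of_centralize (CfsgLib.PLocal.isPSolvable_quotient hsol _) (pCore_quotient_pCore p H)
    hPmp hcP fun q hq' hqp S hS hSN => ?_
  have hboth : ∀ (U : Subgroup (H ⧸ Cfsg.pCore p H)), IsPGroup q U → HHCritical.NoExc p q U →
      P.map κ ≤ normalizer (U : Set (H ⧸ Cfsg.pCore p H)) → ∀ u ∈ U, ⁅a, b⁆ * u = u * ⁅a, b⁆ := by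
    intro U hU hno hUN u hu
    have h1 : a ∈ centralizer ({u} : Set _) := mem_centralizer_singleton_iff.2
      (commute_of_norm hp2 hqp hM r0 hinj hU hno (hUN (mem_map_of_mem κ hx)) hgP hgN u hu)
    have h2 : b ∈ centralizer ({u} : Set _) := mem_centralizer_singleton_iff.2
      (commute_of_norm hp2 hqp hM r0 hinj hU hno (hUN (mem_map_of_mem κ hy)) hhP hhN u hu)
    refine mem_centralizer_singleton_iff.1 ?_
    rw [commutatorElement_def]
    exact mul_mem (mul_mem (mul_mem h1 h2) (inv_mem h1)) (inv_mem h2)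
  by_cases hq2 : q = 2
  swap
  · exact hboth S hS (Or.inr fun h => absurd h hq2) hSN
  subst hq2
  intro s hs
  obtain ⟨C, hCc, hCf, hcl, hself⟩ := CfsgLib.Transfer.exists_critical hS
  set C' := C.map S.subtype with hC'
  have hC'2 : IsPGroup 2 C' := (hS.to_subgroup C).map _
  have hBC : P.map κ ≤ normalizer (C' : Set (H ⧸ Cfsg.pCore p H)) := by
    rw [le_normalizer_iff]
    rintro d hd _ ⟨z, hz, rfl⟩
    let φ : MulAut S := S.normalizerMonoidHom ⟨d, hSN hd⟩
    exact ⟨φ z, (hCc.fixed φ).ge hz, rfl⟩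
  have hcen : ∀ u ∈ C', ∀ u' ∈ C', ∀ w ∈ C', ⁅u, u'⁆ * w = w * ⁅u, u'⁆ := by
    rintro _ ⟨u, hu, rfl⟩ _ ⟨u', hu', rfl⟩ _ ⟨w, hw, rfl⟩
    have h := mem_centralizer_iff.1 (hcl (commutator_mem_commutator hu (mem_top u'))).2 w hw
    rw [← map_commutatorElement, ← map_mul, ← map_mul, h]
  have hsq : ∀ u ∈ C', ∀ w ∈ C', u * u * w = w * (u * u) := by
    rintro _ ⟨u, hu, rfl⟩ _ ⟨w, hw, rfl⟩
    have h1 := hCf (mem_map_of_mem C.subtype
      (CfsgLib.PGroups.pow_mem_frattini (hS.to_subgroup C) (⟨u, hu⟩ : C)))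
    have h := mem_centralizer_iff.1 h1 w hw
    rw [Subgroup.subtype_apply, coe_pow, pow_two] at h
    rw [← map_mul, ← map_mul, ← map_mul, h]
  have hN' : ∀ z, (∑ i ∈ Finset.range (p ^ (e + 1)), r0 z ^ i) = 0 →
      ∑ i ∈ Finset.range (p ^ (e + 1)), ι.toMonoidHom.comp r0 (z ^ i) = 0 := by
    intro z hz
    have h := congrArg ι hz
    rw [map_sum, map_zero] at h
    rw [← h]
    refine Finset.sum_congr rfl fun i _ => ?_
    show ι (r0 (z ^ i)) = _
    rw [map_pow]
  have hcomm := commute_of_tops (K := AlgebraicClosure (ZMod p)) hp2 (ι.toMonoidHom.comp r0)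
    (hι.comp hinj) hPmp hBC hcen hsq (mem_map_of_mem κ hx) (mem_map_of_mem κ hy) hgP hhP
    (hN' _ hgN) (hN' _ hhN)
  set Z := C' ⊓ centralizer (C' : Set (H ⧸ Cfsg.pCore p H)) with hZ
  have hBZ : P.map κ ≤ normalizer (Z : Set (H ⧸ Cfsg.pCore p H)) := by
    rw [le_normalizer_iff]
    intro d hd z hz
    refine Subgroup.mem_inf.2 ⟨(mem_normalizer_iff.1 (hBC hd) z).1 hz.1,
      mem_centralizer_iff.2 fun w hw => ?_⟩
    have hw' : d⁻¹ * w * d⁻¹⁻¹ ∈ C' := (mem_normalizer_iff.1 (hBC (inv_mem hd)) w).1 hw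
    have h := mem_centralizer_iff.1 hz.2 _ hw'
    calc w * (d * z * d⁻¹) = d * (d⁻¹ * w * d⁻¹⁻¹ * z) * d⁻¹ := by group
      _ = d * (z * (d⁻¹ * w * d⁻¹⁻¹)) * d⁻¹ := by rw [h]
      _ = d * z * d⁻¹ * w := by group
  have hfixZ := hboth Z (hC'2.to_le inf_le_left)
    (Or.inr fun _ u v => Subtype.ext (mem_centralizer_iff.1 v.2.2 u u.2.1)) hBZ
  obtain ⟨j, hj⟩ := hPmp ⟨_, hcP⟩
  have hcp : ⁅a, b⁆ ^ p ^ j = 1 := congrArg Subtype.val hj
  have hfixC : ∀ z ∈ C', ⁅a, b⁆ * z = z * ⁅a, b⁆ := by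
    intro z hz
    have hcmem : ⁅⁅a, b⁆, z⁆ ∈ C' := by
      rw [commutatorElement_def]
      exact mul_mem ((mem_normalizer_iff.1 (hBC hcP) z).1 hz) (inv_mem hz)
    have hcZ : ⁅⁅a, b⁆, z⁆ ∈ Z := Subgroup.mem_inf.2 ⟨hcmem, mem_centralizer_iff.2 fun w hw =>
      (hcomm z hz w hw).symm⟩
    exact commutatorElement_eq_one_iff_mul_comm.1 (eq_one_of_conj_eq' hp.out Nat.prime_two hqp
      hC'2 hcmem hcp (hfixZ _ hcZ) (u := z) (by rw [commutatorElement_def]; group))
  have hnor : ∀ z ∈ C', ∀ t ∈ S, t * z * t⁻¹ ∈ C' := by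
    rintro _ ⟨z, hz, rfl⟩ t ht
    haveI := hCc
    exact ⟨⟨t, ht⟩ * z * (⟨t, ht⟩ : S)⁻¹, (inferInstance : C.Normal).conj_mem z hz _, rfl⟩
  obtain ⟨c, hcdef⟩ : ∃ c, c = ⁅a, b⁆ := ⟨_, rfl⟩
  rw [← hcdef] at hfixC hcP hcp ⊢
  set d := ⁅c, s⁆ with hd
  have hdS : d ∈ S := by
    rw [hd, commutatorElement_def]
    exact mul_mem ((mem_normalizer_iff.1 (hSN hcP) s).1 hs) (inv_mem hs)
  have hdC : d ∈ centralizer (C' : Set (H ⧸ Cfsg.pCore p H)) := by
    rw [mem_centralizer_iff]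
    intro z hz
    have h1 := hfixC _ (hnor z hz s⁻¹ (inv_mem hs))
    rw [inv_inv] at h1
    have h2 := hfixC z hz
    rw [hd, commutatorElement_def]
    have h3 : c * (s⁻¹ * z * s) * c⁻¹ = s⁻¹ * z * s := by rw [h1, mul_inv_cancel_right]
    have h4 : c * z * c⁻¹ = z := by rw [h2, mul_inv_cancel_right]
    calc z * (c * s * c⁻¹ * s⁻¹) = c * z * c⁻¹ * (c * s * c⁻¹ * s⁻¹) := by rw [h4]
      _ = c * s * c⁻¹ * (c * (s⁻¹ * z * s) * c⁻¹) * s⁻¹ := by group
      _ = c * s * c⁻¹ * s⁻¹ * z := by rw [h3]; group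
  have hdC' : d ∈ C' := by
    refine ⟨⟨d, hdS⟩, hself (mem_centralizer_iff.2 fun z hz => Subtype.ext ?_), rfl⟩
    exact mem_centralizer_iff.1 hdC _ (mem_map_of_mem S.subtype hz)
  exact commutatorElement_eq_one_iff_mul_comm.1 (eq_one_of_conj_eq' hp.out Nat.prime_two hqp
    hC'2 hdC' hcp (hfixC d hdC') (u := s) (by rw [commutatorElement_def]; group))

/-- If tops in `p`-subgroups commute, they lie in `O_p`. -/
theorem pow_mem_pCore_of_tops_commute {H : Type u} [Group H] [Finite H] {p : ℕ} [hp : Fact p.Prime]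
    (hp2 : p ≠ 2) (hsol : Cfsg.IsPSolvable p H) (hO : Cfsg.pPrimeCore p H = ⊥) {e : ℕ}
    (hexp : ∀ x : H, (∃ k, x ^ p ^ k = 1) → x ^ p ^ (e + 1) = 1)
    (hT : ∀ P : Subgroup H, IsPGroup p P → ∀ x ∈ P, ∀ y ∈ P, ⁅x ^ p ^ e, y ^ p ^ e⁆ = 1)
    {y : H} (hy : ∃ k, y ^ p ^ k = 1) : y ^ p ^ e ∈ Cfsg.pCore p H := by
  classical
  obtain ⟨M, _, _, r0, em, hM, hinj, hem, hadd, hact⟩ := frattini_rep hsol hO
  obtain ⟨W, _, _, _, ι, hι⟩ := exists_linear hM
  set κ := QuotientGroup.mk' (Cfsg.pCore p H) with hκ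
  set q0 := p ^ e with hq0
  have hyP : IsPGroup p (zpowers y) := by
    obtain ⟨k, hk⟩ := hy
    obtain ⟨j, -, hj⟩ := (Nat.dvd_prime_pow hp.out).mp (orderOf_dvd_of_pow_eq_one hk)
    exact IsPGroup.of_card (n := j) (by rw [Nat.card_zpowers, hj])
  have hPp : IsPGroup p ↥(Cfsg.pCore p H ⊔ zpowers y) := (isPGroup_pCore p H).to_sup_of_normal_left hyP
  set T := r0 (κ y) with hTdef
  have hkey : ∀ r : Cfsg.pCore p H,
      (T ^ q0) ((∑ i ∈ Finset.range q0, T ^ i) (em r)) = (∑ i ∈ Finset.range q0, T ^ i) (em r) := by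
    intro r
    rw [show T = r0 (y : H ⧸ Cfsg.pCore p H) from rfl, norm_apply r0 em hadd hact, ← map_pow,
      ← QuotientGroup.mk_pow, hact]
    refine congrArg em (Subtype.ext ?_)
    have h := hT _ hPp _ (mul_mem (mem_sup_left r.2) (mem_sup_right (mem_zpowers y))) y
      (mem_sup_right (mem_zpowers y))
    rw [commutatorElement_eq_one_iff_mul_comm] at h
    show y ^ q0 * (((r : H) * y) ^ q0 * (y ^ q0)⁻¹) * (y ^ q0)⁻¹ = ((r : H) * y) ^ q0 * (y ^ q0)⁻¹
    rw [← mul_assoc, ← h, mul_inv_cancel_right]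
  have hTN : T ^ q0 * (∑ i ∈ Finset.range q0, T ^ i) = ∑ i ∈ Finset.range q0, T ^ i :=
    DFunLike.ext _ _ fun w => by
      obtain ⟨r, rfl⟩ := hem w
      exact hkey r
  set X := ι T with hX
  have hgP : κ y ^ p ^ (e + 1) = 1 := by rw [← map_pow, hexp y hy, map_one]
  have hXP : X ^ p ^ (e + 1) = 1 := by rw [hX, hTdef, ← map_pow, ← map_pow, hgP, map_one, map_one]
  have hq00 : 0 < q0 := pow_pos hp.out.pos e
  have hs : (X - 1) ^ (q0 + (q0 - 1)) = 0 := by
    rcases subsingleton_or_nontrivial W with hW | hW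
    · exact Subsingleton.elim _ _
    haveI : CharP (Module.End (AlgebraicClosure (ZMod p)) W) p :=
      charP_of_injective_algebraMap (FaithfulSMul.algebraMap_injective (AlgebraicClosure (ZMod p)) _) p
    have h1 := congrArg (Polynomial.aeval X)
      (HHCritical.poly_sub_one_pow (K := AlgebraicClosure (ZMod p)) p e)
    simp only [map_pow, map_sub, Polynomial.aeval_X, map_one, map_sum] at h1
    rw [pow_add, h1, sub_pow_char_pow_of_commute p e (Commute.one_right X), one_pow, sub_mul, one_mul,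
      sub_eq_zero]
    have h2 := congrArg ι hTN
    simpa only [map_mul, map_sum, map_pow] using h2
  rw [← QuotientGroup.eq_one_iff]
  show κ (y ^ q0) = 1
  refine eq_one_of_centralize (CfsgLib.PLocal.isPSolvable_quotient hsol _) (pCore_quotient_pCore p H)
    (hPp.map κ) (mem_map_of_mem κ (pow_mem (mem_sup_right (mem_zpowers y)) _))
    fun q hq' hqp S hS hSN u hu => ?_
  have hxS : κ y ∈ normalizer (S : Set (H ⧸ Cfsg.pCore p H)) :=
    hSN (mem_map_of_mem κ (mem_sup_right (mem_zpowers y)))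
  let θ : MulAut S := S.normalizerMonoidHom ⟨κ y, hxS⟩
  have hθc : ∀ (k : ℕ) (b : S), (((θ ^ k) b : S) : H ⧸ Cfsg.pCore p H) = κ y ^ k * b * (κ y ^ k)⁻¹ := by
    intro k b
    simp only [θ, ← map_pow]
    rfl
  have h3 : 3 ≤ p := by have := hp.out.two_le; omega
  have hP : p ^ (e + 1) = p * q0 := by rw [pow_succ']
  rcases HHCritical.theoremB (K := AlgebraicClosure (ZMod p)) (s := q0 + (q0 - 1)) (m := e) hqp hS θ
      (MulEquiv.ext fun b => Subtype.ext (by rw [hθc, hgP]; simp))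
      ((ι.toMonoidHom.comp r0).comp S.subtype) X
      (fun b => by
        show ι T * ι (r0 b) = ι (r0 _) * ι T
        rw [← map_mul, ← map_mul, hTdef, ← map_mul, ← map_mul]
        congr 2
        have e' := hθc 1 b
        simp only [pow_one] at e'
        show κ y * b = ((θ b : S) : H ⧸ Cfsg.pCore p H) * κ y
        rw [e', inv_mul_cancel_right]) hXP hs
      (by rw [hP]; calc q0 + (q0 - 1) < 3 * q0 := by omega
          _ ≤ p * q0 := Nat.mul_le_mul_right _ h3) with h | h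
  · have h' := hinj (hι (h ⟨u, hu⟩))
    rw [Subgroup.subtype_apply, Subgroup.subtype_apply, hθc, mul_inv_eq_iff_eq_mul, ← map_pow] at h'
    exact h'
  · exfalso
    obtain ⟨⟨n0, b, hn0, hn0m, -, -, hle⟩, -⟩ := h
    have e1 : p ^ (e + 1 - n0) * (p ^ n0 - 1) = p ^ (e + 1) - p ^ (e + 1 - n0) := by
      rw [Nat.mul_sub, mul_one, ← pow_add, Nat.sub_add_cancel hn0m]
    have e2 : p ^ (e + 1 - n0) ≤ q0 := Nat.pow_le_pow_right hp.out.pos (by omega)
    have e3 : 3 * q0 ≤ p * q0 := Nat.mul_le_mul_right _ h3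
    rw [e1, hP] at hle
    omega

end CfsgLib.Core.HHTop
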