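import Mathlib
import Cfsg.Agent.Lib.Core.HHCritical.ModuleForm
import Cfsg.Agent.Lib.PLocal.PLength

/-!
# The Hall–Higman bound on the p-length

* `pLength_step`: one step of the bound outside the Fermat case
-/

set_option autoImplicit false
set_option linter.all false

namespace CfsgLib.Core.HHCritical

open Cfsg CfsgLib.Core
open scoped Pointwise

/-- A `p`-element of a quotient lifts to a `p`-element; a `q`-subgroup is covered by a Sylow
`q`-subgroup. -/
theorem exists_sylow_cover {G Q : Type*} [Group G] [Finite G] [Group Q] {f : G →* Q}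
    (hf : Function.Surjective f) {q : ℕ} [Fact q.Prime] {U : Subgroup Q} (hU : IsPGroup q U) :
    ∃ S : Sylow q G, U ≤ (S : Subgroup G).map f := by
  obtain ⟨T, hT⟩ := hU.exists_le_sylow
  obtain ⟨S, rfl⟩ := Sylow.mapSurjective_surjective hf q T
  exact ⟨S, hT⟩

/-- One step of the induction. -/
theorem pLength_step {H : Type*} [Group H] [Finite H] {p : ℕ} [hp : Fact p.Prime] (hsol : Cfsg.IsPSolvable p H)
    (hp2 : p ≠ 2) (hO : Cfsg.pPrimeCore p H = ⊥)
    (hab : (¬ ∃ k : ℕ, p = 2 ^ k + 1) ∨ ∀ U : Subgroup H, IsPGroup 2 U → IsMulCommutative U)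
    (e : ℕ) (hexp : ∀ x : H, (∃ k, x ^ p ^ k = 1) → x ^ p ^ (e + 1) = 1)
    (x : H) (hx : ∃ k, x ^ p ^ k = 1) : x ^ p ^ e ∈ Cfsg.pCore p H := by
  classical
  obtain ⟨Φ, hΦn, V, hVn, hVR, hΦR, hVc, hVp, hCV, hOX⟩ := CfsgLib.PGroups.frattini_module hsol hO
  set ψ := QuotientGroup.mk' Φ with hψ
  have hψs := QuotientGroup.mk'_surjective Φ
  set π := QuotientGroup.mk' V with hπ
  have hπs := QuotientGroup.mk'_surjective V
  refine hVR.le ?_
  show ψ (x ^ p ^ e) ∈ V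
  rw [← QuotientGroup.eq_one_iff (N := V)]
  show π (ψ (x ^ p ^ e)) = 1
  by_contra hne
  set a := ψ x with ha
  have hap : a ^ p ^ (e + 1) = 1 := by rw [ha, ← map_pow, hexp x hx, map_one]
  set b := π a with hb
  have hbe : b ^ p ^ e ≠ 1 := by rwa [hb, ha, ← map_pow, ← map_pow]
  have hbp : b ^ p ^ (e + 1) = 1 := by rw [hb, ← map_pow, hap, map_one]
  set Qb := Cfsg.pPrimeCore p ((H ⧸ Φ) ⧸ V) with hQb
  have hQc : (Nat.card Qb).Coprime p := coprime_card_pPrimeCore p _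
  have hsolX : Cfsg.IsPSolvable p ((H ⧸ Φ) ⧸ V) :=
    CfsgLib.PLocal.isPSolvable_quotient (CfsgLib.PLocal.isPSolvable_quotient hsol Φ) V
  have hnc : b ^ p ^ e ∉ Subgroup.centralizer (Qb : Set ((H ⧸ Φ) ⧸ V)) := by
    intro hc
    have h1 := CfsgLib.PGroups.centralizer_pPrimeCore_le hsolX hOX hc
    have h3 := pow_gcd_eq_one.mpr (⟨orderOf_dvd_iff_pow_eq_one.mp (Subgroup.orderOf_dvd_natCard Qb h1),
      by rw [← pow_mul, ← pow_succ, hbp]⟩ : (b ^ p ^ e) ^ Nat.card Qb = 1 ∧ (b ^ p ^ e) ^ p = 1)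
    rw [hQc.gcd_eq_one, pow_one] at h3
    exact hbe h3
  have hbN : Subgroup.zpowers b ≤ Subgroup.normalizer (Qb : Set ((H ⧸ Φ) ⧸ V)) :=
    Subgroup.le_normalizer_of_normal
  have hbc : (Nat.card (Subgroup.zpowers b)).Coprime (Nat.card Qb) := by
    rw [Nat.card_zpowers]
    exact (hQc.symm.pow_left (e + 1)).coprime_dvd_left (orderOf_dvd_of_pow_eq_one hbp)
  obtain ⟨q, hq, S, hSN, hSc⟩ : ∃ (q : ℕ) (_ : Fact q.Prime) (S : Sylow q Qb),
      Subgroup.zpowers b ≤ Subgroup.normalizer ((S : Subgroup Qb).map Qb.subtype : Set ((H ⧸ Φ) ⧸ V)) ∧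
      b ^ p ^ e ∉ Subgroup.centralizer ((S : Subgroup Qb).map Qb.subtype : Set ((H ⧸ Φ) ⧸ V)) := by
    by_contra hcon
    push Not at hcon
    refine hnc ?_
    have htop : (Subgroup.centralizer ({b ^ p ^ e} : Set ((H ⧸ Φ) ⧸ V))).subgroupOf Qb = ⊤ := by
      refine Subgroup.eq_top_of_card_eq _ (Nat.dvd_antisymm (Subgroup.card_subgroup_dvd_card _) ?_)
      refine (Nat.dvd_iff_prime_pow_dvd_dvd _ _).mpr fun q k hq hk => ?_
      haveI := Fact.mk hq
      obtain ⟨S, hS⟩ := exists_invariant_sylow hbN hbc (Or.inl inferInstance) q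
      have h1 := hcon q inferInstance S hS
      refine (S.pow_dvd_card_of_pow_dvd_card hk).trans (Subgroup.card_dvd_of_le fun s hs => ?_)
      rw [Subgroup.mem_subgroupOf, Subgroup.mem_centralizer_singleton_iff]
      exact Subgroup.mem_centralizer_iff.mp h1 _ (Subgroup.mem_map_of_mem _ hs)
    rw [Subgroup.mem_centralizer_iff]
    intro y hy
    have h1 : (⟨y, hy⟩ : Qb) ∈ (Subgroup.centralizer ({b ^ p ^ e} : Set ((H ⧸ Φ) ⧸ V))).subgroupOf Qb :=
      htop ▸ Subgroup.mem_top _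
    rw [Subgroup.mem_subgroupOf, Subgroup.mem_centralizer_singleton_iff] at h1
    exact h1
  haveI := hq
  set A := (S : Subgroup Qb).map Qb.subtype with hA
  have hAq : IsPGroup q A := S.2.map _
  have hAcard : (Nat.card A).Coprime p :=
    hQc.coprime_dvd_left (Subgroup.card_dvd_of_le (Subgroup.map_subtype_le _))
  have hAne : A ≠ ⊥ := fun h => hSc (by rw [h, Subgroup.mem_centralizer_iff]; simp)
  have hqp : q ≠ p := by
    rintro rfl
    obtain ⟨k, hk⟩ := IsPGroup.iff_card.mp hAq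
    rcases k with _ | k
    · exact hAne (Subgroup.eq_bot_of_card_eq A (by rw [hk, pow_zero]))
    · rw [hk] at hAcard
      exact hp.out.ne_one (Nat.Coprime.eq_one_of_dvd hAcard.symm (dvd_pow_self q k.succ_ne_zero))
  have hno : NoExc p q A := hab.imp id fun hab hq2 => by
    subst hq2
    rintro ⟨u, hu⟩ ⟨w, hw⟩
    obtain ⟨P, hP⟩ := exists_sylow_cover (f := π.comp ψ) (hπs.comp hψs) hAq
    obtain ⟨u', hu', rfl⟩ := hP hu
    obtain ⟨w', hw', rfl⟩ := hP hw
    have h1 := (hab P P.2).is_comm.comm ⟨u', hu'⟩ ⟨w', hw'⟩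
    refine Subtype.ext ?_
    show π.comp ψ u' * π.comp ψ w' = π.comp ψ w' * π.comp ψ u'
    rw [← map_mul, ← map_mul]
    exact congrArg _ (congrArg Subtype.val h1)
  obtain ⟨v, hv, hne'⟩ := exists_mul_pow_ne' (m := e) hp2 hqp.symm V hVc hVp hCV (a := a)
    (by rw [hap]; exact one_mem _) A hAq hno (hSN (Subgroup.mem_zpowers b))
    (by rw [map_pow]; exact hSc)
  refine hne' ?_
  obtain ⟨r, rfl⟩ := hψs v
  have hr : r ∈ Cfsg.pCore p H := hVR.le hv
  rw [hap, ha, ← map_mul, ← map_pow, hexp _ ?_, map_one]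
  obtain ⟨k, hk⟩ := hx
  have hmem : (r * x) ^ p ^ k ∈ Cfsg.pCore p H := by
    rw [← QuotientGroup.eq_one_iff, QuotientGroup.mk_pow, QuotientGroup.mk_mul,
      (QuotientGroup.eq_one_iff r).mpr hr, one_mul, ← QuotientGroup.mk_pow, hk, QuotientGroup.mk_one]
  obtain ⟨l, hl⟩ := (isPGroup_pCore p H) ⟨_, hmem⟩
  exact ⟨k + l, by rw [pow_add, pow_mul]; simpa using congrArg Subtype.val hl⟩

end CfsgLib.Core.HHCritical
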